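import Mathlib
import Cfsg.Agent.Lib.LyG25
import Cfsg.Agent.Lib.LyV111.Main

/-!
# The presented Lyons group: words and elements

Elements of `⟨a, b, c, d⟩` are handled as words in the letters, numbered `0, …, 7`; the code of a word
decides equalities between them, since the subgroup is isomorphic to `G₂(5)`.
-/

set_option autoImplicit false
set_option maxRecDepth 100000
set_option linter.all false

namespace Cfsg.Agent.Lib.LyDce

open Cfsg Cfsg.Spor Cfsg.Lie Cfsg.Agent.Lib.TcFacts Cfsg.Agent.Lib.TcBits Cfsg.Agent.Lib.TcPres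
  Cfsg.Agent.Lib.TcRel Cfsg.Agent.Lib.TcChain Cfsg.Spor.Ly Cfsg.Agent.Lib.ChevG25 Cfsg.Agent.Lib.FpVec
  Cfsg.Agent.Lib.LyG25

/-- The presented group. -/
abbrev G := PresentedGroup RB

/-- The generators of the subgroup. -/
abbrev SLi : List Gen := Cfsg.Agent.TcData.Ly.R1.SL

/-- The subgroup. -/
abbrev HB : Subgroup G := subOf RB SLi

/-- A variant of `iso_of_surj_simple` which says what the isomorphism does. -/
theorem iso_spec' {P Q G : Type*} [Group P] [Group Q] [Group G] [IsSimpleGroup G] (T : Subgroup P) (H : Subgroup Q)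
    (π : P →* Q) (φ : P →* G) (hπ : T.map π = H) (hφ : T.map φ = ⊤) {N : ℕ}
    (hT0 : Nat.card T ≠ 0) (hT : Nat.card T ≤ N) (hG : Nat.card G = N) (hH : H ≠ ⊥) :
    ∃ e : H ≃* G, ∀ (t : P) (ht : t ∈ T) (hh : π t ∈ H), e ⟨π t, hh⟩ = φ t := by
  classical
  haveI : Finite T := Nat.finite_of_card_ne_zero hT0
  have hN : N ≠ 0 := by
    intro h
    rw [h] at hT
    exact hT0 (Nat.le_zero.mp hT)
  haveI : Finite G := Nat.finite_of_card_ne_zero (by rw [hG]; exact hN)
  let π' : T →* H := (π.comp T.subtype).codRestrict H (by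
    intro x
    rw [← hπ]
    exact Subgroup.mem_map_of_mem π x.2)
  have hπs : Function.Surjective π' := by
    rintro ⟨y, hy⟩
    rw [← hπ] at hy
    obtain ⟨x, hx, rfl⟩ := hy
    exact ⟨⟨x, hx⟩, rfl⟩
  let φ' : T →* G := φ.comp T.subtype
  have hφs : Function.Surjective φ' := by
    intro y
    have hy : y ∈ T.map φ := by rw [hφ]; trivial
    obtain ⟨x, hx, rfl⟩ := hy
    exact ⟨⟨x, hx⟩, rfl⟩
  have hφb : Function.Bijective φ' := hφs.bijective_of_nat_card_le (by omega)
  let e : T ≃* G := MulEquiv.ofBijective φ' hφb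
  haveI : IsSimpleGroup T := e.isSimpleGroup
  have hinj : Function.Injective π' := by
    rw [injective_iff_map_eq_one]
    have hk := (IsSimpleGroup.eq_bot_or_eq_top_of_normal π'.ker inferInstance)
    rcases hk with hk | hk
    · intro x hx
      have : x ∈ π'.ker := hx
      rw [hk] at this
      exact (Subgroup.mem_bot.1 this)
    · exfalso
      apply hH
      rw [eq_bot_iff]
      intro y hy
      obtain ⟨x, hx⟩ := hπs ⟨y, hy⟩
      have h2 : x ∈ π'.ker := by rw [hk]; trivial
      have h3 : π' x = 1 := h2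
      rw [hx] at h3
      exact Subgroup.mem_bot.2 (congrArg Subtype.val h3)
  let E := MulEquiv.ofBijective π' ⟨hinj, hπs⟩
  refine ⟨E.symm.trans e, ?_⟩
  intro t ht hh
  have h1 : E ⟨t, ht⟩ = ⟨π t, hh⟩ := rfl
  have h2 : E.symm ⟨π t, hh⟩ = ⟨t, ht⟩ := by
    rw [← h1]
    exact E.symm_apply_apply _
  show e (E.symm ⟨π t, hh⟩) = φ t
  rw [h2]
  rfl

theorem mem_HB_of {x : Gen} (hx : x ∈ SLi) : (PresentedGroup.of x : G) ∈ HB :=
  Subgroup.subset_closure ⟨x, hx, rfl⟩

theorem psi_exists : ∃ e : HB ≃* GG, ∀ (x : Gen) (hx : x ∈ SLi), e ⟨PresentedGroup.of x, mem_HB_of hx⟩ = fG x := by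
  obtain ⟨e, he⟩ := iso_spec' TT HB pi phi pi_map phi_surj t3.1 (N := 5859000000)
    (by
      have := t3.2
      norm_num at this
      exact this) card_GG
    (by
      intro h
      apply Cfsg.Agent.Lib.LyV111.a_ne_one
      have h9 : (PresentedGroup.of Gen.a : G) ∈ HB := mem_HB_of (by decide)
      rw [h] at h9
      exact Subgroup.mem_bot.1 h9)
  refine ⟨e, fun x hx => ?_⟩
  have h1 : (PresentedGroup.of x : PresentedGroup RS) ∈ TT := Subgroup.subset_closure ⟨x, hx, rfl⟩
  have h2 := he _ h1 (by rw [pi_of]; exact mem_HB_of hx)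
  rw [phi_of] at h2
  rw [← h2]
  congr 1

/-- The isomorphism of the subgroup with `G₂(5)`. -/
noncomputable def psi : HB ≃* GG := Classical.choose psi_exists

theorem psi_of (x : Gen) (hx : x ∈ SLi) : psi ⟨PresentedGroup.of x, mem_HB_of hx⟩ = fG x :=
  Classical.choose_spec psi_exists x hx

/-- The code `c` represents the element `x` of the subgroup. -/
def R (c : List ℕ) (x : G) : Prop := ∃ h : x ∈ HB, Rep ((psi ⟨x, h⟩ : GG) : GL IdG K) c

theorem R.mem {c : List ℕ} {x : G} (h : R c x) : x ∈ HB := h.1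

theorem R.mul {c d : List ℕ} {x y : G} (hx : R c x) (hy : R d y) : R (mulC c d) (x * y) := by
  obtain ⟨h1, h2⟩ := hx
  obtain ⟨h3, h4⟩ := hy
  refine ⟨HB.mul_mem h1 h3, ?_⟩
  have : (⟨x * y, HB.mul_mem h1 h3⟩ : HB) = ⟨x, h1⟩ * ⟨y, h3⟩ := rfl
  rw [this, map_mul]
  exact h2.mul h4

theorem R.one : R idC (1 : G) := by
  refine ⟨HB.one_mem, ?_⟩
  have : (⟨1, HB.one_mem⟩ : HB) = 1 := rfl
  rw [this, map_one]
  exact rep_one

theorem R.unique {c : List ℕ} {x y : G} (hx : R c x) (hy : R c y) : x = y := by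
  obtain ⟨h1, h2⟩ := hx
  obtain ⟨h3, h4⟩ := hy
  have h5 := rep_unique h2 h4
  have h6 : psi ⟨x, h1⟩ = psi ⟨y, h3⟩ := Subtype.ext h5
  have h7 := psi.injective h6
  exact congrArg Subtype.val h7

theorem R.of {x : Gen} (hx : x ∈ SLi) : R (cP x) (PresentedGroup.of x : G) := by
  refine ⟨mem_HB_of hx, ?_⟩
  rw [psi_of x hx]
  exact fG_rep x

theorem R.ofi {x : Gen} (hx : x ∈ SLi) : R (cM x) (PresentedGroup.of x : G)⁻¹ := by
  refine ⟨HB.inv_mem (mem_HB_of hx), ?_⟩
  have : (⟨(PresentedGroup.of x : G)⁻¹, HB.inv_mem (mem_HB_of hx)⟩ : HB) = ⟨PresentedGroup.of x, mem_HB_of hx⟩⁻¹ := rfl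
  rw [this, map_inv, psi_of x hx]
  exact fG_inv_rep x

/-- The letters of the subgroup. -/
noncomputable def ltH : ℕ → G
  | 0 => PresentedGroup.of .a
  | 1 => (PresentedGroup.of .a)⁻¹
  | 2 => PresentedGroup.of .b
  | 3 => (PresentedGroup.of .b)⁻¹
  | 4 => PresentedGroup.of .c
  | 5 => (PresentedGroup.of .c)⁻¹
  | 6 => PresentedGroup.of .d
  | 7 => (PresentedGroup.of .d)⁻¹
  | _ => 1

/-- The code of a letter. -/
def cN : ℕ → List ℕ
  | 0 => cP .a
  | 1 => cM .a
  | 2 => cP .b
  | 3 => cM .b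
  | 4 => cP .c
  | 5 => cM .c
  | 6 => cP .d
  | 7 => cM .d
  | _ => idC

theorem R_lt (i : ℕ) : R (cN i) (ltH i) := by
  match i with
  | 0 => exact R.of (by decide)
  | 1 => exact R.ofi (by decide)
  | 2 => exact R.of (by decide)
  | 3 => exact R.ofi (by decide)
  | 4 => exact R.of (by decide)
  | 5 => exact R.ofi (by decide)
  | 6 => exact R.of (by decide)
  | 7 => exact R.ofi (by decide)
  | n + 8 => exact R.one

/-- The element of a word. -/
noncomputable def eh (l : List ℕ) : G := (l.map ltH).prod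

theorem eh_nil : eh [] = 1 := rfl

theorem eh_cons (i : ℕ) (l : List ℕ) : eh (i :: l) = ltH i * eh l := by simp [eh]

theorem eh_append (a b : List ℕ) : eh (a ++ b) = eh a * eh b := by simp [eh]

theorem ltH_mem (i : ℕ) : ltH i ∈ HB := (R_lt i).mem

theorem eh_mem (l : List ℕ) : eh l ∈ HB := by
  induction l with
  | nil => exact HB.one_mem
  | cons i l ih =>
    rw [eh_cons]
    exact HB.mul_mem (ltH_mem i) ih

/-- The inverse of a letter. -/
def invH : ℕ → ℕ
  | 0 => 1
  | 1 => 0
  | 2 => 3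
  | 3 => 2
  | 4 => 5
  | 5 => 4
  | 6 => 7
  | 7 => 6
  | _ => 8

theorem ltH_inv (i : ℕ) : ltH (invH i) = (ltH i)⁻¹ := by
  match i with
  | 0 => rfl
  | 1 => exact (inv_inv _).symm
  | 2 => rfl
  | 3 => exact (inv_inv _).symm
  | 4 => rfl
  | 5 => exact (inv_inv _).symm
  | 6 => rfl
  | 7 => exact (inv_inv _).symm
  | n + 8 => exact (inv_one).symm

/-- The inverse of a word of the subgroup. -/
def invL (l : List ℕ) : List ℕ := (l.map invH).reverse

theorem invL_cons (i : ℕ) (l : List ℕ) : invL (i :: l) = invL l ++ [invH i] := by simp [invL]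

theorem eh_invL (l : List ℕ) : eh (invL l) = (eh l)⁻¹ := by
  induction l with
  | nil => simp [invL, eh]
  | cons i l ih =>
    have h2 : eh [invH i] = ltH (invH i) := by simp [eh]
    rw [invL_cons, eh_append, ih, h2, ltH_inv, eh_cons, mul_inv_rev]

/-- The matrix on the index type of the group from a matrix on `Fin 14`. -/
def decM (m : Matrix (Fin 14) (Fin 14) K) : Matrix IdG IdG K := fun i j => m (eI i) (eI j)

theorem decM_mul (a b : Matrix (Fin 14) (Fin 14) K) : decM (a * b) = decM a * decM b := by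
  ext i j
  rw [Matrix.mul_apply]
  show (a * b) (eI i) (eI j) = _
  rw [Matrix.mul_apply, ← Equiv.sum_comp eI]
  rfl

theorem decM_one : decM 1 = 1 := by
  ext i j
  show (1 : Matrix (Fin 14) (Fin 14) K) (eI i) (eI j) = _
  rw [Matrix.one_apply, Matrix.one_apply]
  simp only [EmbeddingLike.apply_eq_iff_eq]

/-- The matrix of a word of the subgroup. -/
theorem psi_eh (l : List ℕ) : (((psi ⟨eh l, eh_mem l⟩ : GG) : GL IdG K) : Matrix IdG IdG K) =
    decM (l.map fun a => mat 256 5 14 (cN a)).prod := by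
  induction l with
  | nil =>
    have : (⟨eh [], eh_mem []⟩ : HB) = 1 := rfl
    rw [this, map_one]
    simp [decM_one]
  | cons i l ih =>
    have h2 : (⟨eh (i :: l), eh_mem (i :: l)⟩ : HB) = ⟨ltH i, ltH_mem i⟩ * ⟨eh l, eh_mem l⟩ := by
      apply Subtype.ext
      exact eh_cons i l
    rw [h2, map_mul, List.map_cons, List.prod_cons, decM_mul, ← ih]
    show (((psi ⟨ltH i, ltH_mem i⟩ : GG) : GL IdG K) : Matrix IdG IdG K) * _ = _
    obtain ⟨h3, h4⟩ := R_lt i
    rw [h4.2]
    rfl

theorem cN_valid (i : ℕ) : validC 256 5 14 (cN i) = true := by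
  match i with
  | 0 => decide +kernel
  | 1 => decide +kernel
  | 2 => decide +kernel
  | 3 => decide +kernel
  | 4 => decide +kernel
  | 5 => decide +kernel
  | 6 => decide +kernel
  | 7 => decide +kernel
  | n + 8 => exact (show validC 256 5 14 idC = true by decide +kernel)

/-- A word of the subgroup acting trivially on the basis is trivial. -/
theorem eh_eq_one (l : List ℕ) (h : ∀ i, i < 14 → wordV 256 5 14 cN l (256 ^ i) = 256 ^ i) : eh l = 1 := by
  have h1 := prod_eq_one par cN_valid l h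
  have h2 := psi_eh l
  rw [h1, decM_one] at h2
  have h3 : ((psi ⟨eh l, eh_mem l⟩ : GG) : GL IdG K) = 1 := Units.ext h2
  have h4 : psi ⟨eh l, eh_mem l⟩ = 1 := Subtype.ext h3
  have h5 := (map_eq_one_iff psi psi.injective).mp h4
  exact congrArg Subtype.val h5

/-- Two words of the subgroup have the same element: the check. -/
def EqW (a b : List ℕ) : Prop := ∀ i, i < 14 → wordV 256 5 14 cN (a ++ invL b) (256 ^ i) = 256 ^ i

instance (a b : List ℕ) : Decidable (EqW a b) := Nat.decidableBallLT _ _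

theorem eh_eq {a b : List ℕ} (h : EqW a b) : eh a = eh b := by
  have h1 := eh_eq_one _ h
  rw [eh_append, eh_invL] at h1
  exact eq_of_mul_inv_eq_one h1

/-- The generator `z`. -/
noncomputable def Z : G := PresentedGroup.of .z

/-- The letters with `z`. -/
noncomputable def ltZ : ℕ → G
  | 8 => Z
  | 9 => Z⁻¹
  | n => ltH n

/-- The element of a word with `z`. -/
noncomputable def ez (l : List ℕ) : G := (l.map ltZ).prod

theorem ez_append (a b : List ℕ) : ez (a ++ b) = ez a * ez b := by simp [ez]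

theorem ez_cons (i : ℕ) (l : List ℕ) : ez (i :: l) = ltZ i * ez l := by simp [ez]

/-- The inverse of a word. -/
def invN (l : List ℕ) : List ℕ := (l.map (fun x => Nat.xor x 1)).reverse

theorem ltZ_inv (i : ℕ) (hi : i < 10) : ltZ (Nat.xor i 1) = (ltZ i)⁻¹ := by
  interval_cases i <;> first | rfl | exact (inv_inv _).symm

theorem ez_invN (l : List ℕ) (hl : ∀ i ∈ l, i < 10) : ez (invN l) = (ez l)⁻¹ := by
  induction l with
  | nil => simp [ez, invN]
  | cons i l ih =>
    have : invN (i :: l) = invN l ++ [Nat.xor i 1] := by simp [invN]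
    have h2 : ez [Nat.xor i 1] = ltZ (Nat.xor i 1) := by simp [ez]
    rw [this, ez_append, h2, ih (fun j hj => hl j (List.mem_cons_of_mem _ hj)), ez_cons, mul_inv_rev,
      ltZ_inv i (hl i List.mem_cons_self)]

theorem ez_eq_eh (l : List ℕ) (hl : ∀ i ∈ l, i < 8) : ez l = eh l := by
  induction l with
  | nil => rfl
  | cons i l ih =>
    rw [ez_cons, eh_cons, ih (fun j hj => hl j (List.mem_cons_of_mem _ hj))]
    congr 1
    have := hl i List.mem_cons_self
    interval_cases i <;> rfl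

/-- The expansion of a generator. -/
def exL : Gen → List ℕ
  | .a => [0]
  | .b => [2]
  | .c => [4]
  | .d => [6]
  | .z => [8]
  | .e => [3,3,1,5,0,4,1,4,0,6,4,2,0,3,6,4,6]
  | .a1 => [0]
  | .a2 => [2,0,3]
  | .a3 => [2,2,0,3,3]
  | .a4 => [3,3,0,2,2]
  | .c1 => [4]
  | .c2 => [1,4,0]
  | .c3 => [3,4,2]
  | .c4 => [2,4,3]
  | .c5 => [5,1,5,0,4,1,4,0]
  | .u => [0,0]
  | .x23 => [6]
  | .x24 => [7]
  | .x25 => [2,2,1,3,1,2,2,5,0,4,1,5,6,5,2,2,1,4,2]
  | .x29 => [0,2,1,2,2,1,2,2,5,0,4,2,4,3,6,4,3,3,6,4,2,4]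
  | .x47 => [5,7,1,5,1,2,5,7]
  | .x96 => [2,6]
  | .x129 => [7,3]
  | .x162 => [1,3,1,2,5,3,0,5,2,0]
  | .x163 => [3,3,0,4,1,2,4,2]
  | .x164 => [1,3,1,4,0,2,0]
  | .x165 => [3,1,2,4,3,0,2]
  | .x166 => [2,2,1,3,4,2,0,4,3,3,5]
  | .x167 => [1,1,1]
  | .x168 => [2,1,3,1,1]
  | .x169 => [0,2,2,0,3,3,1]
  | .x364 => [1,6,3,5,1,2,5,7,2,5,3,1,5,0,3,0,2,0,3]
  | .x365 => [0,3,3,1,4,2,5,2,1,5,5,6,4,0,4,1,4,3,7]
  | .x366 => [2,0,3,1,3,3,1,3,4,2,2,4,2,6,4,3,3,6,4,2,4]
  | .x367 => [5,3,5,7,2,2,5,7,3,5,3,3,5,2,0,2,2,0,2,1,3]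
  | .x368 => [1,5,7,0,5,3,0,5,7,1,5,0,4,3,3,5,3,1,3,3]
  | .x369 => [1,5,7,2,1,3,5,7,2,1,3,5,3,0,3,3,0,3]
  | .x370 => [7,0,4,2,4,1,5,7,0,3,1,4,1,3,3,1,2,1]
  | .x371 => [5,1,4,2,5,7,4,1,4,0,4,3,1,3,1,2]

/-- The expansion of a signed letter. -/
def sg (a : Gen × Bool) : List ℕ := if a.2 then exL a.1 else invN (exL a.1)

/-- The expansion of a word. -/
def subN (L : List (Gen × Bool)) : List ℕ := L.flatMap sg

/-- The generator equals its expansion. -/
def GoodL (x : Gen) : Prop := (PresentedGroup.of x : G) = ez (exL x)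

theorem exL_lt (x : Gen) : ∀ i ∈ exL x, i < 10 := by
  cases x <;> decide

theorem mk_sub (L : List (Gen × Bool)) (h : ∀ p ∈ L, GoodL p.1) :
    PresentedGroup.mk RB (FreeGroup.mk L) = ez (subN L) := by
  induction L with
  | nil => rfl
  | cons p L ih =>
    have h1 : (FreeGroup.mk (p :: L) : FreeGroup Gen) = FreeGroup.mk [p] * FreeGroup.mk L := by
      rw [FreeGroup.mul_mk]; rfl
    have h2 : subN (p :: L) = sg p ++ subN L := by simp [subN]
    rw [h1, map_mul, ih (fun q hq => h q (List.mem_cons_of_mem _ hq)), h2, ez_append]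
    congr 1
    obtain ⟨x, b⟩ := p
    have hg := h (x, b) List.mem_cons_self
    cases b
    · have : (FreeGroup.mk [(x, false)] : FreeGroup Gen) = (FreeGroup.of x)⁻¹ := by
        rw [FreeGroup.of, FreeGroup.inv_mk]; rfl
      rw [this, map_inv]
      show (PresentedGroup.of x : G)⁻¹ = _
      rw [hg]
      show _ = ez (invN (exL x))
      rw [ez_invN _ (exL_lt x)]
    · show (PresentedGroup.of x : G) = _
      rw [hg]
      rfl

/-- The relators. -/
theorem rel_mk {r : FreeGroup Gen} (hr : r ∈ extra) : PresentedGroup.mk RB r = 1 :=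
  Cfsg.Agent.TcData.Ly.hrel _ (List.mem_append_right _ (List.mem_append_left _ hr))

/-- A check for a generator defined by a relator. -/
def stepOK (gl : List Gen) (i : ℕ) (x : Gen) : Bool :=
  decide (i < extra.length) &&
  match (extra.getD i 1).toWord with
  | [] => false
  | p :: tail =>
    decide (p = (x, true)) && decide (∀ q ∈ tail, q.1 ∈ gl) && decide (∀ j ∈ subN tail, j < 8) &&
      decide (∀ j ∈ exL x, j < 8) && decide (EqW (exL x) (invN (subN tail)))

theorem step_sound (gl : List Gen) (hgl : ∀ y ∈ gl, GoodL y) (i : ℕ) (x : Gen) (h : stepOK gl i x = true) :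
    GoodL x := by
  unfold stepOK at h
  rw [Bool.and_eq_true] at h
  obtain ⟨h0, h⟩ := h
  have h0' : i < extra.length := of_decide_eq_true h0
  have hmem : extra.getD i 1 ∈ extra := by
    rw [List.getD_eq_getElem _ _ h0']
    exact List.getElem_mem _
  have hr := rel_mk hmem
  rw [← FreeGroup.mk_toWord (x := extra.getD i 1)] at hr
  revert h hr
  generalize (extra.getD i 1).toWord = L
  intro h hr
  cases L with
  | nil => simp at h
  | cons p tail =>
    simp only [Bool.and_eq_true, decide_eq_true_eq] at h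
    obtain ⟨⟨⟨⟨h1, h2⟩, h3⟩, h4⟩, h5⟩ := h
    subst h1
    have h6 : (FreeGroup.mk ((x, true) :: tail) : FreeGroup Gen) = FreeGroup.of x * FreeGroup.mk tail := by
      rw [FreeGroup.of, FreeGroup.mul_mk]; rfl
    rw [h6, map_mul, mk_sub tail (fun q hq => hgl _ (h2 q hq))] at hr
    have h7 : (PresentedGroup.of x : G) * ez (subN tail) = 1 := hr
    have h8 : (PresentedGroup.of x : G) = (ez (subN tail))⁻¹ := eq_inv_of_mul_eq_one_left h7
    show (PresentedGroup.of x : G) = ez (exL x)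
    rw [h8, ez_eq_eh _ h4, eh_eq h5, ← ez_eq_eh (invN (subN tail)), ez_invN]
    · intro j hj
      have := h3 j hj
      omega
    · intro j hj
      simp only [invN, List.mem_reverse, List.mem_map] at hj
      obtain ⟨a, ha, rfl⟩ := hj
      have := h3 a ha
      interval_cases a <;> decide

/-- The checks of all the definitions. -/
def runDefs : List Gen → List (ℕ × Gen) → Bool
  | _, [] => true
  | gl, (i, x) :: ds => stepOK gl i x && runDefs (x :: gl) ds

theorem run_sound : ∀ (ds : List (ℕ × Gen)) (gl : List Gen), (∀ y ∈ gl, GoodL y) → runDefs gl ds = true →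
    ∀ p ∈ ds, GoodL p.2 := by
  intro ds
  induction ds with
  | nil => intro gl _ _ p hp; simp at hp
  | cons d ds ih =>
    intro gl hgl h p hp
    obtain ⟨i, x⟩ := d
    have h2 : (stepOK gl i x && runDefs (x :: gl) ds) = true := h
    rw [Bool.and_eq_true] at h2
    have hx : GoodL x := step_sound gl hgl i x h2.1
    rcases List.mem_cons.mp hp with rfl | hp
    · exact hx
    · refine ih (x :: gl) ?_ h2.2 p hp
      intro y hy
      rcases List.mem_cons.mp hy with rfl | hy
      · exact hx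
      · exact hgl y hy

/-- The definitions. -/
def defsL : List (ℕ × Gen) := [(5, .c1), (6, .c2), (7, .c3), (8, .c4), (9, .c5), (28, .e), (44, .a1), (45, .a2), (46, .a3), (47, .a4), (48, .u), (49, .x23), (50, .x24), (51, .x25), (52, .x29), (53, .x47), (54, .x96), (55, .x129), (56, .x162), (57, .x163), (58, .x164), (59, .x165), (60, .x166), (61, .x167), (62, .x168), (63, .x169), (64, .x364), (65, .x365), (66, .x366), (67, .x367), (68, .x368), (69, .x369), (70, .x370), (71, .x371)]

theorem good_base : ∀ y ∈ [Gen.a, .b, .c, .d, .z], GoodL y := by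
  intro y hy
  simp only [List.mem_cons, List.not_mem_nil, or_false] at hy
  rcases hy with rfl | rfl | rfl | rfl | rfl <;> simp [GoodL, exL, ez, ltZ, ltH, Z]

theorem run_ok : runDefs [Gen.a, .b, .c, .d, .z] defsL = true := by decide +kernel

theorem good_all (x : Gen) : GoodL x := by
  have h : x ∈ [Gen.a, .b, .c, .d, .z] ∨ x ∈ defsL.map Prod.snd := by
    cases x <;> decide
  rcases h with h | h
  · exact good_base x h
  · obtain ⟨p, hp, rfl⟩ := List.mem_map.mp h
    exact run_sound _ _ good_base run_ok p hp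

theorem mk_ez (L : List (Gen × Bool)) : PresentedGroup.mk RB (FreeGroup.mk L) = ez (subN L) :=
  mk_sub L (fun p _ => good_all p.1)

/-- A relator in terms of words. -/
theorem rel_ez {i : ℕ} (hi : i < extra.length) : ez (subN (extra.getD i 1).toWord) = 1 := by
  have hmem : extra.getD i 1 ∈ extra := by
    rw [List.getD_eq_getElem _ _ hi]
    exact List.getElem_mem _
  have hr := rel_mk hmem
  rw [← FreeGroup.mk_toWord (x := extra.getD i 1), mk_ez] at hr
  exact hr

end Cfsg.Agent.Lib.LyDce
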