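import Mathlib
import Cfsg.Agent.Lib.LyDce.Base

/-!
# The presented Lyons group: the relators in words, the double cosets and their arcs
-/

set_option autoImplicit false
set_option maxRecDepth 100000
set_option linter.all false
set_option Elab.async false
set_option maxHeartbeats 0

namespace Cfsg.Agent.Lib.LyDce

open Cfsg Cfsg.Spor Cfsg.Lie Cfsg.Agent.Lib.TcFacts Cfsg.Agent.Lib.TcBits Cfsg.Agent.Lib.TcPres
  Cfsg.Agent.Lib.TcRel Cfsg.Agent.Lib.TcChain Cfsg.Spor.Ly Cfsg.Agent.Lib.ChevG25 Cfsg.Agent.Lib.FpVec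
  Cfsg.Agent.Lib.LyG25

/-- Words for the letters of the subgroup `K₁` (the generators and their inverses). -/
def kLs : List (List ℕ) := [[4], [5], [1,4,0], [1,5,0], [3,4,2], [3,5,2], [2,4,3], [2,5,3], [5,1,5,0,4,1,4,0], [1,5,0,5,1,4,0,4], [0], [1], [2,0,3], [2,1,3], [2,2,0,3,3], [2,2,1,3,3]]

/-- Their conjugates by `z`. -/
def tLs : List (List ℕ) := [[1,3,1,2,5,3,0,5,2,0], [1,3,4,1,2,4,3,0,2,0], [3,3,0,4,1,2,4,2], [3,5,3,0,5,1,2,2], [1,3,1,4,0,2,0], [1,3,1,5,0,2,0], [3,1,2,4,3,0,2], [3,1,2,5,3,0,2], [2,2,1,3,4,2,0,4,3,3,5], [4,2,2,5,1,3,5,2,0,3,3], [1,1,1], [0,0,0], [2,1,3,1,1], [0,0,2,0,3], [0,2,2,0,3,3,1], [0,2,2,1,3,3,1]]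

/-- A word for a letter of `K₁`. -/
def kLet (i : ℕ) : List ℕ := kLs.getD i []

/-- A word for the conjugate of a letter of `K₁`. -/
def tLet (i : ℕ) : List ℕ := tLs.getD i []

/-- The word of an element of `K₁`. -/
def kW (l : List ℕ) : List ℕ := l.flatMap kLet

/-- The word of the conjugate by `z` of an element of `K₁`. -/
def tW (l : List ℕ) : List ℕ := l.flatMap tLet

theorem extra_length : extra.length = 86 := by decide +kernel

theorem lt8_ez {l : List ℕ} (h : ∀ i ∈ l, i < 8) : ez l = eh l := ez_eq_eh l h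

theorem ez_8 : ez [8] = Z := by simp [ez, ltZ]

theorem ez_9 : ez [9] = Z⁻¹ := by simp [ez, ltZ]

/-- The inverse of a word of the subgroup. -/
theorem eh_invN (l : List ℕ) (h : ∀ i ∈ l, i < 8) : eh (invN l) = (eh l)⁻¹ := by
  rw [← lt8_ez h, ← ez_invN l (fun i hi => by have := h i hi; omega), lt8_ez]
  intro j hj
  simp only [invN, List.mem_reverse, List.mem_map] at hj
  obtain ⟨a, ha, rfl⟩ := hj
  have := h a ha
  interval_cases a <;> decide

theorem K_words : ∀ j, j < 8 →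
    subN (extra.getD (72 + j) 1).toWord = [9] ++ kLet (2 * j) ++ [8] ++ invN (tLet (2 * j)) := by
  decide +kernel

theorem K_lt : ∀ j, j < 16 → (∀ i ∈ kLet j, i < 8) ∧ (∀ i ∈ tLet j, i < 8) := by decide +kernel

theorem K_odd : ∀ j, j < 8 → kLet (2 * j + 1) = invN (kLet (2 * j)) ∧ tLet (2 * j + 1) = invN (tLet (2 * j)) := by
  decide +kernel

theorem K_even {j : ℕ} (hj : j < 8) : eh (kLet (2 * j)) * Z = Z * eh (tLet (2 * j)) := by
  have h := rel_ez (i := 72 + j) (by rw [extra_length]; omega)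
  rw [K_words j hj, ez_append, ez_append, ez_append, ez_9, ez_8, ez_invN _ (fun i hi => by
    have := (K_lt _ (by omega : 2 * j < 16)).2 i hi
    omega), lt8_ez (K_lt _ (by omega : 2 * j < 16)).1, lt8_ez (K_lt _ (by omega : 2 * j < 16)).2] at h
  have h2 : Z⁻¹ * (eh (kLet (2 * j)) * Z) = eh (tLet (2 * j)) := by
    have := eq_of_mul_inv_eq_one h
    rw [← mul_assoc]
    exact this
  rw [← h2]
  group

theorem K_letter (i : ℕ) : eh (kLet i) * Z = Z * eh (tLet i) := by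
  by_cases hi : i < 16
  · rcases Nat.even_or_odd' i with ⟨j, rfl | rfl⟩
    · exact K_even (by omega)
    · have hj : j < 8 := by omega
      obtain ⟨h1, h2⟩ := K_odd j hj
      rw [h1, h2, eh_invN _ (K_lt _ (by omega : 2 * j < 16)).1, eh_invN _ (K_lt _ (by omega : 2 * j < 16)).2]
      have := K_even hj
      have h3 : Z = eh (kLet (2 * j)) * Z * (eh (tLet (2 * j)))⁻¹ := by rw [this]; group
      calc (eh (kLet (2 * j)))⁻¹ * Z = (eh (kLet (2 * j)))⁻¹ * (eh (kLet (2 * j)) * Z * (eh (tLet (2 * j)))⁻¹) := by rw [← h3]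
        _ = Z * (eh (tLet (2 * j)))⁻¹ := by group
  · have h1 : kLet i = [] := by
      unfold kLet
      rw [List.getD_eq_default]
      have : kLs.length = 16 := rfl
      omega
    have h2 : tLet i = [] := by
      unfold tLet
      rw [List.getD_eq_default]
      have : tLs.length = 16 := rfl
      omega
    rw [h1, h2, eh_nil, one_mul, mul_one]

theorem eh_flatMap_cons (f : ℕ → List ℕ) (i : ℕ) (l : List ℕ) :
    eh ((i :: l).flatMap f) = eh (f i) * eh (l.flatMap f) := by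
  rw [List.flatMap_cons, eh_append]

/-- The conjugation by `z` on `K₁`. -/
theorem kW_rel (l : List ℕ) : eh (kW l) * Z = Z * eh (tW l) := by
  induction l with
  | nil =>
    show eh [] * Z = Z * eh []
    rw [eh_nil, one_mul, mul_one]
  | cons i l ih =>
    show eh ((i :: l).flatMap kLet) * Z = Z * eh ((i :: l).flatMap tLet)
    rw [eh_flatMap_cons, eh_flatMap_cons, mul_assoc]
    show eh (kLet i) * (eh (kW l) * Z) = Z * (eh (tLet i) * eh (tW l))
    rw [ih, ← mul_assoc, K_letter, mul_assoc]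

/-- The word of `u`. -/
def uW : List ℕ := [0,0]

theorem Z_words : subN (extra.getD 80 1).toWord = [8, 8] ++ invN uW := by decide +kernel

theorem Z_sq : Z * Z = eh uW := by
  have h := rel_ez (i := 80) (by rw [extra_length]; omega)
  rw [Z_words, ez_append, ez_invN _ (by decide), lt8_ez (l := uW) (by decide), ez_cons, ez_8] at h
  have h2 := eq_of_mul_inv_eq_one h
  exact h2

/-- The word of `a4`. -/
def a4W : List ℕ := [3,3,0,2,2]

/-- The words of the second triangle. -/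
def q47 : List ℕ := [5,7,1,5,1,2,5,7]
def q364 : List ℕ := [1,6,3,5,1,2,5,7,2,5,3,1,5,0,3,0,2,0,3]
def q368 : List ℕ := [1,5,7,0,5,3,0,5,7,1,5,0,4,3,3,5,3,1,3,3]

theorem T0_words : subN (extra.getD 81 1).toWord = a4W ++ [8] ++ a4W ++ [8] ++ a4W ++ [8] ++ uW := by decide +kernel

theorem T1_words : subN (extra.getD 82 1).toWord = q47 ++ [8] ++ q364 ++ [8] ++ q368 ++ [8] := by decide +kernel

theorem T0_eq : eh a4W * (Z * (eh a4W * (Z * (eh a4W * (Z * eh uW))))) = 1 := by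
  have h := rel_ez (i := 81) (by rw [extra_length]; omega)
  rw [T0_words] at h
  simp only [ez_append, ez_8] at h
  rw [lt8_ez (l := a4W) (by decide), lt8_ez (l := uW) (by decide)] at h
  rw [← h]
  group

theorem T1_eq : eh q47 * (Z * (eh q364 * (Z * (eh q368 * Z)))) = 1 := by
  have h := rel_ez (i := 82) (by rw [extra_length]; omega)
  rw [T1_words] at h
  simp only [ez_append, ez_8] at h
  rw [lt8_ez (l := q47) (by decide), lt8_ez (l := q364) (by decide), lt8_ez (l := q368) (by decide)] at h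
  rw [← h]
  group

/-- The form of a triangle: `q₀ z q₁ z q₂ z = 1`. -/
def Tri (a b c : G) : Prop := a * Z * (b * Z * (c * Z)) = 1

theorem Tri.rot {a b c : G} (h : Tri a b c) : Tri b c a := by
  unfold Tri at h ⊢
  have h2 : (a * Z) * (b * Z * (c * Z)) = 1 := h
  have h3 := mul_eq_one_comm.mp h2
  rw [← h3]
  group

def q0a : List ℕ := uW ++ a4W

theorem rel0r0 : eh (uW ++ a4W) * Z * (eh a4W * Z * (eh a4W * Z)) = 1 := by
  rw [eh_append]
  have h := T0_eq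
  have h2 : eh uW * (eh a4W * (Z * (eh a4W * (Z * (eh a4W * (Z * eh uW)))))) * (eh uW)⁻¹ = 1 := by
    rw [h]; group
  rw [← h2]
  group

theorem rel0r1 : eh a4W * Z * (eh a4W * Z * (eh (uW ++ a4W) * Z)) = 1 := Tri.rot rel0r0

theorem rel0r2 : eh a4W * Z * (eh (uW ++ a4W) * Z * (eh a4W * Z)) = 1 := Tri.rot rel0r1

theorem rel1r0 : eh q47 * Z * (eh q364 * Z * (eh q368 * Z)) = 1 := by
  rw [← T1_eq]
  group

theorem rel1r1 : eh q364 * Z * (eh q368 * Z * (eh q47 * Z)) = 1 := Tri.rot rel1r0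

theorem rel1r2 : eh q368 * Z * (eh q47 * Z * (eh q364 * Z)) = 1 := Tri.rot rel1r1

/-- The words of the double coset representatives. -/
def hkL : ℕ → List ℕ
  | 2 => [6]
  | 3 => [2,6]
  | _ => [2,0,3,1,3,3,1,3,4,2,2,4,2,6,4,3,3,6,4,2,4]

/-- The representatives of the double cosets. -/
noncomputable def W : ℕ → G
  | 0 => 1
  | 1 => Z
  | (k + 2) => Z * eh (hkL (k + 2)) * Z

/-- The elements of the subgroup whose conjugate by `W k` is in the subgroup. -/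
noncomputable def A (k : ℕ) : Subgroup G := HB ⊓ HB.comap (MulAut.conj (W k)).toMonoidHom

theorem mem_A {k : ℕ} {y : G} : y ∈ A k ↔ y ∈ HB ∧ W k * y * (W k)⁻¹ ∈ HB := by
  rw [A, Subgroup.mem_inf, Subgroup.mem_comap]
  rfl

/-- The right coset of `W k * eh w` goes to the right coset of `W k' * eh w'` under `z`. -/
def Arc (k k' : ℕ) (w w' : List ℕ) : Prop := (W k * eh w * Z) * (W k' * eh w')⁻¹ ∈ HB

theorem tr_aux {Wk Wk' x x' y y' κ τ : G}
    (h0 : (Wk * x * Z) * (Wk' * x')⁻¹ ∈ HB) (hy : Wk * y * Wk⁻¹ ∈ HB) (hy' : Wk' * y' * Wk'⁻¹ ∈ HB)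
    (hκ : κ * Z = Z * τ) : (Wk * (y * x * κ) * Z) * (Wk' * (y' * x' * τ))⁻¹ ∈ HB := by
  have h1 : κ * Z * τ⁻¹ = Z := by rw [hκ]; group
  have e : (Wk * (y * x * κ) * Z) * (Wk' * (y' * x' * τ))⁻¹ =
      (Wk * y * Wk⁻¹) * ((Wk * x * Z) * (Wk' * x')⁻¹) * (Wk' * y' * Wk'⁻¹)⁻¹ := by
    calc (Wk * (y * x * κ) * Z) * (Wk' * (y' * x' * τ))⁻¹
        = Wk * y * x * (κ * Z * τ⁻¹) * x'⁻¹ * y'⁻¹ * Wk'⁻¹ := by group
      _ = Wk * y * x * Z * x'⁻¹ * y'⁻¹ * Wk'⁻¹ := by rw [h1]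
      _ = _ := by group
  rw [e]
  exact HB.mul_mem (HB.mul_mem hy h0) (HB.inv_mem hy')

theorem Arc.tr (w₂ w₂' : List ℕ) {k k' : ℕ} {w w' y y' : List ℕ} (F : Arc k k' w w') (hy : eh y ∈ A k)
    (hy' : eh y' ∈ A k') (l : List ℕ) (h1 : EqW w₂ (y ++ w ++ kW l))
    (h2 : EqW w₂' (y' ++ w' ++ tW l)) : Arc k k' w₂ w₂' := by
  unfold Arc at F ⊢
  rw [eh_eq h1, eh_eq h2, eh_append, eh_append, eh_append, eh_append]
  exact tr_aux F (mem_A.mp hy).2 (mem_A.mp hy').2 (kW_rel l)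

theorem tri {k0 k1 k2 : ℕ} {h0 h1 h2 q0 q1 q2 : List ℕ} (A0 : Arc k0 k1 (h0 ++ q0) h1)
    (A1 : Arc k1 k2 (h1 ++ q1) h2) (hr : eh q0 * Z * (eh q1 * Z * (eh q2 * Z)) = 1) :
    Arc k2 k0 (h2 ++ q2) h0 := by
  unfold Arc at A0 A1 ⊢
  rw [eh_append] at A0 A1 ⊢
  have h3 : eh q2 * Z = (eh q0 * Z * (eh q1 * Z))⁻¹ := by
    apply eq_inv_of_mul_eq_one_right
    rw [← hr]
    group
  have e : (W k2 * (eh h2 * eh q2) * Z) * (W k0 * eh h0)⁻¹ =
      ((W k1 * (eh h1 * eh q1) * Z) * (W k2 * eh h2)⁻¹)⁻¹ * ((W k0 * (eh h0 * eh q0) * Z) * (W k1 * eh h1)⁻¹)⁻¹ := by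
    calc (W k2 * (eh h2 * eh q2) * Z) * (W k0 * eh h0)⁻¹
        = W k2 * eh h2 * (eh q2 * Z) * (W k0 * eh h0)⁻¹ := by group
      _ = _ := by rw [h3]; group
  rw [e]
  exact HB.mul_mem (HB.inv_mem A1) (HB.inv_mem A0)

theorem Arc.rev (w₂ : List ℕ) {k k' : ℕ} {w w' : List ℕ} (F : Arc k k' w w') (h : EqW w₂ (w ++ uW)) :
    Arc k' k w' w₂ := by
  unfold Arc at F ⊢
  rw [eh_eq h, eh_append]
  have hz : Z * (eh uW)⁻¹ = Z⁻¹ := by
    rw [← Z_sq]; group
  have e : (W k' * eh w' * Z) * (W k * (eh w * eh uW))⁻¹ = ((W k * eh w * Z) * (W k' * eh w')⁻¹)⁻¹ := by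
    calc (W k' * eh w' * Z) * (W k * (eh w * eh uW))⁻¹
        = W k' * eh w' * (Z * (eh uW)⁻¹) * (eh w)⁻¹ * (W k)⁻¹ := by group
      _ = _ := by rw [hz]; group
  rw [e]
  exact HB.inv_mem F

theorem arc_base : Arc 0 1 [] [] := by
  unfold Arc
  have : W 0 * eh [] * Z * (W 1 * eh [])⁻¹ = 1 := by
    simp [W, eh_nil]
  rw [this]
  exact HB.one_mem

theorem arc_def2 : Arc 1 2 (hkL 2) [] := by
  unfold Arc
  have : W 1 * eh (hkL 2) * Z * (W 2 * eh [])⁻¹ = 1 := by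
    simp [W, eh_nil]
  rw [this]
  exact HB.one_mem

theorem arc_def3 : Arc 1 3 (hkL 3) [] := by
  unfold Arc
  have : W 1 * eh (hkL 3) * Z * (W 3 * eh [])⁻¹ = 1 := by
    simp [W, eh_nil]
  rw [this]
  exact HB.one_mem

theorem arc_def4 : Arc 1 4 (hkL 4) [] := by
  unfold Arc
  have : W 1 * eh (hkL 4) * Z * (W 4 * eh [])⁻¹ = 1 := by
    simp [W, eh_nil]
  rw [this]
  exact HB.one_mem

theorem mem0 (w : List ℕ) : eh w ∈ A 0 := by
  rw [mem_A]
  refine ⟨eh_mem w, ?_⟩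
  have : W 0 * eh w * (W 0)⁻¹ = eh w := by simp [W]
  rw [this]
  exact eh_mem w

theorem mem1 (l : List ℕ) : eh (tW l) ∈ A 1 := by
  rw [mem_A]
  refine ⟨eh_mem _, ?_⟩
  have : W 1 * eh (tW l) * (W 1)⁻¹ = eh (kW l) := by
    show Z * eh (tW l) * Z⁻¹ = eh (kW l)
    rw [← kW_rel l]
    group
  rw [this]
  exact eh_mem _

/-- An element from a stabiliser in `K₁` of a coset. -/
theorem mem_chain (k : ℕ) (s s2 : List ℕ) (h : EqW (hkL (k + 2) ++ kW s) (tW s2 ++ hkL (k + 2))) :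
    eh (tW s) ∈ A (k + 2) := by
  rw [mem_A]
  refine ⟨eh_mem _, ?_⟩
  have h1 := eh_eq h
  rw [eh_append, eh_append] at h1
  have : W (k + 2) * eh (tW s) * (W (k + 2))⁻¹ = eh (kW s2) := by
    have e : W (k + 2) * eh (tW s) = eh (kW s2) * W (k + 2) := by
      show Z * eh (hkL (k + 2)) * Z * eh (tW s) = eh (kW s2) * (Z * eh (hkL (k + 2)) * Z)
      calc Z * eh (hkL (k + 2)) * Z * eh (tW s)
          = Z * eh (hkL (k + 2)) * (Z * eh (tW s)) := by group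
        _ = Z * eh (hkL (k + 2)) * (eh (kW s) * Z) := by rw [kW_rel]
        _ = Z * (eh (hkL (k + 2)) * eh (kW s)) * Z := by group
        _ = Z * (eh (tW s2) * eh (hkL (k + 2))) * Z := by rw [h1]
        _ = (Z * eh (tW s2)) * eh (hkL (k + 2)) * Z := by group
        _ = (eh (kW s2) * Z) * eh (hkL (k + 2)) * Z := by rw [kW_rel]
        _ = _ := by group
    rw [e]
    group
  rw [this]
  exact eh_mem _

theorem mem_invL {k : ℕ} {w : List ℕ} (h : eh w ∈ A k) : eh (invL w) ∈ A k := by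
  rw [eh_invL w]
  exact (A k).inv_mem h

theorem mem_flat {k : ℕ} {L : List (List ℕ)} (hL : ∀ w ∈ L, eh w ∈ A k) (e : List ℕ) :
    eh (e.flatMap (fun i => L.getD i [])) ∈ A k := by
  induction e with
  | nil => exact (A k).one_mem
  | cons i e ih =>
    rw [eh_flatMap_cons]
    refine (A k).mul_mem ?_ ih
    rw [List.getD_eq_getElem?_getD]
    cases hi : L[i]? with
    | none => exact (A k).one_mem
    | some w =>
      simp only [Option.getD_some]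
      exact hL w (List.mem_of_getElem? hi)

/-- The word of `x29`. -/
def x29W : List ℕ := [0,2,1,2,2,1,2,2,5,0,4,2,4,3,6,4,3,3,6,4,2,4]
/-- The word of `x369`. -/
def x369W : List ℕ := [1,5,7,2,1,3,5,7,2,1,3,5,3,0,3,3,0,3]
/-- The word of `x25`. -/
def x25W : List ℕ := [2,2,1,3,1,2,2,5,0,4,1,5,6,5,2,2,1,4,2]
/-- The word of `x371`. -/
def x371W : List ℕ := [5,1,4,2,5,7,4,1,4,0,4,3,1,3,1,2]
/-- The word of `x365`. -/
def x365W : List ℕ := [0,3,3,1,4,2,5,2,1,5,5,6,4,0,4,1,4,3,7]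
/-- The word of `x370`. -/
def x370W : List ℕ := [7,0,4,2,4,1,5,7,0,3,1,4,1,3,3,1,2,1]

theorem Y2_words : subN (extra.getD 83 1).toWord = [9] ++ invN (hkL 2) ++ [9] ++ x369W ++ [8] ++ hkL 2 ++ [8] ++ x29W := by
  decide +kernel

theorem Y3_words : subN (extra.getD 85 1).toWord = [8] ++ hkL 3 ++ [8] ++ x25W ++ [9] ++ invN (hkL 3) ++ [9] ++ x371W := by
  decide +kernel

theorem Y4_words : subN (extra.getD 84 1).toWord = [8] ++ hkL 4 ++ [8] ++ x365W ++ [9] ++ invN (hkL 4) ++ [9] ++ x370W := by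
  decide +kernel

theorem x29_mem : eh x29W ∈ A 2 := by
  rw [mem_A]
  refine ⟨eh_mem _, ?_⟩
  have h := rel_ez (i := 83) (by rw [extra_length]; omega)
  rw [Y2_words] at h
  simp only [ez_append, ez_8, ez_9] at h
  rw [ez_invN _ (by decide), lt8_ez (l := hkL 2) (by decide), lt8_ez (l := x369W) (by decide), lt8_ez (l := x29W) (by decide)] at h
  have e : W 2 * eh x29W * (W 2)⁻¹ = (eh x369W)⁻¹ := by
    show Z * eh (hkL 2) * Z * eh x29W * (Z * eh (hkL 2) * Z)⁻¹ = (eh x369W)⁻¹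
    have h2 : eh x29W * (Z * eh (hkL 2) * Z)⁻¹ = (Z * eh (hkL 2) * Z)⁻¹ * (eh x369W)⁻¹ * ((Z * eh (hkL 2) * Z) * (Z * eh (hkL 2) * Z)⁻¹) := by
      have h3 : (Z * eh (hkL 2) * Z)⁻¹ * (eh x369W * (Z * eh (hkL 2) * Z * eh x29W)) = 1 := by
        rw [← h]; group
      have h4 : eh x29W = (Z * eh (hkL 2) * Z)⁻¹ * (eh x369W)⁻¹ * (Z * eh (hkL 2) * Z) := by
        have h5 := eq_inv_of_mul_eq_one_left (a := (Z * eh (hkL 2) * Z)⁻¹ * (eh x369W * (Z * eh (hkL 2) * Z))) (b := eh x29W) (by rw [← h3]; group)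
        have h6 : eh x29W = ((Z * eh (hkL 2) * Z)⁻¹ * (eh x369W * (Z * eh (hkL 2) * Z)))⁻¹ := by
          apply eq_inv_of_mul_eq_one_right
          rw [← h3]; group
        rw [h6]; group
      rw [h4]; group
    rw [mul_assoc, h2]; group
  rw [e]
  exact HB.inv_mem (eh_mem _)

theorem x25_mem : eh x25W ∈ A 3 := by
  rw [mem_A]
  refine ⟨eh_mem _, ?_⟩
  have h := rel_ez (i := 85) (by rw [extra_length]; omega)
  rw [Y3_words] at h
  simp only [ez_append, ez_8, ez_9] at h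
  rw [ez_invN _ (by decide), lt8_ez (l := hkL 3) (by decide), lt8_ez (l := x25W) (by decide), lt8_ez (l := x371W) (by decide)] at h
  have e : W 3 * eh x25W * (W 3)⁻¹ = (eh x371W)⁻¹ := by
    show Z * eh (hkL 3) * Z * eh x25W * (Z * eh (hkL 3) * Z)⁻¹ = (eh x371W)⁻¹
    apply eq_inv_of_mul_eq_one_left
    rw [← h]; group
  rw [e]
  exact HB.inv_mem (eh_mem _)

theorem x365_mem : eh x365W ∈ A 4 := by
  rw [mem_A]
  refine ⟨eh_mem _, ?_⟩
  have h := rel_ez (i := 84) (by rw [extra_length]; omega)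
  rw [Y4_words] at h
  simp only [ez_append, ez_8, ez_9] at h
  rw [ez_invN _ (by decide), lt8_ez (l := hkL 4) (by decide), lt8_ez (l := x365W) (by decide), lt8_ez (l := x370W) (by decide)] at h
  have e : W 4 * eh x365W * (W 4)⁻¹ = (eh x370W)⁻¹ := by
    show Z * eh (hkL 4) * Z * eh x365W * (Z * eh (hkL 4) * Z)⁻¹ = (eh x370W)⁻¹
    apply eq_inv_of_mul_eq_one_left
    rw [← h]; group
  rw [e]
  exact HB.inv_mem (eh_mem _)

theorem ch2_0 : eh (tW [2,1,15,6,0,7,11,6,1,1]) ∈ A 2 := mem_chain 0 [2,1,15,6,0,7,11,6,1,1] [11,15] (by decide +kernel)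

theorem ch2_1 : eh (tW [2,1,15,6,2,11,4,13,3]) ∈ A 2 := mem_chain 0 [2,1,15,6,2,11,4,13,3] [10,15,13] (by decide +kernel)

theorem ch2_2 : eh (tW [2,1,15,6,4,1,12,2]) ∈ A 2 := mem_chain 0 [2,1,15,6,4,1,12,2] [14,13] (by decide +kernel)

/-- The first generators of the stabiliser at level 2. -/
def BL2 : List (List ℕ) := [tW [2,1,15,6,0,7,11,6,1,1], invL (tW [2,1,15,6,0,7,11,6,1,1]), tW [2,1,15,6,2,11,4,13,3], invL (tW [2,1,15,6,2,11,4,13,3]), tW [2,1,15,6,4,1,12,2], invL (tW [2,1,15,6,4,1,12,2]), x29W, invL (x29W)]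

theorem BL2_mem : ∀ w ∈ BL2, eh w ∈ A 2 := by
  intro w hw
  simp only [BL2, List.mem_cons, List.not_mem_nil, or_false] at hw
  rcases hw with rfl | rfl | rfl | rfl | rfl | rfl | rfl | rfl
  · exact ch2_0
  · exact mem_invL ch2_0
  · exact ch2_1
  · exact mem_invL ch2_1
  · exact ch2_2
  · exact mem_invL ch2_2
  · exact x29_mem
  · exact mem_invL x29_mem

theorem sh2_0 : eh [0] ∈ A 2 := by
  rw [eh_eq (show EqW [0] ([0,2,5,0].flatMap (fun i => BL2.getD i [])) by decide +kernel)]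
  exact mem_flat BL2_mem _

theorem sh2_1 : eh [0,0,0,0,0,0,2,0,3] ∈ A 2 := by
  rw [eh_eq (show EqW [0,0,0,0,0,0,2,0,3] ([2,2,0,3].flatMap (fun i => BL2.getD i [])) by decide +kernel)]
  exact mem_flat BL2_mem _

theorem sh2_2 : eh [0,0,0,0,0,3,0,2,2] ∈ A 2 := by
  rw [eh_eq (show EqW [0,0,0,0,0,3,0,2,2] ([0,3,4,2].flatMap (fun i => BL2.getD i [])) by decide +kernel)]
  exact mem_flat BL2_mem _

theorem sh2_3 : eh [0,0,4,2,1,3,6,5,6] ∈ A 2 := by
  rw [eh_eq (show EqW [0,0,4,2,1,3,6,5,6] ([5,7,5,0,7,4].flatMap (fun i => BL2.getD i [])) by decide +kernel)]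
  exact mem_flat BL2_mem _

/-- Generators of the stabiliser at level 2, and their inverses. -/
def Y2 : List (List ℕ) := [[0], invL [0], [0,0,0,0,0,0,2,0,3], invL [0,0,0,0,0,0,2,0,3], [0,0,0,0,0,3,0,2,2], invL [0,0,0,0,0,3,0,2,2], [0,0,4,2,1,3,6,5,6], invL [0,0,4,2,1,3,6,5,6]]

theorem Y2_mem : ∀ w ∈ Y2, eh w ∈ A 2 := by
  intro w hw
  simp only [Y2, List.mem_cons, List.not_mem_nil, or_false] at hw
  rcases hw with rfl | rfl | rfl | rfl | rfl | rfl | rfl | rfl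
  · exact sh2_0
  · exact mem_invL sh2_0
  · exact sh2_1
  · exact mem_invL sh2_1
  · exact sh2_2
  · exact mem_invL sh2_2
  · exact sh2_3
  · exact mem_invL sh2_3

theorem memY2 (e : List ℕ) : eh (e.flatMap (fun i => Y2.getD i [])) ∈ A 2 := mem_flat Y2_mem e

theorem ch3_0 : eh (tW [0,7,4,14,12,10,0,10,12,15,7,3,1]) ∈ A 3 := mem_chain 1 [0,7,4,14,12,10,0,10,12,15,7,3,1] [10,10,10,10] (by decide +kernel)

theorem ch3_1 : eh (tW [0,7,4,14,12,10,2,11,2,13,5,14,1]) ∈ A 3 := mem_chain 1 [0,7,4,14,12,10,2,11,2,13,5,14,1] [11,11] (by decide +kernel)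

theorem ch3_2 : eh (tW [0,7,4,14,12,10,12,4,10,3,13,15,1]) ∈ A 3 := mem_chain 1 [0,7,4,14,12,10,12,4,10,3,13,15,1] [12] (by decide +kernel)

theorem ch3_3 : eh (tW [0,7,4,14,12,10,14,11,13,3,14,8,1]) ∈ A 3 := mem_chain 1 [0,7,4,14,12,10,14,11,13,3,14,8,1] [14] (by decide +kernel)

/-- The first generators of the stabiliser at level 3. -/
def BL3 : List (List ℕ) := [tW [0,7,4,14,12,10,0,10,12,15,7,3,1], invL (tW [0,7,4,14,12,10,0,10,12,15,7,3,1]), tW [0,7,4,14,12,10,2,11,2,13,5,14,1], invL (tW [0,7,4,14,12,10,2,11,2,13,5,14,1]), tW [0,7,4,14,12,10,12,4,10,3,13,15,1], invL (tW [0,7,4,14,12,10,12,4,10,3,13,15,1]), tW [0,7,4,14,12,10,14,11,13,3,14,8,1], invL (tW [0,7,4,14,12,10,14,11,13,3,14,8,1]), x25W, invL (x25W)]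

theorem BL3_mem : ∀ w ∈ BL3, eh w ∈ A 3 := by
  intro w hw
  simp only [BL3, List.mem_cons, List.not_mem_nil, or_false] at hw
  rcases hw with rfl | rfl | rfl | rfl | rfl | rfl | rfl | rfl | rfl | rfl
  · exact ch3_0
  · exact mem_invL ch3_0
  · exact ch3_1
  · exact mem_invL ch3_1
  · exact ch3_2
  · exact mem_invL ch3_2
  · exact ch3_3
  · exact mem_invL ch3_3
  · exact x25_mem
  · exact mem_invL x25_mem

theorem sh3_0 : eh [0] ∈ A 3 := by
  rw [eh_eq (show EqW [0] ([0,5].flatMap (fun i => BL3.getD i [])) by decide +kernel)]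
  exact mem_flat BL3_mem _

theorem sh3_1 : eh [0,0,0,0,0,0,2,0,3] ∈ A 3 := by
  rw [eh_eq (show EqW [0,0,0,0,0,0,2,0,3] ([0,6].flatMap (fun i => BL3.getD i [])) by decide +kernel)]
  exact mem_flat BL3_mem _

theorem sh3_2 : eh [0,0,0,3,3,0,2,2,6] ∈ A 3 := by
  rw [eh_eq (show EqW [0,0,0,3,3,0,2,2,6] ([0,4,8,8].flatMap (fun i => BL3.getD i [])) by decide +kernel)]
  exact mem_flat BL3_mem _

theorem sh3_3 : eh [2,2,1,3,1,2,2,5,0,4,1,5,6,5,2,2,1,4,2] ∈ A 3 := by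
  rw [eh_eq (show EqW [2,2,1,3,1,2,2,5,0,4,1,5,6,5,2,2,1,4,2] ([8].flatMap (fun i => BL3.getD i [])) by decide +kernel)]
  exact mem_flat BL3_mem _

/-- Generators of the stabiliser at level 3, and their inverses. -/
def Y3 : List (List ℕ) := [[0], invL [0], [0,0,0,0,0,0,2,0,3], invL [0,0,0,0,0,0,2,0,3], [0,0,0,3,3,0,2,2,6], invL [0,0,0,3,3,0,2,2,6], [2,2,1,3,1,2,2,5,0,4,1,5,6,5,2,2,1,4,2], invL [2,2,1,3,1,2,2,5,0,4,1,5,6,5,2,2,1,4,2]]

theorem Y3_mem : ∀ w ∈ Y3, eh w ∈ A 3 := by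
  intro w hw
  simp only [Y3, List.mem_cons, List.not_mem_nil, or_false] at hw
  rcases hw with rfl | rfl | rfl | rfl | rfl | rfl | rfl | rfl
  · exact sh3_0
  · exact mem_invL sh3_0
  · exact sh3_1
  · exact mem_invL sh3_1
  · exact sh3_2
  · exact mem_invL sh3_2
  · exact sh3_3
  · exact mem_invL sh3_3

theorem memY3 (e : List ℕ) : eh (e.flatMap (fun i => Y3.getD i [])) ∈ A 3 := mem_flat Y3_mem e

theorem ch4_0 : eh (tW [0,11,6,15,0,11,4,15,3,1]) ∈ A 4 := mem_chain 2 [0,11,6,15,0,11,4,15,3,1] [1,1] (by decide +kernel)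

theorem ch4_1 : eh (tW [0,11,6,15,2,6,10,13,11,1]) ∈ A 4 := mem_chain 2 [0,11,6,15,2,6,10,13,11,1] [12,15,3,10] (by decide +kernel)

theorem ch4_2 : eh (tW [0,11,6,15,6,15,6,4,11]) ∈ A 4 := mem_chain 2 [0,11,6,15,6,15,6,4,11] [10,15,4,12,10,15,2,12] (by decide +kernel)

theorem ch4_3 : eh (tW [0,11,6,15,8,14,6,11,5]) ∈ A 4 := mem_chain 2 [0,11,6,15,8,14,6,11,5] [1,12,0,11,6,15] (by decide +kernel)

/-- The first generators of the stabiliser at level 4. -/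
def BL4 : List (List ℕ) := [tW [0,11,6,15,0,11,4,15,3,1], invL (tW [0,11,6,15,0,11,4,15,3,1]), tW [0,11,6,15,2,6,10,13,11,1], invL (tW [0,11,6,15,2,6,10,13,11,1]), tW [0,11,6,15,6,15,6,4,11], invL (tW [0,11,6,15,6,15,6,4,11]), tW [0,11,6,15,8,14,6,11,5], invL (tW [0,11,6,15,8,14,6,11,5]), x365W, invL (x365W)]

theorem BL4_mem : ∀ w ∈ BL4, eh w ∈ A 4 := by
  intro w hw
  simp only [BL4, List.mem_cons, List.not_mem_nil, or_false] at hw
  rcases hw with rfl | rfl | rfl | rfl | rfl | rfl | rfl | rfl | rfl | rfl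
  · exact ch4_0
  · exact mem_invL ch4_0
  · exact ch4_1
  · exact mem_invL ch4_1
  · exact ch4_2
  · exact mem_invL ch4_2
  · exact ch4_3
  · exact mem_invL ch4_3
  · exact x365_mem
  · exact mem_invL x365_mem

theorem sh4_0 : eh [0,0] ∈ A 4 := by
  rw [eh_eq (show EqW [0,0] ([0,7].flatMap (fun i => BL4.getD i [])) by decide +kernel)]
  exact mem_flat BL4_mem _

theorem sh4_1 : eh [0,0,0,0,0,6,4,0,6] ∈ A 4 := by
  rw [eh_eq (show EqW [0,0,0,0,0,6,4,0,6] ([0,4,8,0,9,1].flatMap (fun i => BL4.getD i [])) by decide +kernel)]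
  exact mem_flat BL4_mem _

theorem sh4_2 : eh [0,0,0,0,2,2,2,0,2] ∈ A 4 := by
  rw [eh_eq (show EqW [0,0,0,0,2,2,2,0,2] ([0,0,2,4].flatMap (fun i => BL4.getD i [])) by decide +kernel)]
  exact mem_flat BL4_mem _

theorem sh4_3 : eh [0,0,0,2,0,3,0,6] ∈ A 4 := by
  rw [eh_eq (show EqW [0,0,0,2,0,3,0,6] ([7,8,3,8,6].flatMap (fun i => BL4.getD i [])) by decide +kernel)]
  exact mem_flat BL4_mem _

theorem sh4_4 : eh [0,3,3,1,4,2,5,2,1,5,5,6,4,0,4,1,4,3,7] ∈ A 4 := by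
  rw [eh_eq (show EqW [0,3,3,1,4,2,5,2,1,5,5,6,4,0,4,1,4,3,7] ([8].flatMap (fun i => BL4.getD i [])) by decide +kernel)]
  exact mem_flat BL4_mem _

/-- Generators of the stabiliser at level 4, and their inverses. -/
def Y4 : List (List ℕ) := [[0,0], invL [0,0], [0,0,0,0,0,6,4,0,6], invL [0,0,0,0,0,6,4,0,6], [0,0,0,0,2,2,2,0,2], invL [0,0,0,0,2,2,2,0,2], [0,0,0,2,0,3,0,6], invL [0,0,0,2,0,3,0,6], [0,3,3,1,4,2,5,2,1,5,5,6,4,0,4,1,4,3,7], invL [0,3,3,1,4,2,5,2,1,5,5,6,4,0,4,1,4,3,7]]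

theorem Y4_mem : ∀ w ∈ Y4, eh w ∈ A 4 := by
  intro w hw
  simp only [Y4, List.mem_cons, List.not_mem_nil, or_false] at hw
  rcases hw with rfl | rfl | rfl | rfl | rfl | rfl | rfl | rfl | rfl | rfl
  · exact sh4_0
  · exact mem_invL sh4_0
  · exact sh4_1
  · exact mem_invL sh4_1
  · exact sh4_2
  · exact mem_invL sh4_2
  · exact sh4_3
  · exact mem_invL sh4_3
  · exact sh4_4
  · exact mem_invL sh4_4

theorem memY4 (e : List ℕ) : eh (e.flatMap (fun i => Y4.getD i [])) ∈ A 4 := mem_flat Y4_mem e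

end Cfsg.Agent.Lib.LyDce
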