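import Mathlib
import Cfsg.Agent.Lib.TcRel

/-!
# Walking in a checked coset table

The labels of a checked coset table carry a map to the cosets which is compatible with the letters;
orbits of a subgroup on the cosets can then be certified by a forest on the labels.
-/

set_option autoImplicit false
set_option linter.unusedSimpArgs false
set_option linter.unusedSectionVars false
set_option linter.all false

namespace Cfsg.Agent.Lib.TcCov

open Cfsg.Agent.Lib.TcFacts Cfsg.Agent.Lib.TcBits Cfsg.Agent.Lib.TcPres Cfsg.Agent.Lib.TcRel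

section abstract

variable {G X : Type*} [Group G] [MulAction G X]

/-- The labels of a checked table: the map to the cosets, its compatibility with the table, and covering. -/
theorem good_of_checks (ℓ : ℕ → G) (x0 : X) (ent : ℕ → ℕ → ℕ) (pa wd side : ℕ → ℕ) (base : ℕ → Bool)
    (eps mV bV sR N dg mD fJ fW mW nW aV rT : ℕ)
    (hε : ℓ eps = 1) (h1N : 1 ≤ N)
    (hm : ∀ b, eps < b → ra (ℓ b) x0 = x0)
    (hb : ∀ a, a ≤ eps → base a = true → ra (ℓ a) x0 = x0)
    (hw : ∀ k, k < nW → evL ℓ (decW dg mD (fW + 1) (wd k)) = 1)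
    (heps : eps < 2 ^ dg)
    (hchk : ∀ u, u ≤ N →
      checkRow ent pa wd side base eps mV bV sR N dg mD fJ fW mW nW u = true)
    (hclose : ∀ u, u ≤ N → closeRow ent eps mV sR fJ aV rT u = true)
    (h1 : aliveB ent eps aV 1 = true) :
    ∃ c : ℕ → X, c 1 = x0 ∧ (∀ r, Good ent eps mV sR N ℓ c r) ∧
      ∀ g ∈ Submonoid.closure (ℓ '' {a | a < eps}),
        ∃ t, t ≤ N ∧ aliveB ent eps aV t = true ∧ c t = ra g x0 := by
  classical
  set c := cDef ℓ x0 pa dg with hc
  have hc1 : c 1 = x0 := cDef_one ℓ x0 pa dg
  have E : Env ent pa wd base eps N dg mD fW nW ℓ c :=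
    { hε := hε
      h1 := h1N
      hm := by rw [hc1]; exact hm
      hb := by rw [hc1]; exact hb
      hw := hw
      hc := cDef_eq ℓ x0 pa dg eps heps }
  have hfact : ∀ u a, u ≤ N → a ≤ eps →
      checkFact ent pa wd side base eps mV bV sR N dg mD fJ fW mW nW u a = true := by
    intro u a hu ha
    have key : ∀ n, a < n → Nat.rec (motive := fun _ => Bool) true
        (fun a ih => bAnd (checkFact ent pa wd side base eps mV bV sR N dg mD fJ fW mW nW u a) ih)
        n = true → checkFact ent pa wd side base eps mV bV sR N dg mD fJ fW mW nW u a = true := by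
      intro n
      induction n with
      | zero => intro h; omega
      | succ n ih =>
        intro h1 h2
        dsimp only at h2
        rw [bAnd_eq] at h2
        by_cases h3 : a = n
        · rw [h3]; exact h2.1
        · exact ih (by omega) h2.2
    exact key (Nat.succ eps) (Nat.lt_succ_of_le ha) (hchk u hu)
  have hg := good_all (side := side) (mV := mV) (bV := bV) (sR := sR) (fJ := fJ) (mW := mW) E hfact
  refine ⟨c, hc1, hg, fun g hg1 => ?_⟩
  obtain ⟨t, h2, h3, h4⟩ := reach_alive E hg hclose h1 g hg1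
  exact ⟨t, h2, h3, by rw [h4, hc1]⟩

end abstract

section pres

variable {α : Type} [DecidableEq α] {R : Set (FreeGroup α)}

/-- The labels of a checked table in a presented group. -/
theorem tc_env (H : Subgroup (PresentedGroup R)) (S : List α)
    (gL macros relL : List (FreeGroup α)) (enc : α → Bool → ℕ)
    (hℓ : ∀ x ∈ S, ∀ b, letter R gL macros (enc x b) =
      cond b (PresentedGroup.of x) (PresentedGroup.of x)⁻¹)
    (hL : ∀ x ∈ S, ∀ b, enc x b < gL.length)
    (hrel : ∀ r ∈ relL, PresentedGroup.mk R r = 1)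
    (hrelS : ∀ r ∈ relL, ∀ p ∈ r.toWord, p.1 ∈ S)
    (hmacS : ∀ s ∈ macros, ∀ p ∈ s.toWord, p.1 ∈ S)
    (hmac : ∀ s ∈ macros, PresentedGroup.mk R s ∈ H)
    (ent : ℕ → ℕ → ℕ) (pa wd side : ℕ → ℕ) (base : ℕ → Bool)
    (eps mV bV sR N dg mD fJ fW mW nW aV rT n : ℕ) (hε : eps = gL.length)
    (h1N : 1 ≤ N)
    (hb : ∀ a, a ≤ eps → base a = true → a < eps ∧ PresentedGroup.mk R (gL.getD a 1) ∈ H)
    (Rels : List (List ℕ)) (hRels : Rels = relL.map (fun r => encW enc r.toWord) ++
      (macroRels enc eps macros ++ pairsOf enc S))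
    (hint : ℕ → ℕ)
    (hw : ∀ k, k < nW → rotOK Rels eps (decW dg mD (fW + 1) (wd k)) (hint k) = true)
    (heps : eps < 2 ^ dg)
    (hB : Block (rowF ent pa wd side base eps mV bV sR N dg mD fJ fW mW nW aV rT)
      (aliveB ent eps aV) 0 (N + 1) n)
    (h1 : aliveB ent eps aV 1 = true) :
    ∃ c : ℕ → PresentedGroup R ⧸ H, c 1 = ((1 : PresentedGroup R) : PresentedGroup R ⧸ H) ∧
      (∀ r, Good ent eps mV sR N (letter R gL macros) c r) ∧
      ∀ g ∈ subOf R S, ∃ t, t ≤ N ∧ aliveB ent eps aV t = true ∧
        c t = ra g ((1 : PresentedGroup R) : PresentedGroup R ⧸ H) := by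
  subst hε
  have hε' : letter R gL macros gL.length = 1 := by
    unfold letter
    rw [if_neg (lt_irrefl _), if_pos rfl]
  have hfix : ∀ g, g ∈ H → ra g ((1 : PresentedGroup R) : PresentedGroup R ⧸ H) = ((1 : PresentedGroup R) : PresentedGroup R ⧸ H) := by
    intro g hg
    show g⁻¹ • ((1 : PresentedGroup R) : PresentedGroup R ⧸ H) = _
    rw [MulAction.Quotient.smul_coe]
    simp only [smul_eq_mul, mul_one]
    exact QuotientGroup.eq.mpr (by simpa using hg)
  have hcheck := good_of_checks (letter R gL macros) ((1 : PresentedGroup R) : PresentedGroup R ⧸ H) ent pa wd side base gL.length mV bV sR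
    N dg mD fJ fW mW nW aV rT hε' h1N
    (by
      intro b hb'
      apply hfix
      unfold letter
      rw [if_neg (by omega), if_neg (by omega)]
      apply H.inv_mem
      by_cases h3 : b - gL.length - 1 < macros.length
      · rw [List.getD_eq_getElem _ _ h3]
        exact hmac _ (List.getElem_mem _)
      · rw [List.getD_eq_default _ _ (by omega), map_one]
        exact H.one_mem)
    (by
      intro a ha hb'
      apply hfix
      obtain ⟨h3, h4⟩ := hb a ha hb'
      unfold letter
      rw [if_pos h3]
      exact h4)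
    (by
      intro k hk
      refine evL_of_rotOK hε' ?_ (hw k hk)
      intro B hB'
      rw [hRels, List.mem_append] at hB'
      rcases hB' with hB' | hB'
      · rw [List.mem_map] at hB'
        obtain ⟨r, hr, rfl⟩ := hB'
        rw [evL_encW' hℓ _ (hrelS r hr), hrel r hr]
      · rw [List.mem_append] at hB'
        rcases hB' with hB' | hB'
        · exact evL_macroRels' hℓ hmacS B hB'
        · exact evL_pairsOf' hℓ B hB')
    heps
    (fun u hu => by
      have := hB.1 u (Nat.zero_le _) (by omega)
      rw [rowF, bAnd_eq] at this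
      exact this.1)
    (fun u hu => by
      have := hB.1 u (Nat.zero_le _) (by omega)
      rw [rowF, bAnd_eq] at this
      exact this.2)
    h1
  obtain ⟨c, h2, h3, h4⟩ := hcheck
  exact ⟨c, h2, h3, fun g hg => h4 g (subOf_le_closure hℓ hL g hg)⟩

end pres

/-! ### Forests on the labels -/

/-- Entry of a list of numbers, by the bare recursor. -/
noncomputable def nthD (l : List ℕ) : ℕ → ℕ :=
  List.rec (motive := fun _ => ℕ → ℕ) (fun _ => 0)
    (fun h _ ih i => Nat.rec (motive := fun _ => ℕ) h (fun j _ => ih j) i) l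

theorem nthD_eq (l : List ℕ) (i : ℕ) : nthD l i = l.getD i 0 := by
  induction l generalizing i with
  | nil => simp [nthD]
  | cons h l ih =>
    cases i with
    | zero => simp [nthD]
    | succ j =>
      have : nthD (h :: l) (j + 1) = nthD l j := rfl
      rw [this, ih]
      simp

/-- The packed form of a word, with letters of `5` bits. -/
noncomputable def pk (l : List ℕ) : ℕ :=
  List.rec (motive := fun _ => ℕ) 0 (fun a _ ih => (a + 1) + 32 * ih) l

theorem pk_cons (a : ℕ) (l : List ℕ) : pk (a :: l) = (a + 1) + 32 * pk l := rfl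

theorem land31 (a x : ℕ) (h : a < 32) : Nat.land ((a) + 32 * x) 31 = a := by
  show (a + 32 * x) &&& 31 = a
  have : (31 : ℕ) = 2 ^ 5 - 1 := rfl
  rw [this, Nat.and_two_pow_sub_one_eq_mod]
  omega

theorem shr5 (a x : ℕ) (h : a < 32) : Nat.shiftRight ((a) + 32 * x) 5 = x := by
  show (a + 32 * x) >>> 5 = x
  rw [Nat.shiftRight_eq_div_pow]
  omega

theorem decW_pk (l : List ℕ) (f : ℕ) (hf : l.length ≤ f) (hl : ∀ a ∈ l, a < 31) : decW 5 31 f (pk l) = l := by
  induction l generalizing f with
  | nil =>
    cases f with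
    | zero => rfl
    | succ f => rfl
  | cons a l ih =>
    cases f with
    | zero => simp at hf
    | succ f =>
      have ha := hl a List.mem_cons_self
      have h0 : pk (a :: l) ≠ 0 := by
        rw [pk_cons]; omega
      show (if pk (a :: l) = 0 then [] else (Nat.land (pk (a :: l)) 31 - 1) :: decW 5 31 f (Nat.shiftRight (pk (a :: l)) 5)) = _
      rw [if_neg h0, pk_cons, land31 _ _ (by omega), shr5 _ _ (by omega)]
      simp only [Nat.add_sub_cancel]
      rw [ih f (by simpa using hf) (fun b hb => hl b (List.mem_cons_of_mem _ hb))]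

section forest

variable (ent : ℕ → ℕ → ℕ) (eps mV sR dg mD fJ fW aV rT N : ℕ) (trE : ℕ → ℕ) (rP gP : List ℕ) (rn gn : ℕ)

/-- The walk reaches the label `u`. -/
noncomputable def tgt (s w u : ℕ) : Bool :=
  (fun x => bAnd (Nat.blt 0 x) (Nat.beq (rootJ ent eps mV sR rT fJ x) u)) (walkJ ent eps mV sR dg mD fJ rT fW s w)

/-- The check of the forest at a label: the entry consists of the generator plus one in `6` bits (zero for
a root), the parent (the root number for a root) in `15` bits, then the depth. -/
noncomputable def covRow (u : ℕ) : Bool :=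
  Bool.rec (motive := fun _ => Bool) true
    ((fun e =>
      Nat.rec (motive := fun _ => Bool)
        (bAnd (Nat.blt (Nat.land (Nat.shiftRight e 6) mV) rn)
          (tgt ent eps mV sR dg mD fJ fW rT 1 (nthD rP (Nat.land (Nat.shiftRight e 6) mV)) u))
        (fun g _ =>
          bAnd (Nat.blt g gn)
            (bAnd (Nat.ble (Nat.land (Nat.shiftRight e 6) mV) N)
              (bAnd (aliveB ent eps aV (Nat.land (Nat.shiftRight e 6) mV))
                (bAnd (Nat.beq (Nat.succ (Nat.shiftRight (trE (Nat.land (Nat.shiftRight e 6) mV)) 21)) (Nat.shiftRight e 21))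
                  (tgt ent eps mV sR dg mD fJ fW rT (Nat.land (Nat.shiftRight e 6) mV) (nthD gP g) u)))))
        (Nat.land e 63)) (trE u))
    (aliveB ent eps aV u)

variable {G X : Type*} [Group G] [MulAction G X] {ent eps mV sR dg mD fJ fW aV rT N trE rP gP rn gn}
  {ℓ : ℕ → G} {c : ℕ → X}

theorem tgt_sound (hε : ℓ eps = 1) (h1 : 1 ≤ N) (hm : ∀ b, eps < b → ra (ℓ b) (c 1) = c 1)
    (hg : Good ent eps mV sR N ℓ c rT) {s w u : ℕ} (hs : s ≤ N)
    (h : tgt ent eps mV sR dg mD fJ fW rT s w u = true) :
    c u = ra (evL ℓ (decW dg mD fW w)) (c s) := by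
  unfold tgt at h
  dsimp only at h
  rw [bAnd_eq, blt_true, TcFacts.beq_true] at h
  obtain ⟨h2, h3⟩ := h
  have h4 := walkJ_sound hε h1 hm hg dg mD fJ fW s w hs (by omega)
  have h5 := rootJ_sound hε hg fJ _ h4.1
  rw [h3] at h5
  rw [h5.2, h4.2]

/-- The main property: a predicate on cosets closed under the generators and true at the roots holds at all
alive labels. -/
theorem cov_all (hε : ℓ eps = 1) (h1 : 1 ≤ N) (hm : ∀ b, eps < b → ra (ℓ b) (c 1) = c 1)
    (hg : Good ent eps mV sR N ℓ c rT) (Q : X → Prop)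
    (hQ1 : ∀ j, j < rn → Q (ra (evL ℓ (decW dg mD fW (nthD rP j))) (c 1)))
    (hQ2 : ∀ g x, g < gn → Q x → Q (ra (evL ℓ (decW dg mD fW (nthD gP g))) x))
    (hF : ∀ u, u ≤ N → covRow ent eps mV sR dg mD fJ fW aV rT N trE rP gP rn gn u = true) :
    ∀ u, u ≤ N → aliveB ent eps aV u = true → Q (c u) := by
  have key : ∀ d u, Nat.shiftRight (trE u) 21 = d → u ≤ N → aliveB ent eps aV u = true → Q (c u) := by
    intro d
    induction d using Nat.strong_induction_on with
    | _ d ih =>
      intro u hd hu hal
      have h2 := hF u hu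
      unfold covRow at h2
      rw [hal] at h2
      dsimp only at h2
      revert h2
      generalize hgen : Nat.land (trE u) 63 = gg
      intro h2
      cases gg with
      | zero =>
        replace h2 : bAnd (Nat.blt (Nat.land (Nat.shiftRight (trE u) 6) mV) rn)
          (tgt ent eps mV sR dg mD fJ fW rT 1 (nthD rP (Nat.land (Nat.shiftRight (trE u) 6) mV)) u) = true := h2
        rw [bAnd_eq, blt_true] at h2
        rw [tgt_sound hε h1 hm hg (by omega : 1 ≤ N) h2.2]
        exact hQ1 _ h2.1
      | succ g =>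
        replace h2 : bAnd (Nat.blt g gn)
            (bAnd (Nat.ble (Nat.land (Nat.shiftRight (trE u) 6) mV) N)
              (bAnd (aliveB ent eps aV (Nat.land (Nat.shiftRight (trE u) 6) mV))
                (bAnd (Nat.beq (Nat.succ (Nat.shiftRight (trE (Nat.land (Nat.shiftRight (trE u) 6) mV)) 21)) (Nat.shiftRight (trE u) 21))
                  (tgt ent eps mV sR dg mD fJ fW rT (Nat.land (Nat.shiftRight (trE u) 6) mV) (nthD gP g) u)))) = true := h2
        simp only [bAnd_eq, blt_true, ble_true, TcFacts.beq_true] at h2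
        obtain ⟨h3, h4, h5, h6, h7⟩ := h2
        rw [tgt_sound hε h1 hm hg h4 h7]
        apply hQ2 _ _ h3
        refine ih _ ?_ _ rfl h4 h5
        rw [hd] at h6
        show Nat.shiftRight (trE (Nat.land (Nat.shiftRight (trE u) 6) mV)) 21 < d
        rw [← h6]
        exact Nat.lt_succ_self _
  exact fun u hu hal => key _ u rfl hu hal

end forest

end Cfsg.Agent.Lib.TcCov
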