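import Mathlib
import Cfsg.Agent.Lib.LyDce.Rel
import Cfsg.Agent.Lib.LyDce.TcCov
import Cfsg.Agent.TcData.Ly.K1.Up

/-!
# The presented Lyons group: the orbits of the stabilisers on the cosets of `K₁`
-/

set_option autoImplicit false
set_option maxRecDepth 100000
set_option linter.all false

namespace Cfsg.Agent.Lib.LyDce

open Cfsg Cfsg.Spor Cfsg.Lie Cfsg.Agent.Lib.TcFacts Cfsg.Agent.Lib.TcBits Cfsg.Agent.Lib.TcPres
  Cfsg.Agent.Lib.TcRel Cfsg.Agent.Lib.TcChain Cfsg.Spor.Ly Cfsg.Agent.Lib.ChevG25 Cfsg.Agent.Lib.FpVec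
  Cfsg.Agent.Lib.LyG25 Cfsg.Agent.Lib.TcCov

/-- The subgroup `K₁`. -/
abbrev KK : Subgroup G := Cfsg.Agent.TcData.Ly.K1.HH

/-- The letters of the table. -/
noncomputable abbrev lK : ℕ → G :=
  letter Cfsg.Agent.TcData.Ly.RR Cfsg.Agent.TcData.Ly.K1.gLS Cfsg.Agent.TcData.Ly.K1.macros

theorem lK_eps : lK 26 = 1 := by
  show letter _ _ _ _ = 1
  unfold letter
  have : Cfsg.Agent.TcData.Ly.K1.gLS.length = 26 := rfl
  rw [this, if_neg (lt_irrefl _), if_pos rfl]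

theorem lK_big (b : ℕ) (hb : 26 < b) : lK b = 1 := by
  show letter _ _ _ _ = 1
  unfold letter
  have : Cfsg.Agent.TcData.Ly.K1.gLS.length = 26 := rfl
  rw [this, if_neg (by omega), if_neg (by omega)]
  simp [Cfsg.Agent.TcData.Ly.K1.macros]

theorem lK_lt (j : ℕ) (hj : j < 8) : lK j = ltH j := by
  have h := Cfsg.Agent.TcData.Ly.K1.hℓS
  interval_cases j
  · exact h .a (by decide) true
  · exact h .a (by decide) false
  · exact h .b (by decide) true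
  · exact h .b (by decide) false
  · exact h .c (by decide) true
  · exact h .c (by decide) false
  · exact h .d (by decide) true
  · exact h .d (by decide) false

theorem evL_lK (l : List ℕ) (hl : ∀ a ∈ l, a < 8) : evL lK l = eh l := by
  induction l with
  | nil => rfl
  | cons a l ih =>
    rw [evL_cons, eh_cons, lK_lt a (hl a List.mem_cons_self), ih (fun b hb => hl b (List.mem_cons_of_mem _ hb))]

theorem evL_pk (l : List ℕ) (hl : ∀ a ∈ l, a < 8) (hlen : l.length ≤ 40) :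
    evL lK (decW 5 31 40 (pk l)) = eh l := by
  rw [decW_pk l 40 hlen (fun a ha => by have := hl a ha; omega), evL_lK l hl]

/-- The labels of the table of `K₁`. -/
theorem env : ∃ c : ℕ → G ⧸ KK, c 1 = ((1 : G) : G ⧸ KK) ∧
    (∀ r, Good Cfsg.Agent.TcData.Ly.K1.ent 26 32767 29 29951 lK c r) ∧
    ∀ g ∈ subOf RB Cfsg.Agent.TcData.Ly.K1.SL, ∃ t, t ≤ 29951 ∧
      aliveB Cfsg.Agent.TcData.Ly.K1.ent 26 32768 t = true ∧ c t = ra g ((1 : G) : G ⧸ KK) :=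
  tc_env KK Cfsg.Agent.TcData.Ly.K1.SL Cfsg.Agent.TcData.Ly.K1.gLS Cfsg.Agent.TcData.Ly.K1.macros
    Cfsg.Agent.TcData.Ly.K1.relLS Cfsg.Agent.TcData.Ly.K1.encS Cfsg.Agent.TcData.Ly.K1.hℓS
    Cfsg.Agent.TcData.Ly.K1.hLS Cfsg.Agent.TcData.Ly.K1.hrelS Cfsg.Agent.TcData.Ly.K1.hrelW
    (by simp [Cfsg.Agent.TcData.Ly.K1.macros]) Cfsg.Agent.TcData.Ly.K1.hmac
    Cfsg.Agent.TcData.Ly.K1.ent Cfsg.Agent.TcData.Ly.K1.pa Cfsg.Agent.TcData.Ly.K1.wd
    Cfsg.Agent.TcData.Ly.K1.side Cfsg.Agent.TcData.Ly.K1.base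
    26 32767 15 29 29951 5 31 8 19 16383 950 32768 1048576 19530 rfl
    (by norm_num) Cfsg.Agent.TcData.Ly.K1.hb Cfsg.Agent.TcData.Ly.K1.Rels Cfsg.Agent.TcData.Ly.K1.hRels
    Cfsg.Agent.TcData.Ly.K1.hint Cfsg.Agent.TcData.Ly.K1.hw (by norm_num) Cfsg.Agent.TcData.Ly.K1.c116
    Cfsg.Agent.TcData.Ly.K1.h1alive

theorem HB_le : HB ≤ subOf RB Cfsg.Agent.TcData.Ly.K1.SL := subOf_mono (by decide)

/-- The orbits of a subgroup on the cosets of `K₁`, from a checked forest. -/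
theorem level_cover (k : ℕ) (rW gW : List (List ℕ)) (rP gP : List ℕ) (trE : ℕ → ℕ) (rn gn : ℕ)
    (hrP : rP = rW.map (fun l => pk (invL l))) (hgP : gP = gW.map pk) (hrn : rn = rW.length) (hgn : gn = gW.length)
    (hr8 : ∀ w ∈ rW, (∀ a ∈ w, a < 8) ∧ w.length ≤ 40) (hg8 : ∀ w ∈ gW, (∀ a ∈ w, a < 8) ∧ w.length ≤ 40)
    (hmem : ∀ w ∈ gW, eh w ∈ A k)
    (hF : ∀ u, u ≤ 29951 → covRow Cfsg.Agent.TcData.Ly.K1.ent 26 32767 29 5 31 8 40 32768 1048576 29951 trE rP gP rn gn u = true) :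
    ∀ h ∈ HB, ∃ r ∈ rW, ∃ y ∈ A k, ∃ κ ∈ KK, h = y * eh r * κ := by
  obtain ⟨c, hc1, hg, hcov⟩ := env
  let Q : G ⧸ KK → Prop := fun x => ∃ r ∈ rW, ∃ y ∈ A k, x = ((y * eh r : G) : G ⧸ KK)
  have hinv8 : ∀ w : List ℕ, (∀ a ∈ w, a < 8) → ∀ a ∈ invL w, a < 8 := by
    intro w hw a ha
    simp only [invL, List.mem_reverse, List.mem_map] at ha
    obtain ⟨b, hb, rfl⟩ := ha
    have := hw b hb
    interval_cases b <;> decide
  have hQ1 : ∀ j, j < rn → Q (ra (evL lK (decW 5 31 40 (nthD rP j))) (c 1)) := by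
    intro j hj
    rw [hrn] at hj
    have hr : rW[j] ∈ rW := List.getElem_mem _
    have h1 : nthD rP j = pk (invL rW[j]) := by
      rw [nthD_eq, hrP]
      rw [List.getD_eq_getElem _ _ (by simpa using hj)]
      simp
    rw [h1, evL_pk _ (hinv8 _ (hr8 _ hr).1) (by
      have := (hr8 _ hr).2
      simpa [invL] using this), eh_invL, hc1]
    refine ⟨_, hr, 1, (A k).one_mem, ?_⟩
    show ((eh rW[j])⁻¹)⁻¹ • ((1 : G) : G ⧸ KK) = _
    rw [MulAction.Quotient.smul_coe]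
    simp
  have hQ2 : ∀ g x, g < gn → Q x → Q (ra (evL lK (decW 5 31 40 (nthD gP g))) x) := by
    rintro g x hj ⟨r, hr, y, hy, rfl⟩
    rw [hgn] at hj
    have hw : gW[g] ∈ gW := List.getElem_mem _
    have h1 : nthD gP g = pk gW[g] := by
      rw [nthD_eq, hgP]
      rw [List.getD_eq_getElem _ _ (by simpa using hj)]
      simp
    rw [h1, evL_pk _ (hg8 _ hw).1 (hg8 _ hw).2]
    refine ⟨r, hr, (eh gW[g])⁻¹ * y, (A k).mul_mem ((A k).inv_mem (hmem _ hw)) hy, ?_⟩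
    show (eh gW[g])⁻¹ • ((y * eh r : G) : G ⧸ KK) = _
    rw [MulAction.Quotient.smul_coe]
    simp [mul_assoc]
  have hall := cov_all (ℓ := lK) (c := c) lK_eps (by norm_num)
    (by
      intro b hb
      rw [lK_big b hb, ra_one])
    (hg 1048576) Q hQ1 hQ2 hF
  intro h hh
  obtain ⟨t, ht1, ht2, ht3⟩ := hcov h⁻¹ (HB_le (HB.inv_mem hh))
  obtain ⟨r, hr, y, hy, e⟩ := hall t ht1 ht2
  rw [ht3] at e
  have e2 : ((h : G) : G ⧸ KK) = ((y * eh r : G) : G ⧸ KK) := by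
    rw [← e]
    show _ = (h⁻¹)⁻¹ • ((1 : G) : G ⧸ KK)
    rw [MulAction.Quotient.smul_coe]
    simp
  have e3 : (y * eh r)⁻¹ * h ∈ KK := QuotientGroup.eq.mp e2.symm
  refine ⟨r, hr, y, hy, _, e3, ?_⟩
  group

end Cfsg.Agent.Lib.LyDce
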