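import Mathlib
import Cfsg.Agent.Lib.LyDce.Rel

/-!
# The presented Lyons group: the images under `z` of the double cosets
-/

set_option autoImplicit false
set_option maxRecDepth 100000
set_option linter.all false
set_option Elab.async false
set_option maxHeartbeats 0

namespace Cfsg.Agent.Lib.LyDce

theorem F0 : Arc 0 1 [] [] :=
  (Arc.tr [] [] arc_base (mem0 []) (mem1 []) [] (by decide +kernel) (by decide +kernel))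

theorem F3 : Arc 1 2 [6] [] :=
  (Arc.tr [6] [] arc_def2 (mem1 []) (memY2 []) [] (by decide +kernel) (by decide +kernel))

theorem F4 : Arc 1 3 [2,6] [] :=
  (Arc.tr [2,6] [] arc_def3 (mem1 []) (memY3 []) [] (by decide +kernel) (by decide +kernel))

theorem F9 : Arc 1 4 [6,4,6] [2,5,3,1,5,5] :=
  (Arc.tr [6,4,6] [2,5,3,1,5,5] arc_def4 (mem1 [0,10,15,13,11,7,15]) (memY4 [5]) [15,0,12] (by decide +kernel) (by decide +kernel))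

theorem F1 : Arc 1 0 [] [] :=
  (Arc.tr [] [] (Arc.rev [0,0] (Arc.tr [] [] F0 (mem0 []) (mem1 []) [] (by decide +kernel) (by decide +kernel)) (by decide +kernel)) (mem1 []) (mem0 [1,1]) [] (by decide +kernel) (by decide +kernel))

theorem F5 : Arc 2 1 [] [6] :=
  (Arc.tr [] [6] (Arc.rev [6,0,0] (Arc.tr [6] [] F3 (mem1 []) (memY2 []) [] (by decide +kernel) (by decide +kernel)) (by decide +kernel)) (memY2 []) (mem1 [10,10]) [] (by decide +kernel) (by decide +kernel))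

theorem F6 : Arc 3 1 [] [2,6] :=
  (Arc.tr [] [2,6] (Arc.rev [2,6,0,0] (Arc.tr [2,6] [] F4 (mem1 []) (memY3 []) [] (by decide +kernel) (by decide +kernel)) (by decide +kernel)) (memY3 []) (mem1 [10,10]) [] (by decide +kernel) (by decide +kernel))

theorem F15 : Arc 4 1 [2,5,3,1,5,5] [6,4,4,6] :=
  (Arc.tr [2,5,3,1,5,5] [6,4,4,6] (Arc.rev [6,4,6,0,0] (Arc.tr [6,4,6] [2,5,3,1,5,5] F9 (mem1 []) (memY4 []) [] (by decide +kernel) (by decide +kernel)) (by decide +kernel)) (memY4 []) (mem1 [11,11]) [] (by decide +kernel) (by decide +kernel))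

theorem F2 : Arc 1 1 [2] [2] :=
  (Arc.tr [2] [2] (tri (h0 := [2]) (h1 := []) (h2 := []) (q0 := [3,3,0,2,2]) (q1 := [0,0,3,3,0,2,2]) (q2 := [3,3,0,2,2]) (Arc.tr [2,3,3,0,2,2] [] F1 (mem1 [10,12,15]) (mem0 []) [] (by decide +kernel) (by decide +kernel)) (Arc.tr [0,0,3,3,0,2,2] [] F0 (mem0 [0,0,3,3,0,2,2]) (mem1 []) [] (by decide +kernel) (by decide +kernel)) rel0r2) (mem1 [10,13,15]) (mem1 []) [] (by decide +kernel) (by decide +kernel))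

theorem F11 : Arc 3 2 [3] [3] :=
  (Arc.tr [3] [3] (tri (h0 := [2]) (h1 := [6]) (h2 := []) (q0 := [3,3,0,2,2]) (q1 := [0,0,3,3,0,2,2]) (q2 := [3,3,0,2,2]) (Arc.tr [2,3,3,0,2,2] [6] F5 (memY2 [0,5,5]) (mem1 []) [] (by decide +kernel) (by decide +kernel)) (Arc.tr [6,0,0,3,3,0,2,2] [] F4 (mem1 [14,12,11]) (memY3 []) [] (by decide +kernel) (by decide +kernel)) rel0r2) (memY3 [1,1]) (memY2 [5,0]) [15,13,11] (by decide +kernel) (by decide +kernel))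

theorem F7 : Arc 2 3 [2] [6] :=
  (Arc.tr [2] [6] (tri (h0 := [6]) (h1 := [2,6]) (h2 := []) (q0 := [3,3,0,2,2]) (q1 := [0,0,3,3,0,2,2]) (q2 := [3,3,0,2,2]) (Arc.tr [6,3,3,0,2,2] [2,6] F6 (memY3 [1,4]) (mem1 []) [] (by decide +kernel) (by decide +kernel)) (Arc.tr [2,6,0,0,3,3,0,2,2] [] F3 (mem1 [10,12,15]) (memY2 []) [] (by decide +kernel) (by decide +kernel)) rel0r2) (memY2 [0,4]) (memY3 []) [] (by decide +kernel) (by decide +kernel))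

theorem F10 : Arc 3 3 [2] [2] :=
  (Arc.tr [2] [2] (tri (h0 := [3,0,2,6]) (h1 := [3,6]) (h2 := [3,6]) (q0 := [3,3,0,2,2]) (q1 := [0,0,3,3,0,2,2]) (q2 := [3,3,0,2,2]) (Arc.tr [3,0,2,6,3,3,0,2,2] [3,6] F6 (memY3 [4,3]) (mem1 [14,13,11]) [14,12,10] (by decide +kernel) (by decide +kernel)) (Arc.tr [3,6,0,0,3,3,0,2,2] [3,6] F4 (mem1 [12,11]) (memY3 [0,0,0,4]) [14,12,10] (by decide +kernel) (by decide +kernel)) rel0r2) (memY3 [4,2]) (memY3 [0,0,0,4]) [11,13] (by decide +kernel) (by decide +kernel))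

theorem F22 : Arc 4 4 [6,4,0,2,1,5] [2,0,6,5,1] :=
  (Arc.tr [6,4,0,2,1,5] [2,0,6,5,1] (tri (h0 := [5,2,5,1,4]) (h1 := [6,4,6]) (h2 := [4,1,5,1,4,4]) (q0 := [3,3,0,2,2]) (q1 := [0,0,3,3,0,2,2]) (q2 := [3,3,0,2,2]) (Arc.tr [5,2,5,1,4,3,3,0,2,2] [6,4,6] F15 (memY4 [1,5,6,2,0,2,6]) (mem1 [10,10]) [11,11] (by decide +kernel) (by decide +kernel)) (Arc.tr [6,4,6,0,0,3,3,0,2,2] [4,1,5,1,4,4] F9 (mem1 [4,10,14,12,5,10,15,13]) (memY4 [0,6,2,0,0,6]) [1,10,9] (by decide +kernel) (by decide +kernel)) rel0r2) (memY4 [2,0,0,4,4,6]) (memY4 [2,1,2,4,4,6]) [12,11,0,7] (by decide +kernel) (by decide +kernel))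

theorem F19 : Arc 1 1 [3,6,4,1,2,4,2,1,7] [6,4,3,0,4,0,6,4,1] :=
  (Arc.tr [3,6,4,1,2,4,2,1,7] [6,4,3,0,4,0,6,4,1] (tri (h0 := [6,4,1,2,4,1,6,4,0]) (h1 := []) (h2 := []) (q0 := [1,5,7,0,5,3,0,5,7,1,5,0,4,3,3,5,3,1,3,3]) (q1 := [5,7,1,5,1,2,5,7]) (q2 := [1,6,3,5,1,2,5,7,2,5,3,1,5,0,3,0,2,0,3]) (Arc.tr [6,4,1,2,4,1,6,4,0,1,5,7,0,5,3,0,5,7,1,5,0,4,3,3,5,3,1,3,3] [] F1 (mem1 [0,6,14,5,10,10]) (mem0 []) [] (by decide +kernel) (by decide +kernel)) (Arc.tr [5,7,1,5,1,2,5,7] [] F0 (mem0 [5,7,1,5,1,2,5,7]) (mem1 []) [] (by decide +kernel) (by decide +kernel)) rel1r2) (mem1 [2,5,11,8]) (mem1 [10,5,12,4,10,15,13,11]) [13,2,13,1] (by decide +kernel) (by decide +kernel))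

theorem F20 : Arc 4 2 [0,4,2,1,3,6,5,6] [3,4,1,2,4,2,0,6] :=
  (Arc.tr [0,4,2,1,3,6,5,6] [3,4,1,2,4,2,0,6] (tri (h0 := [2,6,4,1,6,4,2]) (h1 := [6]) (h2 := [3,5,2,0,5,1]) (q0 := [1,5,7,0,5,3,0,5,7,1,5,0,4,3,3,5,3,1,3,3]) (q1 := [5,7,1,5,1,2,5,7]) (q2 := [1,6,3,5,1,2,5,7,2,5,3,1,5,0,3,0,2,0,3]) (Arc.tr [2,6,4,1,6,4,2,1,5,7,0,5,3,0,5,7,1,5,0,4,3,3,5,3,1,3,3] [6] F5 (memY2 [4,4,7,4]) (mem1 []) [] (by decide +kernel) (by decide +kernel)) (Arc.tr [6,5,7,1,5,1,2,5,7] [3,5,2,0,5,1] F9 (mem1 [11,3,5,12,11,15]) (memY4 [0,0,6,2,0,6]) [11,5,2] (by decide +kernel) (by decide +kernel)) rel1r2) (memY4 [0,0,2,5,6,2,1]) (memY2 [4,6,1,5,7,4]) [10,9,5,15,1] (by decide +kernel) (by decide +kernel))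

theorem F37 : Arc 4 3 [0,4,2,1,3,6,5,2,6] [4,2,6,5,1,4,2,7,4,2,0] :=
  (Arc.tr [0,4,2,1,3,6,5,2,6] [4,2,6,5,1,4,2,7,4,2,0] (tri (h0 := [2,4,2,6,5,3,3,5,5,7,5]) (h1 := [2,6]) (h2 := [3,4,2,0,5,1]) (q0 := [1,5,7,0,5,3,0,5,7,1,5,0,4,3,3,5,3,1,3,3]) (q1 := [5,7,1,5,1,2,5,7]) (q2 := [1,6,3,5,1,2,5,7,2,5,3,1,5,0,3,0,2,0,3]) (Arc.tr [2,4,2,6,5,3,3,5,5,7,5,1,5,7,0,5,3,0,5,7,1,5,0,4,3,3,5,3,1,3,3] [2,6] F6 (memY3 [0,6,0,6,0,6,1,1]) (mem1 []) [] (by decide +kernel) (by decide +kernel)) (Arc.tr [2,6,5,7,1,5,1,2,5,7] [3,4,2,0,5,1] F9 (mem1 [12,4,6,10,0]) (memY4 [6,2,1,6]) [11,5,3] (by decide +kernel) (by decide +kernel)) rel1r2) (memY4 [1,2,6,2,1]) (memY3 [0,6,0,0,0,6,0,6]) [11,6,15,5,15,0] (by decide +kernel) (by decide +kernel))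

theorem F12 : Arc 2 2 [2,6] [2,6] :=
  (Arc.tr [2,6] [2,6] (tri (h0 := [4,2,2,7,5,1]) (h1 := [6,4,2,1,4,4,6]) (h2 := []) (q0 := [1,6,3,5,1,2,5,7,2,5,3,1,5,0,3,0,2,0,3]) (q1 := [1,5,7,0,5,3,0,5,7,1,5,0,4,3,3,5,3,1,3,3]) (q2 := [5,7,1,5,1,2,5,7]) (Arc.tr [4,2,2,7,5,1,1,6,3,5,1,2,5,7,2,5,3,1,5,0,3,0,2,0,3] [6,4,2,1,4,4,6] F5 (memY2 [0,0,5,6,6]) (mem1 [6,10,14,6,12,10,14,12]) [0,3,14,3] (by decide +kernel) (by decide +kernel)) (Arc.tr [6,4,2,1,4,4,6,1,5,7,0,5,3,0,5,7,1,5,0,4,3,3,5,3,1,3,3] [] F3 (mem1 [6,13,15,13,7]) (memY2 []) [] (by decide +kernel) (by decide +kernel)) rel1r1) (memY2 [0,6,1,6,5,7]) (memY2 [0,4,0,7,1,5]) [14,5,5,3,0] (by decide +kernel) (by decide +kernel))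

theorem F17 : Arc 3 2 [2,4,0,3,1,5,1,4,6] [2,4,2,1,3,6,5,7] :=
  (Arc.tr [2,4,0,3,1,5,1,4,6] [2,4,2,1,3,6,5,7] (tri (h0 := [2,4,3,0,6,4,6,5,7]) (h1 := [6,4]) (h2 := []) (q0 := [1,5,7,0,5,3,0,5,7,1,5,0,4,3,3,5,3,1,3,3]) (q1 := [5,7,1,5,1,2,5,7]) (q2 := [1,6,3,5,1,2,5,7,2,5,3,1,5,0,3,0,2,0,3]) (Arc.tr [2,4,3,0,6,4,6,5,7,1,5,7,0,5,3,0,5,7,1,5,0,4,3,3,5,3,1,3,3] [6,4] F5 (memY2 [6,2,5,6,3,7]) (mem1 [14,11]) [0,11,6,14] (by decide +kernel) (by decide +kernel)) (Arc.tr [6,4,5,7,1,5,1,2,5,7] [] F4 (mem1 [14,0,14]) (memY3 []) [] (by decide +kernel) (by decide +kernel)) rel1r2) (memY3 [0,0,4,2]) (memY2 [7,0,5,6,2]) [12,14,11,13,5,15,11] (by decide +kernel) (by decide +kernel))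

theorem F16 : Arc 3 3 [4,6] [4,1,3,7,5,0,5,0,2] :=
  (Arc.tr [4,6] [4,1,3,7,5,0,5,0,2] (tri (h0 := [4,0,2,1,7,4,3,4,1,2,5]) (h1 := [6,5,2,4,3,1,2]) (h2 := []) (q0 := [1,6,3,5,1,2,5,7,2,5,3,1,5,0,3,0,2,0,3]) (q1 := [1,5,7,0,5,3,0,5,7,1,5,0,4,3,3,5,3,1,3,3]) (q2 := [5,7,1,5,1,2,5,7]) (Arc.tr [4,0,2,1,7,4,3,4,1,2,5,1,6,3,5,1,2,5,7,2,5,3,1,5,0,3,0,2,0,3] [6,5,2,4,3,1,2] F6 (memY3 [6,1,7,1,1]) (mem1 [10]) [1,4,6,4] (by decide +kernel) (by decide +kernel)) (Arc.tr [6,5,2,4,3,1,2,1,5,7,0,5,3,0,5,7,1,5,0,4,3,3,5,3,1,3,3] [] F4 (mem1 [11,15,1,13]) (memY3 []) [] (by decide +kernel) (by decide +kernel)) rel1r1) (memY3 [6,1,7,2,1]) (memY3 [6,0,6,0,6]) [7,14,12,0,4,10,1] (by decide +kernel) (by decide +kernel))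

theorem F43 : Arc 3 3 [3,4,1,2,4,2,1,3,7] [4,2,1,4,1,6,5,2,7] :=
  (Arc.tr [3,4,1,2,4,2,1,3,7] [4,2,1,4,1,6,5,2,7] (tri (h0 := [4,2,6,4,7,5,3,0,2,4,0]) (h1 := [2,6,4]) (h2 := [3,0,2,2]) (q0 := [1,5,7,0,5,3,0,5,7,1,5,0,4,3,3,5,3,1,3,3]) (q1 := [5,7,1,5,1,2,5,7]) (q2 := [1,6,3,5,1,2,5,7,2,5,3,1,5,0,3,0,2,0,3]) (Arc.tr [4,2,6,4,7,5,3,0,2,4,0,1,5,7,0,5,3,0,5,7,1,5,0,4,3,3,5,3,1,3,3] [2,6,4] F6 (memY3 [0,6,0,6,1,1,1]) (mem1 [10,14,11]) [5,12,2,9] (by decide +kernel) (by decide +kernel)) (Arc.tr [2,6,4,5,7,1,5,1,2,5,7] [3,0,2,2] F4 (mem1 [10,13,2,15]) (memY3 [0,2]) [14] (by decide +kernel) (by decide +kernel)) rel1r2) (memY3 [1,4]) (memY3 [0,6,2,6]) [12,14,11,13,5,15,11] (by decide +kernel) (by decide +kernel))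

theorem F18 : Arc 2 3 [2,4,6] [2,4,0,2,4,1,5,7,4,2,1] :=
  (Arc.tr [2,4,6] [2,4,0,2,4,1,5,7,4,2,1] (tri (h0 := [6,4,2,5,3,7,5,0,4,1,4]) (h1 := [3,6,4]) (h2 := []) (q0 := [1,5,7,0,5,3,0,5,7,1,5,0,4,3,3,5,3,1,3,3]) (q1 := [5,7,1,5,1,2,5,7]) (q2 := [1,6,3,5,1,2,5,7,2,5,3,1,5,0,3,0,2,0,3]) (Arc.tr [6,4,2,5,3,7,5,0,4,1,4,1,5,7,0,5,3,0,5,7,1,5,0,4,3,3,5,3,1,3,3] [3,6,4] F6 (memY3 [1,6,1,6,0,0]) (mem1 [12,15,13,11]) [2,12,14,13,5,10] (by decide +kernel) (by decide +kernel)) (Arc.tr [3,6,4,5,7,1,5,1,2,5,7] [] F3 (mem1 [12,0,12]) (memY2 []) [] (by decide +kernel) (by decide +kernel)) rel1r2) (memY2 [0,5,7,7,0,7]) (memY3 [0,0,0,6,0]) [11,2,14,6,3] (by decide +kernel) (by decide +kernel))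

theorem F14 : Arc 2 4 [3,4,1,2,4,2,1,7] [0,4,2,1,3,6,5,6] :=
  (Arc.tr [3,4,1,2,4,2,1,7] [0,4,2,1,3,6,5,6] (tri (h0 := [0,4,6,5,1,6,4,2,1,7]) (h1 := [3,6,4,2,6,5,2,5]) (h2 := [5]) (q0 := [1,6,3,5,1,2,5,7,2,5,3,1,5,0,3,0,2,0,3]) (q1 := [1,5,7,0,5,3,0,5,7,1,5,0,4,3,3,5,3,1,3,3]) (q2 := [5,7,1,5,1,2,5,7]) (Arc.tr [0,4,6,5,1,6,4,2,1,7,1,6,3,5,1,2,5,7,2,5,3,1,5,0,3,0,2,0,3] [3,6,4,2,6,5,2,5] F15 (memY4 [0,2,4,8]) (mem1 [8,14,12,11,2,15]) [3,15,1,12] (by decide +kernel) (by decide +kernel)) (Arc.tr [3,6,4,2,6,5,2,5,1,5,7,0,5,3,0,5,7,1,5,0,4,3,3,5,3,1,3,3] [5] F3 (mem1 [10,9,12,14,13,7,10,12]) (memY2 [0,3,4]) [1,11,7,14] (by decide +kernel) (by decide +kernel)) rel1r1) (memY2 [1,6,1,5,7,1]) (memY4 [9,1,2,9]) [8,3,12,3,0] (by decide +kernel) (by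 decide +kernel))

theorem F42 : Arc 3 3 [4,1,2,4,2,1,3,7] [2,4,3,5,0,6,4,2,4,0,2] :=
  (Arc.tr [4,1,2,4,2,1,3,7] [2,4,3,5,0,6,4,2,4,0,2] (tri (h0 := [3,4,6,4,3,4,0,2,5,0,7]) (h1 := [6,4,2]) (h2 := [3,5,3,5,5,1,5,2]) (q0 := [1,5,7,0,5,3,0,5,7,1,5,0,4,3,3,5,3,1,3,3]) (q1 := [5,7,1,5,1,2,5,7]) (q2 := [1,6,3,5,1,2,5,7,2,5,3,1,5,0,3,0,2,0,3]) (Arc.tr [3,4,6,4,3,4,0,2,5,0,7,1,5,7,0,5,3,0,5,7,1,5,0,4,3,3,5,3,1,3,3] [6,4,2] F6 (memY3 [6,0,0]) (mem1 [10,10,12]) [0,11,7] (by decide +kernel) (by decide +kernel)) (Arc.tr [6,4,2,5,7,1,5,1,2,5,7] [3,5,3,5,5,1,5,2] F4 (mem1 [10,12,14,13,1,11]) (memY3 [1,1]) [0,15,3,0,12,10] (by decide +kernel) (by decide +kernel)) rel1r2) (memY3 [1,4,3]) (memY3 [0,6,0,6,1,6,2,7]) [4,15,11,2,13,8] (by decide +kernel) (by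 decide +kernel))

theorem F27 : Arc 3 4 [4,0,3,1,5,1,4,6] [0,4,2,0,3,4,6,5,6] :=
  (Arc.tr [4,0,3,1,5,1,4,6] [0,4,2,0,3,4,6,5,6] (tri (h0 := [4,3,6,4,7,5]) (h1 := [6,4,7]) (h2 := [5,2,1,5,3,1,5]) (q0 := [1,5,7,0,5,3,0,5,7,1,5,0,4,3,3,5,3,1,3,3]) (q1 := [5,7,1,5,1,2,5,7]) (q2 := [1,6,3,5,1,2,5,7,2,5,3,1,5,0,3,0,2,0,3]) (Arc.tr [4,3,6,4,7,5,1,5,7,0,5,3,0,5,7,1,5,0,4,3,3,5,3,1,3,3] [6,4,7] F15 (memY4 [0,2,0,4,4,9]) (mem1 [10,10]) [10,10] (by decide +kernel) (by decide +kernel)) (Arc.tr [6,4,7,5,7,1,5,1,2,5,7] [5,2,1,5,3,1,5] F4 (mem1 [11,13,11,3,0,14,13]) (memY3 [2,1]) [3,7,1,5] (by decide +kernel) (by decide +kernel)) rel1r2) (memY3 [1,1,1,4]) (memY4 [0,0,8,1,2,0]) [1,15,13,2,13,15] (by decide +kernel) (by decide +kernel))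

theorem F26 : Arc 3 3 [2,4,3,0,4,2,0,7] [3,6,4,6,5,5,2,4,0,2,6] :=
  (Arc.tr [2,4,3,0,4,2,0,7] [3,6,4,6,5,5,2,4,0,2,6] (tri (h0 := [4,2,5,0,5,7,5,1,3,3,4]) (h1 := [2,2,6,4]) (h2 := [3,0,6]) (q0 := [1,5,7,0,5,3,0,5,7,1,5,0,4,3,3,5,3,1,3,3]) (q1 := [5,7,1,5,1,2,5,7]) (q2 := [1,6,3,5,1,2,5,7,2,5,3,1,5,0,3,0,2,0,3]) (Arc.tr [4,2,5,0,5,7,5,1,3,3,4,1,5,7,0,5,3,0,5,7,1,5,0,4,3,3,5,3,1,3,3] [2,2,6,4] F6 (memY3 [0,0,0,6,0,6]) (mem1 [10,12,14,12]) [0,11,6,14] (by decide +kernel) (by decide +kernel)) (Arc.tr [2,2,6,4,5,7,1,5,1,2,5,7] [3,0,6] F4 (mem1 [12,3,10,15,13]) (memY3 [0,0,0,4]) [14,12] (by decide +kernel) (by decide +kernel)) rel1r2) (memY3 [0,0,3,0]) (memY3 [0,6,1,6,3,7]) [14,10,6,13] (by decide +kernel) (by decide +kernel))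

theorem F8 : Arc 2 4 [6] [0,4,0,4,3,6,5,1,6,4,3,4] :=
  (Arc.tr [6] [0,4,0,4,3,6,5,1,6,4,3,4] (tri (h0 := [0,4,0,4,3,6,5,1,6,4,3,4]) (h1 := [0,2,2,5,1]) (h2 := [2,4,1,6,4,2]) (q0 := [5,7,1,5,1,2,5,7]) (q1 := [1,6,3,5,1,2,5,7,2,5,3,1,5,0,3,0,2,0,3]) (q2 := [1,5,7,0,5,3,0,5,7,1,5,0,4,3,3,5,3,1,3,3]) (Arc.tr [0,4,0,4,3,6,5,1,6,4,3,4,5,7,1,5,1,2,5,7] [0,2,2,5,1] F22 (memY4 [0,2,6,2,8,1]) (memY4 [0,4,4,6,2,0,0]) [1,14,6] (by decide +kernel) (by decide +kernel)) (Arc.tr [0,2,2,5,1,1,6,3,5,1,2,5,7,2,5,3,1,5,0,3,0,2,0,3] [2,4,1,6,4,2] F20 (memY4 [1,2,6,2,1]) (memY2 [0,0,0,6,4]) [0,13,7,7,1] (by decide +kernel) (by decide +kernel)) rel1r0) (memY2 [4,4,7,4]) (memY4 []) [] (by decide +kernel) (by decide +kernel))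

theorem F13 : Arc 4 2 [0,4,0,4,3,6,5,1,6,4,3,4] [6] :=
  (Arc.tr [0,4,0,4,3,6,5,1,6,4,3,4] [6] (tri (h0 := [6,5]) (h1 := [0,3,0,2,4,7,5,2]) (h2 := [4,2,4,3,5,2,5]) (q0 := [5,7,1,5,1,2,5,7]) (q1 := [1,6,3,5,1,2,5,7,2,5,3,1,5,0,3,0,2,0,3]) (q2 := [1,5,7,0,5,3,0,5,7,1,5,0,4,3,3,5,3,1,3,3]) (Arc.tr [6,5,5,7,1,5,1,2,5,7] [0,3,0,2,4,7,5,2] F14 (memY2 [0,5,0,5]) (memY4 [5,6,2,8,1]) [10,4,15,5,1] (by decide +kernel) (by decide +kernel)) (Arc.tr [0,3,0,2,4,7,5,2,1,6,3,5,1,2,5,7,2,5,3,1,5,0,3,0,2,0,3] [4,2,4,3,5,2,5] F22 (memY4 [2,4,4,6,9]) (memY4 [0,0,4,4,6]) [1,10,13,4,11] (by decide +kernel) (by decide +kernel)) rel1r0) (memY4 [0,2,8,0,0]) (memY2 [0,5,3]) [15,6,10,0] (by decide +kernel) (by decide +kernel))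

theorem F31 : Arc 2 3 [4,0,4,6] [2,4,1,2,4,6,4,2,2,4,1,7] :=
  (Arc.tr [4,0,4,6] [2,4,1,2,4,6,4,2,2,4,1,7] (tri (h0 := [2,6,4,0,5,2,6,4,3,1]) (h1 := [0,4,1,7,4,1,5,2,4,4]) (h2 := [3,4,1,2,4,2,1,6]) (q0 := [1,6,3,5,1,2,5,7,2,5,3,1,5,0,3,0,2,0,3]) (q1 := [1,5,7,0,5,3,0,5,7,1,5,0,4,3,3,5,3,1,3,3]) (q2 := [5,7,1,5,1,2,5,7]) (Arc.tr [2,6,4,0,5,2,6,4,3,1,1,6,3,5,1,2,5,7,2,5,3,1,5,0,3,0,2,0,3] [0,4,1,7,4,1,5,2,4,4] F27 (memY3 [0,0,6,4]) (memY4 [1,2,4,6]) [10,13,15,1,3,12] (by decide +kernel) (by decide +kernel)) (Arc.tr [0,4,1,7,4,1,5,2,4,4,1,5,7,0,5,3,0,5,7,1,5,0,4,3,3,5,3,1,3,3] [3,4,1,2,4,2,1,6] F20 (memY4 [0,4,6,2,9,0]) (memY2 []) [10,10] (by decide +kernel) (by decide +kernel)) rel1r1) (memY2 [0,6,4,7,3]) (memY3 [0,7,1,1,1]) [15,4,15,6,13,11,1]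 (by decide +kernel) (by decide +kernel))

theorem F24 : Arc 3 4 [3,4,6] [4,1,4,2,4,0,3,7] :=
  (Arc.tr [3,4,6] [4,1,4,2,4,0,3,7] (tri (h0 := [2,4,1,5,3,7,4,3,5,5,0]) (h1 := [3,4,1,2,4,2,0,6]) (h2 := [3,4,0,4,3,0,4,1,6,5,5,6]) (q0 := [1,5,7,0,5,3,0,5,7,1,5,0,4,3,3,5,3,1,3,3]) (q1 := [5,7,1,5,1,2,5,7]) (q2 := [1,6,3,5,1,2,5,7,2,5,3,1,5,0,3,0,2,0,3]) (Arc.tr [2,4,1,5,3,7,4,3,5,5,0,1,5,7,0,5,3,0,5,7,1,5,0,4,3,3,5,3,1,3,3] [3,4,1,2,4,2,0,6] F20 (memY4 [2,0,4,6,2,1]) (memY2 []) [] (by decide +kernel) (by decide +kernel)) (Arc.tr [3,4,1,2,4,2,0,6,5,7,1,5,1,2,5,7] [3,4,0,4,3,0,4,1,6,5,5,6] F31 (memY2 [1,6,4,7,3,6]) (memY3 [1,1,6,3,6,1,7]) [3,14,1,5,12,11] (by decide +kernel) (by decide +kernel)) rel1r2) (memY3 [0,6,0]) (memY4 [1,8,0,2]) [5,10,7,0]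 (by decide +kernel) (by decide +kernel))

theorem F25 : Arc 3 4 [4,3,6] [2,6,4,3,3,6] :=
  (Arc.tr [4,3,6] [2,6,4,3,3,6] (tri (h0 := [2,6,4,1,7,5,1,4,4]) (h1 := [6,4,2,7]) (h2 := [2,4,0,4,1,5,3,1]) (q0 := [1,5,7,0,5,3,0,5,7,1,5,0,4,3,3,5,3,1,3,3]) (q1 := [5,7,1,5,1,2,5,7]) (q2 := [1,6,3,5,1,2,5,7,2,5,3,1,5,0,3,0,2,0,3]) (Arc.tr [2,6,4,1,7,5,1,4,4,1,5,7,0,5,3,0,5,7,1,5,0,4,3,3,5,3,1,3,3] [6,4,2,7] F15 (memY4 [0,6,2,0,9,9]) (mem1 [1,10,4,14,5,12]) [0,15,7,5] (by decide +kernel) (by decide +kernel)) (Arc.tr [6,4,2,7,5,7,1,5,1,2,5,7] [2,4,0,4,1,5,3,1] F4 (mem1 [5,12,5,3,14]) (memY3 [0]) [1,15,6,15] (by decide +kernel) (by decide +kernel)) rel1r2) (memY3 [6,0,0,0,6,0]) (memY4 [2,1,6,2,6]) [3,12,14,12,2] (by decide +kernel) (by decide +kernel))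

theorem F21 : Arc 3 3 [2,4,3,0,5,0,7] [6,4,2,1,3,7,4,3,5,0] :=
  (Arc.tr [2,4,3,0,5,0,7] [6,4,2,1,3,7,4,3,5,0] (tri (h0 := [4,2,5,3,1,5,2,6,5,2,5]) (h1 := [2,4,6,5,1,4,2,0,3,1]) (h2 := [2,4,3,0,4,2,1,3,7]) (q0 := [1,6,3,5,1,2,5,7,2,5,3,1,5,0,3,0,2,0,3]) (q1 := [1,5,7,0,5,3,0,5,7,1,5,0,4,3,3,5,3,1,3,3]) (q2 := [5,7,1,5,1,2,5,7]) (Arc.tr [4,2,5,3,1,5,2,6,5,2,5,1,6,3,5,1,2,5,7,2,5,3,1,5,0,3,0,2,0,3] [2,4,6,5,1,4,2,0,3,1] F17 (memY3 [0,3,6,1]) (memY2 [6,5,5,7,7]) [1,6,1,14,12,4] (by decide +kernel) (by decide +kernel)) (Arc.tr [2,4,6,5,1,4,2,0,3,1,1,5,7,0,5,3,0,5,7,1,5,0,4,3,3,5,3,1,3,3] [2,4,3,0,4,2,1,3,7] F18 (memY2 [0,7,3,6,5,7]) (memY3 [0,2,1,6]) [12,0,14,1,11] (by decide +kernel) (by decide +kernel)) rel1r1) (memY3 [1,1,6,0,6,1]) (memY3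 [6,0,6,0]) [10,15,3,13,8] (by decide +kernel) (by decide +kernel))

theorem F38 : Arc 3 4 [4,0,2,4,4,6] [2,0,4,1,5,7,5,1,3,5] :=
  (Arc.tr [4,0,2,4,4,6] [2,0,4,1,5,7,5,1,3,5] (tri (h0 := [0,2,4,0,4,6,5,0,4,1,7]) (h1 := [2,4,2,2,6,4,2,4,3,1]) (h2 := [2,4,3,0,4,2,1,3,6]) (q0 := [1,6,3,5,1,2,5,7,2,5,3,1,5,0,3,0,2,0,3]) (q1 := [1,5,7,0,5,3,0,5,7,1,5,0,4,3,3,5,3,1,3,3]) (q2 := [5,7,1,5,1,2,5,7]) (Arc.tr [0,2,4,0,4,6,5,0,4,1,7,1,6,3,5,1,2,5,7,2,5,3,1,5,0,3,0,2,0,3] [2,4,2,2,6,4,2,4,3,1] F20 (memY4 [0,2,1,4,6,2,6]) (memY2 [0,0,0,6,0]) [5,7,15,2,12] (by decide +kernel) (by decide +kernel)) (Arc.tr [2,4,2,2,6,4,2,4,3,1,1,5,7,0,5,3,0,5,7,1,5,0,4,3,3,5,3,1,3,3] [2,4,3,0,4,2,1,3,6] F18 (memY2 [0,6,6,6,5]) (memY3 [0,2,1,6]) [0,13,3,10,7,14] (by decide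 +kernel) (by decide +kernel)) rel1r1) (memY3 [0,6,0,6,2,4]) (memY4 [2,0,8,1,2,1]) [14,3,5,13,15,0] (by decide +kernel) (by decide +kernel))

theorem F30 : Arc 4 3 [4,1,3,4,4,2,6] [6,4,2,1,3,6,5] :=
  (Arc.tr [4,1,3,4,4,2,6] [6,4,2,1,3,6,5] (tri (h0 := [4,1,2,4,2,6,5,2,6]) (h1 := [3,6,4,6]) (h2 := [3,0,4,3,4,7,4,2,2,0]) (q0 := [1,5,7,0,5,3,0,5,7,1,5,0,4,3,3,5,3,1,3,3]) (q1 := [5,7,1,5,1,2,5,7]) (q2 := [1,6,3,5,1,2,5,7,2,5,3,1,5,0,3,0,2,0,3]) (Arc.tr [4,1,2,4,2,6,5,2,6,1,5,7,0,5,3,0,5,7,1,5,0,4,3,3,5,3,1,3,3] [3,6,4,6] F16 (memY3 [1,1,1,7]) (memY3 [0,3,4]) [12,7,10,14,12,11,5] (by decide +kernel) (by decide +kernel)) (Arc.tr [3,6,4,6,5,7,1,5,1,2,5,7] [3,0,4,3,4,7,4,2,2,0] F38 (memY3 [1,6,1,2]) (memY4 [0,0,2,5,6,8]) [10,1,10,14,3,12] (by decide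 +kernel) (by decide +kernel)) rel1r2) (memY4 [1,2,4,9,0,2]) (memY3 [1,6,2,6,4]) [15,5,15,6,4,3] (by decide +kernel) (by decide +kernel))

theorem F55 : Arc 4 2 [4,2,4,3,4,1,6] [2,6,4,0,6,4,6,5,0,0,2] :=
  (Arc.tr [4,2,4,3,4,1,6] [2,6,4,0,6,4,6,5,0,0,2] (tri (h0 := [4,0,4,3,6,4,1,4,1]) (h1 := [2,4,1,2,4,2,0,2,6]) (h2 := [4,0,2,0,5,7,4,0,5,3]) (q0 := [1,5,7,0,5,3,0,5,7,1,5,0,4,3,3,5,3,1,3,3]) (q1 := [5,7,1,5,1,2,5,7]) (q2 := [1,6,3,5,1,2,5,7,2,5,3,1,5,0,3,0,2,0,3]) (Arc.tr [4,0,4,3,6,4,1,4,1,1,5,7,0,5,3,0,5,7,1,5,0,4,3,3,5,3,1,3,3] [2,4,1,2,4,2,0,2,6] F18 (memY2 [7,0,7,0,0]) (memY3 [0,2,0,6]) [7,14,11,7,13,6] (by decide +kernel) (by decide +kernel)) (Arc.tr [2,4,1,2,4,2,0,2,6,5,7,1,5,1,2,5,7] [4,0,2,0,5,7,4,0,5,3] F27 (memY3 [1,6,0,6,2,6,1])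 (memY4 [2,1,8,0]) [10,12,14,5,6] (by decide +kernel) (by decide +kernel)) rel1r2) (memY4 [0,2]) (memY2 [5,7,1,4,7,7]) [5,10,10,6,14] (by decide +kernel) (by decide +kernel))

theorem F34 : Arc 2 2 [3,4,1,2,4,2,5,7] [2,2,4,0,5,0,3,7,5,1] :=
  (Arc.tr [3,4,1,2,4,2,5,7] [2,2,4,0,5,0,3,7,5,1] (tri (h0 := [4,3,5,1,2,5,5,7]) (h1 := [2,4,1,2,4,2,0,2,7]) (h2 := [2,4,3,1,4,6,4,0,7,4]) (q0 := [1,5,7,0,5,3,0,5,7,1,5,0,4,3,3,5,3,1,3,3]) (q1 := [5,7,1,5,1,2,5,7]) (q2 := [1,6,3,5,1,2,5,7,2,5,3,1,5,0,3,0,2,0,3]) (Arc.tr [4,3,5,1,2,5,5,7,1,5,7,0,5,3,0,5,7,1,5,0,4,3,3,5,3,1,3,3] [2,4,1,2,4,2,0,2,7] F18 (memY2 [6,1,4,6]) (memY3 [0,2,0,6]) [5,10,4,15,2,13] (by decide +kernel) (by decide +kernel)) (Arc.tr [2,4,1,2,4,2,0,2,7,5,7,1,5,1,2,5,7] [2,4,3,1,4,6,4,0,7,4]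 F17 (memY3 [1,6,0,6,1,6,1]) (memY2 [0,7,0,5,2,7]) [7,4,7,10,1] (by decide +kernel) (by decide +kernel)) rel1r2) (memY2 [2,7,2,5]) (memY2 [4,6,0,3,5]) [15,13,6,2,10,13,1] (by decide +kernel) (by decide +kernel))

theorem F32 : Arc 2 4 [4,1,4,6] [4,0,5,2,2,7,5,5,1,4] :=
  (Arc.tr [4,1,4,6] [4,0,5,2,2,7,5,5,1,4] (tri (h0 := [4,0,5,1,7,5,0,5,3]) (h1 := [6,4,0,3,0,6,5,0,4,3,7]) (h2 := [2,4,6]) (q0 := [1,6,3,5,1,2,5,7,2,5,3,1,5,0,3,0,2,0,3]) (q1 := [1,5,7,0,5,3,0,5,7,1,5,0,4,3,3,5,3,1,3,3]) (q2 := [5,7,1,5,1,2,5,7]) (Arc.tr [4,0,5,1,7,5,0,5,3,1,6,3,5,1,2,5,7,2,5,3,1,5,0,3,0,2,0,3] [6,4,0,3,0,6,5,0,4,3,7] F37 (memY4 [1,8,0,2,9]) (memY3 [0,0,0,6,0,6,0,7]) [11,6,11,13,15] (by decide +kernel) (by decide +kernel)) (Arc.tr [6,4,0,3,0,6,5,0,4,3,7,1,5,7,0,5,3,0,5,7,1,5,0,4,3,3,5,3,1,3,3]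 [2,4,6] F17 (memY3 [1,6,0,6,1,6,1,1]) (memY2 [6,5,5,7,7]) [3,1,5,10,14,12] (by decide +kernel) (by decide +kernel)) rel1r1) (memY2 [1,2,7,4]) (memY4 [2,1,4,4,6,2]) [10,12,4,2,10,7] (by decide +kernel) (by decide +kernel))

theorem F29 : Arc 3 3 [2,4,0,3,1,5,0,5,7] [4,3,3,5,0,0,6,5,7,5,1] :=
  (Arc.tr [2,4,0,3,1,5,0,5,7] [4,3,3,5,0,0,6,5,7,5,1] (tri (h0 := [4,2,0,2,4,2,6,5,6,4]) (h1 := [2,4,7]) (h2 := [3,4,0,5,6,5,0,2,2,4,0]) (q0 := [1,5,7,0,5,3,0,5,7,1,5,0,4,3,3,5,3,1,3,3]) (q1 := [5,7,1,5,1,2,5,7]) (q2 := [1,6,3,5,1,2,5,7,2,5,3,1,5,0,3,0,2,0,3]) (Arc.tr [4,2,0,2,4,2,6,5,6,4,1,5,7,0,5,3,0,5,7,1,5,0,4,3,3,5,3,1,3,3] [2,4,7] F17 (memY3 [0,2,4]) (memY2 [6,5,5,7,7]) [3,1,5,10,15,13] (by decide +kernel) (by decide +kernel)) (Arc.tr [2,4,7,5,7,1,5,1,2,5,7]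 [3,4,0,5,6,5,0,2,2,4,0] F31 (memY2 [0,4,6,6,6,0]) (memY3 [0,6,1,4,3]) [13,4,13,2,11] (by decide +kernel) (by decide +kernel)) rel1r2) (memY3 [0,0,6,0,7,1]) (memY3 [0,0,6,0,6,2,4]) [13,11,2,13,0,14,13] (by decide +kernel) (by decide +kernel))

theorem F49 : Arc 3 3 [4,2,5,2,4,3,7] [4,3,0,6,4,3,5,2,5,3,7] :=
  (Arc.tr [4,2,5,2,4,3,7] [4,3,0,6,4,3,5,2,5,3,7] (tri (h0 := [2,6,4,3,5,0,2,5,6,4]) (h1 := [3,4,6]) (h2 := [2,4,3,3,4,6,5,2,5,0,7]) (q0 := [1,5,7,0,5,3,0,5,7,1,5,0,4,3,3,5,3,1,3,3]) (q1 := [5,7,1,5,1,2,5,7]) (q2 := [1,6,3,5,1,2,5,7,2,5,3,1,5,0,3,0,2,0,3]) (Arc.tr [2,6,4,3,5,0,2,5,6,4,1,5,7,0,5,3,0,5,7,1,5,0,4,3,3,5,3,1,3,3] [3,4,6] F17 (memY3 [1,6,3,6,0,6]) (memY2 [1,6,6,6,4,4]) [0,12,14,1,11] (by decide +kernel) (by decide +kernel))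 (Arc.tr [3,4,6,5,7,1,5,1,2,5,7] [2,4,3,3,4,6,5,2,5,0,7] F31 (memY2 [5,0,7,1]) (memY3 [0,6,0,6,2,6]) [0,10,4,14,7,11,15] (by decide +kernel) (by decide +kernel)) rel1r2) (memY3 [6,0,6,1,6,1,2]) (memY3 [0,0,6,1,6,2,7]) [10,6,12,11,0] (by decide +kernel) (by decide +kernel))

theorem F64 : Arc 4 3 [4,2,4,3,4,1,2,6] [4,6,4,3,4,6,5,1,2,7] :=
  (Arc.tr [4,2,4,3,4,1,2,6] [4,6,4,3,4,6,5,1,2,7] (tri (h0 := [4,1,4,1,3,5,1,6,4,7,4]) (h1 := [3,4,7]) (h2 := [0,2,4,2,7,5,5,3,0,4,2]) (q0 := [1,5,7,0,5,3,0,5,7,1,5,0,4,3,3,5,3,1,3,3]) (q1 := [5,7,1,5,1,2,5,7]) (q2 := [1,6,3,5,1,2,5,7,2,5,3,1,5,0,3,0,2,0,3]) (Arc.tr [4,1,4,1,3,5,1,6,4,7,4,1,5,7,0,5,3,0,5,7,1,5,0,4,3,3,5,3,1,3,3] [3,4,7] F17 (memY3 [0,0,4]) (memY2 [1,6,6,6,4,4]) [0,13,15,0,11] (by decide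 +kernel) (by decide +kernel)) (Arc.tr [3,4,7,5,7,1,5,1,2,5,7] [0,2,4,2,7,5,5,3,0,4,2] F32 (memY2 [6,0,5,2,6,0]) (memY4 [5,8,1,2,6]) [4,9,10,4,13] (by decide +kernel) (by decide +kernel)) rel1r2) (memY4 [4,4,6,2,8]) (memY3 [6,0,6,1,6,1,7]) [15,4,12,6,14] (by decide +kernel) (by decide +kernel))

theorem F33 : Arc 4 3 [3,4,2,1,6,5,3,0,5,3] [4,1,3,6,4,0] :=
  (Arc.tr [3,4,2,1,6,5,3,0,5,3] [4,1,3,6,4,0] (tri (h0 := [4,3,6,4,0,3,3,0,2]) (h1 := [3,4,2,4,1,4,6,4,4,7]) (h2 := [3,4,2,1,6,5,3,0,5,3,7]) (q0 := [1,6,3,5,1,2,5,7,2,5,3,1,5,0,3,0,2,0,3]) (q1 := [1,5,7,0,5,3,0,5,7,1,5,0,4,3,3,5,3,1,3,3]) (q2 := [5,7,1,5,1,2,5,7]) (Arc.tr [4,3,6,4,0,3,3,0,2,1,6,3,5,1,2,5,7,2,5,3,1,5,0,3,0,2,0,3] [3,4,2,4,1,4,6,4,4,7] F17 (memY3 [6,1,6,3,0]) (memY2 [3,5,0])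 [8,10,14,13,11,5,14,13] (by decide +kernel) (by decide +kernel)) (Arc.tr [3,4,2,4,1,4,6,4,4,7,1,5,7,0,5,3,0,5,7,1,5,0,4,3,3,5,3,1,3,3] [3,4,2,1,6,5,3,0,5,3,7] F8 (memY2 [2,7,0,6,1,6]) (memY4 [0,0,2,6,9,1,8]) [1,13] (by decide +kernel) (by decide +kernel)) rel1r1) (memY4 [6,9,1,2,0,6,9]) (memY3 [6,0,0,6]) [13,2,1,13,7] (by decide +kernel) (by decide +kernel))

theorem F44 : Arc 4 3 [4,3,7,4,1,5,5,3,5] [2,4,4,6] :=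
  (Arc.tr [4,3,7,4,1,5,5,3,5] [2,4,4,6] (tri (h0 := [3,0,2,4,6,4,2,7,4,1,4]) (h1 := [2,4,3,0,4,2,0,6]) (h2 := [0,2,4,2,7,5,1,4,2,2,4]) (q0 := [1,5,7,0,5,3,0,5,7,1,5,0,4,3,3,5,3,1,3,3]) (q1 := [5,7,1,5,1,2,5,7]) (q2 := [1,6,3,5,1,2,5,7,2,5,3,1,5,0,3,0,2,0,3]) (Arc.tr [3,0,2,4,6,4,2,7,4,1,4,1,5,7,0,5,3,0,5,7,1,5,0,4,3,3,5,3,1,3,3] [2,4,3,0,4,2,0,6] F17 (memY3 [1,1,6,1,6,0,6]) (memY2 [0,5,7,0,5,6]) [4,12,7,1] (by decide +kernel) (by decide +kernel)) (Arc.tr [2,4,3,0,4,2,0,6,5,7,1,5,1,2,5,7] [0,2,4,2,7,5,1,4,2,2,4] F32 (memY2 [0,4,3,6,0]) (memY4 [0,6,2,8,0,9]) [1,12,6,0,12] (by decide +kernel) (by decide +kernel)) rel1r2) (memY4 [0]) (memY3 [6,0,7]) [7,5,15,4] (by decide +kernel) (by decide +kernel))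

theorem F36 : Arc 2 4 [3,4,3,0,4,2,4,7] [0,4,2,6,5,6,4,7] :=
  (Arc.tr [3,4,3,0,4,2,4,7] [0,4,2,6,5,6,4,7] (tri (h0 := [3,4,2,0,4,7,4,2,0,4]) (h1 := [3,4,1,5,0,4,3,7]) (h2 := [2,4,1,2,4,2,1,7]) (q0 := [1,6,3,5,1,2,5,7,2,5,3,1,5,0,3,0,2,0,3]) (q1 := [1,5,7,0,5,3,0,5,7,1,5,0,4,3,3,5,3,1,3,3]) (q2 := [5,7,1,5,1,2,5,7]) (Arc.tr [3,4,2,0,4,7,4,2,0,4,1,6,3,5,1,2,5,7,2,5,3,1,5,0,3,0,2,0,3] [3,4,1,5,0,4,3,7] F64 (memY4 [0,0,6,8,8]) (memY3 [0,0,0,6,0,7,3]) [10,14,13,7,15] (by decide +kernel) (by decide +kernel)) (Arc.tr [3,4,1,5,0,4,3,7,1,5,7,0,5,3,0,5,7,1,5,0,4,3,3,5,3,1,3,3] [2,4,1,2,4,2,1,7] F17 (memY3 [0,2,0,6]) (memY2 [3,6,0,5,2,6]) [10,14,4,12,11,4,14] (by decide +kernel) (by decide +kernel)) rel1r1) (memY2 [1,6,1,7,0,3]) (memY4 [1,2,1,9,0,2,6])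 [13,4,10,1,3] (by decide +kernel) (by decide +kernel))

theorem F54 : Arc 4 3 [4,1,3,4,4,6] [6,4,3,6,5,2,5,2,0,5] :=
  (Arc.tr [4,1,3,4,4,6] [6,4,3,6,5,2,5,2,0,5] (tri (h0 := [3,4,6,4,3,5,3,3,1,2]) (h1 := [2,4,1,2,4,2,1,6]) (h2 := [0,4,0,2,0,3,5,0,7,4,3]) (q0 := [1,5,7,0,5,3,0,5,7,1,5,0,4,3,3,5,3,1,3,3]) (q1 := [5,7,1,5,1,2,5,7]) (q2 := [1,6,3,5,1,2,5,7,2,5,3,1,5,0,3,0,2,0,3]) (Arc.tr [3,4,6,4,3,5,3,3,1,2,1,5,7,0,5,3,0,5,7,1,5,0,4,3,3,5,3,1,3,3] [2,4,1,2,4,2,1,6] F17 (memY3 [7,1]) (memY2 [3,6,0,5,2,6]) [11,15,5,12,11,5,14] (by decide +kernel) (by decide +kernel)) (Arc.tr [2,4,1,2,4,2,1,6,5,7,1,5,1,2,5,7] [0,4,0,2,0,3,5,0,7,4,3] F36 (memY2 [5,2,7,0,5]) (memY4 [4,8,1,2,0,9]) [10,6,12,7] (by decide +kernel) (by decide +kernel)) rel1r2) (memY4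 [5,6,2,0,2,6]) (memY3 [0,3,4]) [14,2,12,14,3,10] (by decide +kernel) (by decide +kernel))

theorem F53 : Arc 4 4 [4,1,3,4,4,2,2,6] [2,2,4,2,1,7,4,1,5,2,5] :=
  (Arc.tr [4,1,3,4,4,2,2,6] [2,2,4,2,1,7,4,1,5,2,5] (tri (h0 := [4,1,6,5,0,7,5,2,5,1,4]) (h1 := [2,4,2,5,3,4,3,7]) (h2 := [0,4,3,4,6,5,2,4,3,4]) (q0 := [1,5,7,0,5,3,0,5,7,1,5,0,4,3,3,5,3,1,3,3]) (q1 := [5,7,1,5,1,2,5,7]) (q2 := [1,6,3,5,1,2,5,7,2,5,3,1,5,0,3,0,2,0,3]) (Arc.tr [4,1,6,5,0,7,5,2,5,1,4,1,5,7,0,5,3,0,5,7,1,5,0,4,3,3,5,3,1,3,3] [2,4,2,5,3,4,3,7] F20 (memY4 [2]) (memY2 [5,7,2,0,7]) [0,14,4,4,14] (by decide +kernel) (by decide +kernel)) (Arc.tr [2,4,2,5,3,4,3,7,5,7,1,5,1,2,5,7] [0,4,3,4,6,5,2,4,3,4] F14 (memY2 [4,3,7,4,3]) (memY4 [0,2,4,6,8,0]) [2,14,5,12,0] (by decide +kernel)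 (by decide +kernel)) rel1r2) (memY4 [9,0,8,1,2]) (memY4 [1,2,9,1,2]) [11,13,15,6,12,1] (by decide +kernel) (by decide +kernel))

theorem F62 : Arc 4 4 [2,0,4,0,5,3,7] [4,3,6,5,5,0,5,5,6] :=
  (Arc.tr [2,0,4,0,5,3,7] [4,3,6,5,5,0,5,5,6] (tri (h0 := [3,4,0,3,6,5,1,6,4,6]) (h1 := [4,1,6,5,3,6,5,6,5]) (h2 := [0,4,2,1,3,6,5,6]) (q0 := [1,6,3,5,1,2,5,7,2,5,3,1,5,0,3,0,2,0,3]) (q1 := [1,5,7,0,5,3,0,5,7,1,5,0,4,3,3,5,3,1,3,3]) (q2 := [5,7,1,5,1,2,5,7]) (Arc.tr [3,4,0,3,6,5,1,6,4,6,1,6,3,5,1,2,5,7,2,5,3,1,5,0,3,0,2,0,3] [4,1,6,5,3,6,5,6,5] F55 (memY4 [6,2,9,0,8]) (memY2 [0,2,6,6,0]) [15,1,15,4,2] (by decide +kernel) (by decide +kernel)) (Arc.tr [4,1,6,5,3,6,5,6,5,1,5,7,0,5,3,0,5,7,1,5,0,4,3,3,5,3,1,3,3] [0,4,2,1,3,6,5,6] F14 (memY2 [2,0,5,7,1])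 (memY4 []) [] (by decide +kernel) (by decide +kernel)) rel1r1) (memY4 [1,4,8]) (memY4 [0,2,4,6,2,0,0]) [3,0,0,14,3] (by decide +kernel) (by decide +kernel))

theorem F50 : Arc 3 2 [2,4,0,3,1,5,1,4,6,5,6] [4,0,6,5,7,5,3] :=
  (Arc.tr [2,4,0,3,1,5,1,4,6,5,6] [4,0,6,5,7,5,3] (tri (h0 := [2,4,2,0,5,0,6,5,6]) (h1 := [0,4,2,0,3,6,5,5,6]) (h2 := [2,4,0,7,5,1,3,4,1,2]) (q0 := [1,5,7,0,5,3,0,5,7,1,5,0,4,3,3,5,3,1,3,3]) (q1 := [5,7,1,5,1,2,5,7]) (q2 := [1,6,3,5,1,2,5,7,2,5,3,1,5,0,3,0,2,0,3]) (Arc.tr [2,4,2,0,5,0,6,5,6,1,5,7,0,5,3,0,5,7,1,5,0,4,3,3,5,3,1,3,3] [0,4,2,0,3,6,5,5,6] F14 (memY2 [1,6,4,7,7,3]) (memY4 []) [10,10] (by decide +kernel) (by decide +kernel)) (Arc.tr [0,4,2,0,3,6,5,5,6,5,7,1,5,1,2,5,7] [2,4,0,7,5,1,3,4,1,2] F44 (memY4 [0,2,1,6,2,9,9,1])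 (memY3 [1,1,6,3,6]) [0,13,5,14,12,7] (by decide +kernel) (by decide +kernel)) rel1r2) (memY3 [0,0,6,0,6,2]) (memY2 [4,6,1,6,6,5]) [15,11,1,13,5,1] (by decide +kernel) (by decide +kernel))

theorem F47 : Arc 3 4 [3,4,0,5,0,2,1,6] [4,0,5,3,6,5,3,5,1,5] :=
  (Arc.tr [3,4,0,5,0,2,1,6] [4,0,5,3,6,5,3,5,1,5] (tri (h0 := [3,4,1,5,6,5,1,5,5,3]) (h1 := [3,4,1,2,4,2,1,6,4]) (h2 := [4,2,4,3,5,6,5,6,4,1,3]) (q0 := [1,5,7,0,5,3,0,5,7,1,5,0,4,3,3,5,3,1,3,3]) (q1 := [5,7,1,5,1,2,5,7]) (q2 := [1,6,3,5,1,2,5,7,2,5,3,1,5,0,3,0,2,0,3]) (Arc.tr [3,4,1,5,6,5,1,5,5,3,1,5,7,0,5,3,0,5,7,1,5,0,4,3,3,5,3,1,3,3] [3,4,1,2,4,2,1,6,4] F20 (memY4 [0,4,8,1,2,1,8]) (memY2 []) [1,12,7,12,2] (by decide +kernel) (by decide +kernel)) (Arc.tr [3,4,1,2,4,2,1,6,4,5,7,1,5,1,2,5,7]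 [4,2,4,3,5,6,5,6,4,1,3] F31 (memY2 [2,7,7,3,5]) (memY3 [0,6,3]) [4,2,11,6] (by decide +kernel) (by decide +kernel)) rel1r2) (memY3 [0,0,6,0,6,1,4]) (memY4 [0,0,2,6,9,0,2]) [0,12,10,6] (by decide +kernel) (by decide +kernel))

theorem F23 : Arc 3 4 [2,4,6] [4,3,7,4,1,5,5,3,5] :=
  (Arc.tr [2,4,6] [4,3,7,4,1,5,5,3,5] (tri (h0 := [0,4,0,2,2,4,6,4,6]) (h1 := [3,4,1,2,4,2,1,6,5]) (h2 := [2,4,2,4,1,2,7,5,5]) (q0 := [1,5,7,0,5,3,0,5,7,1,5,0,4,3,3,5,3,1,3,3]) (q1 := [5,7,1,5,1,2,5,7]) (q2 := [1,6,3,5,1,2,5,7,2,5,3,1,5,0,3,0,2,0,3]) (Arc.tr [0,4,0,2,2,4,6,4,6,1,5,7,0,5,3,0,5,7,1,5,0,4,3,3,5,3,1,3,3] [3,4,1,2,4,2,1,6,5] F20 (memY4 [0,2,4,4,6,2]) (memY2 []) [0,12,6,12,3] (by decide +kernel) (by decide +kernel)) (Arc.tr [3,4,1,2,4,2,1,6,5,5,7,1,5,1,2,5,7]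 [2,4,2,4,1,2,7,5,5] F18 (memY2 [0,6,3,7,4,1]) (memY3 [0,6,0,7,1,2]) [12,10,15,3,13,4,11] (by decide +kernel) (by decide +kernel)) rel1r2) (memY3 [1,1,6,0,6,1,7]) (memY4 [2,0,0,4,8]) [7,10,12,15,3] (by decide +kernel) (by decide +kernel))

theorem F65 : Arc 4 3 [4,2,2,5,3,3,6] [3,3,4,6,5,2,4,7,5,3,4] :=
  (Arc.tr [4,2,2,5,3,3,6] [3,3,4,6,5,2,4,7,5,3,4] (tri (h0 := [4,3,5,2,6,4,0,3,3,5,6]) (h1 := [2,4,1,2,4,2,0,6]) (h2 := [3,4,1,6,5,6,4,1,5,0,3]) (q0 := [1,5,7,0,5,3,0,5,7,1,5,0,4,3,3,5,3,1,3,3]) (q1 := [5,7,1,5,1,2,5,7]) (q2 := [1,6,3,5,1,2,5,7,2,5,3,1,5,0,3,0,2,0,3]) (Arc.tr [4,3,5,2,6,4,0,3,3,5,6,1,5,7,0,5,3,0,5,7,1,5,0,4,3,3,5,3,1,3,3] [2,4,1,2,4,2,0,6] F17 (memY3 [0,0,6,2]) (memY2 [3,6,0,5,2,6]) [11,15,5,12,11,5,15] (by decide +kernel)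 (by decide +kernel)) (Arc.tr [2,4,1,2,4,2,0,6,5,7,1,5,1,2,5,7] [3,4,1,6,5,6,4,1,5,0,3] F36 (memY2 [4,4,6,1,6,4]) (memY4 [9,0,2,9,1]) [0,10,9,15,13] (by decide +kernel) (by decide +kernel)) rel1r2) (memY4 [1,5,8]) (memY3 [1,1,6,3,6,1,6]) [5,12,3,14] (by decide +kernel) (by decide +kernel))

theorem F28 : Arc 3 3 [2,4,0,3,1,5,1,6] [4,2,4,3,6,4,3,1,3,4] :=
  (Arc.tr [2,4,0,3,1,5,1,6] [4,2,4,3,6,4,3,1,3,4] (tri (h0 := [2,4,3,4,0,5,6,4,2,2]) (h1 := [2,4,3,0,5,0,7]) (h2 := [4,1,7,5,3,5,1,4,1,2]) (q0 := [1,5,7,0,5,3,0,5,7,1,5,0,4,3,3,5,3,1,3,3]) (q1 := [5,7,1,5,1,2,5,7]) (q2 := [1,6,3,5,1,2,5,7,2,5,3,1,5,0,3,0,2,0,3]) (Arc.tr [2,4,3,4,0,5,6,4,2,2,1,5,7,0,5,3,0,5,7,1,5,0,4,3,3,5,3,1,3,3] [2,4,3,0,5,0,7] F21 (memY3 [2,1,6]) (memY3 [0,4]) [3,6,9,12,14,13]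 (by decide +kernel) (by decide +kernel)) (Arc.tr [2,4,3,0,5,0,7,5,7,1,5,1,2,5,7] [4,1,7,5,3,5,1,4,1,2] F16 (memY3 [2,6,1,6]) (memY3 []) [8,10,10,14,3,14] (by decide +kernel) (by decide +kernel)) rel1r2) (memY3 [1,6,1,6,0,6,3,6]) (memY3 [1,6,0,6,1,6,2]) [15,8,6,15,3] (by decide +kernel) (by decide +kernel))

theorem F45 : Arc 3 3 [4,0,5,6] [3,4,0,5,2,6,4,2,4,2,0] :=
  (Arc.tr [4,0,5,6] [3,4,0,5,2,6,4,2,4,2,0] (tri (h0 := [2,4,4,2,5,3,5,1,7,5,3]) (h1 := [3,4,3,0,2,7]) (h2 := [4,2,4,2,1,4,6,5,0,4,0]) (q0 := [1,5,7,0,5,3,0,5,7,1,5,0,4,3,3,5,3,1,3,3]) (q1 := [5,7,1,5,1,2,5,7]) (q2 := [1,6,3,5,1,2,5,7,2,5,3,1,5,0,3,0,2,0,3]) (Arc.tr [2,4,4,2,5,3,5,1,7,5,3,1,5,7,0,5,3,0,5,7,1,5,0,4,3,3,5,3,1,3,3] [3,4,3,0,2,7] F21 (memY3 [0,2,6,1]) (memY3 [0,3,4])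 [10,13,5,0,15] (by decide +kernel) (by decide +kernel)) (Arc.tr [3,4,3,0,2,7,5,7,1,5,1,2,5,7] [4,2,4,2,1,4,6,5,0,4,0] F43 (memY3 [0,2,6,4]) (memY3 [0,0,0,6,0,6,3]) [0,6,4,6] (by decide +kernel) (by decide +kernel)) rel1r2) (memY3 [0,0,6,1,6,1,6]) (memY3 [6,0,0,3,6,1,7]) [10,5,1,14,12,10,0] (by decide +kernel) (by decide +kernel))

theorem F48 : Arc 3 3 [4,3,5,2,4,2,6] [4,0,2,0,6,5,3,6,5,3,4,0] :=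
  (Arc.tr [4,3,5,2,4,2,6] [4,0,2,0,6,5,3,6,5,3,4,0] (tri (h0 := [3,4,2,6,4,1,3,5,7,4,4]) (h1 := [3,4,3,1,2,7]) (h2 := [4,1,5,7,5,3,1,2,5,5,3]) (q0 := [1,5,7,0,5,3,0,5,7,1,5,0,4,3,3,5,3,1,3,3]) (q1 := [5,7,1,5,1,2,5,7]) (q2 := [1,6,3,5,1,2,5,7,2,5,3,1,5,0,3,0,2,0,3]) (Arc.tr [3,4,2,6,4,1,3,5,7,4,4,1,5,7,0,5,3,0,5,7,1,5,0,4,3,3,5,3,1,3,3] [3,4,3,1,2,7] F21 (memY3 [6,2]) (memY3 [0,3,4]) [10,13,5,0,14] (by decide +kernel) (by decide +kernel)) (Arc.tr [3,4,3,1,2,7,5,7,1,5,1,2,5,7] [4,1,5,7,5,3,1,2,5,5,3] F42 (memY3 [6,4]) (memY3 [1,6,1,6,1,6,0]) [1,12,3,6,10,12] (by decide +kernel) (by decide +kernel)) rel1r2) (memY3 [0,6,0,0,0,7,2]) (memY3 [0,6,1,2]) [14,2,13,1,15,11,0] (by decide +kernel) (by decide +kernel))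

theorem F39 : Arc 3 3 [2,4,3,0,5,0,5,7] [4,0,2,4,6,5,1,4,3,6,5] :=
  (Arc.tr [2,4,3,0,5,0,5,7] [4,0,2,4,6,5,1,4,3,6,5] (tri (h0 := [6,4,1,4,7,4,0,3,5,3]) (h1 := [2,4,1,4,3,4,2,7,4,3,3,4]) (h2 := [3,0,2,2,4,6]) (q0 := [1,6,3,5,1,2,5,7,2,5,3,1,5,0,3,0,2,0,3]) (q1 := [1,5,7,0,5,3,0,5,7,1,5,0,4,3,3,5,3,1,3,3]) (q2 := [5,7,1,5,1,2,5,7]) (Arc.tr [6,4,1,4,7,4,0,3,5,3,1,6,3,5,1,2,5,7,2,5,3,1,5,0,3,0,2,0,3] [2,4,1,4,3,4,2,7,4,3,3,4] F21 (memY3 [1,1,6,3,6,0]) (memY3 [1,6,1,6,0,7]) [12,10,14,3] (by decide +kernel) (by decide +kernel)) (Arc.tr [2,4,1,4,3,4,2,7,4,3,3,4,1,5,7,0,5,3,0,5,7,1,5,0,4,3,3,5,3,1,3,3] [3,0,2,2,4,6] F16 (memY3 [0,6,1,6,4,3]) (memY3 [0,0,3,0]) [10,0,12,3,11,15] (by decide +kernel) (by decide +kernel)) rel1r1) (memY3 [1,6,0,6,3,6])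 (memY3 [1,1,6,3,6,1,7]) [15,0,11,13,11,9] (by decide +kernel) (by decide +kernel))

theorem F40 : Arc 3 4 [3,4,3,4,2,2,1,4,0,6] [4,0,2,1,7,5,1,3,5,5] :=
  (Arc.tr [3,4,3,4,2,2,1,4,0,6] [4,0,2,1,7,5,1,3,5,5] (tri (h0 := [6,4,6,4,2,4,3,1,4]) (h1 := [3,4,7]) (h2 := [4,1,6,4,1,3,6,4,0,5,2,0]) (q0 := [1,5,7,0,5,3,0,5,7,1,5,0,4,3,3,5,3,1,3,3]) (q1 := [5,7,1,5,1,2,5,7]) (q2 := [1,6,3,5,1,2,5,7,2,5,3,1,5,0,3,0,2,0,3]) (Arc.tr [6,4,6,4,2,4,3,1,4,1,5,7,0,5,3,0,5,7,1,5,0,4,3,3,5,3,1,3,3] [3,4,7] F30 (memY4 [0,2,8,1,2,6,2]) (memY3 [1,1,6,0,6,0]) [0,14,7,10,5,12] (by decide +kernel) (by decide +kernel)) (Arc.tr [3,4,7,5,7,1,5,1,2,5,7] [4,1,6,4,1,3,6,4,0,5,2,0] F45 (memY3 [1,6,2,4]) (memY3 [1,6,1,6,1,6,0]) [13,0,11,5] (by decide +kernel) (by decide +kernel))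 rel1r2) (memY3 [1,6,1,6,0,7,2]) (memY4 [5,9,0,2,6]) [13,7,15,2,1] (by decide +kernel) (by decide +kernel))

theorem F51 : Arc 3 3 [3,3,4,2,5,2,2,4,7] [4,3,4,3,3,7,5,2,5,1] :=
  (Arc.tr [3,3,4,2,5,2,2,4,7] [4,3,4,3,3,7,5,2,5,1] (tri (h0 := [4,3,1,3,3,5,0,5,6]) (h1 := [3,0,4,7,4,3,4,0,5,5]) (h2 := [4,4,7]) (q0 := [1,6,3,5,1,2,5,7,2,5,3,1,5,0,3,0,2,0,3]) (q1 := [1,5,7,0,5,3,0,5,7,1,5,0,4,3,3,5,3,1,3,3]) (q2 := [5,7,1,5,1,2,5,7]) (Arc.tr [4,3,1,3,3,5,0,5,6,1,6,3,5,1,2,5,7,2,5,3,1,5,0,3,0,2,0,3] [3,0,4,7,4,3,4,0,5,5] F21 (memY3 [6,0,6,1,6,1]) (memY3 [0,0,6,3,6,0]) [15,3,15,3] (by decide +kernel) (by decide +kernel)) (Arc.tr [3,0,4,7,4,3,4,0,5,5,1,5,7,0,5,3,0,5,7,1,5,0,4,3,3,5,3,1,3,3] [4,4,7] F16 (memY3 [6,0,0,0,6,1,7]) (memY3 [0,0]) [5,11,2,0]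 (by decide +kernel) (by decide +kernel)) rel1r1) (memY3 [0,6,0,6,1,2]) (memY3 [1,1,6,4]) [6,3,12,14,12] (by decide +kernel) (by decide +kernel))

theorem F61 : Arc 3 4 [4,3,5,3,5,0,2,7] [4,6,4,3,4,4,6,5,0,2] :=
  (Arc.tr [4,3,5,3,5,0,2,7] [4,6,4,3,4,4,6,5,0,2] (tri (h0 := [4,2,1,6,4,3,7,5,1,2]) (h1 := [2,4,2,4,1,5,6,4,3,1,6]) (h2 := [4,7,5]) (q0 := [1,6,3,5,1,2,5,7,2,5,3,1,5,0,3,0,2,0,3]) (q1 := [1,5,7,0,5,3,0,5,7,1,5,0,4,3,3,5,3,1,3,3]) (q2 := [5,7,1,5,1,2,5,7]) (Arc.tr [4,2,1,6,4,3,7,5,1,2,1,6,3,5,1,2,5,7,2,5,3,1,5,0,3,0,2,0,3] [2,4,2,4,1,5,6,4,3,1,6] F33 (memY4 [2,4,4,9,0]) (memY3 [1,1,6,1,6,2,7]) [0,14,11,3,0,15] (by decide +kernel) (by decide +kernel)) (Arc.tr [2,4,2,4,1,5,6,4,3,1,6,1,5,7,0,5,3,0,5,7,1,5,0,4,3,3,5,3,1,3,3] [4,7,5]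 F16 (memY3 [6,0,0,3,6]) (memY3 []) [14,6,4,10,15] (by decide +kernel) (by decide +kernel)) rel1r1) (memY3 [1,6,0,6,2,6,1]) (memY4 [1,8,0,2,1,9,0]) [11,7,12,15,4,13] (by decide +kernel) (by decide +kernel))

theorem F46 : Arc 3 3 [4,2,0,4,0,3,1,6] [3,4,6,4,6,4,0,2,2,5,1] :=
  (Arc.tr [4,2,0,4,0,3,1,6] [3,4,6,4,6,4,0,2,2,5,1] (tri (h0 := [3,0,2,2,4,2,4,1,7,5,3]) (h1 := [4,6,5,1,6,5,1,4,1,6]) (h2 := [6,4,6]) (q0 := [1,6,3,5,1,2,5,7,2,5,3,1,5,0,3,0,2,0,3]) (q1 := [1,5,7,0,5,3,0,5,7,1,5,0,4,3,3,5,3,1,3,3]) (q2 := [5,7,1,5,1,2,5,7]) (Arc.tr [3,0,2,2,4,2,4,1,7,5,3,1,6,3,5,1,2,5,7,2,5,3,1,5,0,3,0,2,0,3] [4,6,5,1,6,5,1,4,1,6] F38 (memY3 [6,1,6,1,6,0,3]) (memY4 [2,5,8,0]) [0,11,4,0] (by decide +kernel) (by decide +kernel)) (Arc.tr [4,6,5,1,6,5,1,4,1,6,1,5,7,0,5,3,0,5,7,1,5,0,4,3,3,5,3,1,3,3]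 [6,4,6] F30 (memY4 [0,0,2,8,8,0]) (memY3 []) [2,8,13,5] (by decide +kernel) (by decide +kernel)) rel1r1) (memY3 [0,2,0,6]) (memY3 [1,6,2,6,1]) [3,12,11,6,1] (by decide +kernel) (by decide +kernel))

theorem F52 : Arc 3 3 [4,3,5,1,5,2,2,4,6] [3,4,2,2,5,2,1,6,5,7,5] :=
  (Arc.tr [4,3,5,1,5,2,2,4,6] [3,4,2,2,5,2,1,6,5,7,5] (tri (h0 := [2,4,2,5,6,5,7,4,2,4,1]) (h1 := [0,4,2,1,7,4,2,5,1,2]) (h2 := [6,4,7]) (q0 := [1,6,3,5,1,2,5,7,2,5,3,1,5,0,3,0,2,0,3]) (q1 := [1,5,7,0,5,3,0,5,7,1,5,0,4,3,3,5,3,1,3,3]) (q2 := [5,7,1,5,1,2,5,7]) (Arc.tr [2,4,2,5,6,5,7,4,2,4,1,1,6,3,5,1,2,5,7,2,5,3,1,5,0,3,0,2,0,3] [0,4,2,1,7,4,2,5,1,2] F27 (memY3 [6,0,6,0,3]) (memY4 [0,2,5,6]) [3,12,3,15,13,11] (by decide +kernel) (by decide +kernel)) (Arc.tr [0,4,2,1,7,4,2,5,1,2,1,5,7,0,5,3,0,5,7,1,5,0,4,3,3,5,3,1,3,3]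 [6,4,7] F30 (memY4 [0,6,8,1]) (memY3 []) [2,8,10,10,12,4] (by decide +kernel) (by decide +kernel)) rel1r1) (memY3 [0,0,6,1,7,2]) (memY3 [0,6,2,6,0]) [12,0,14] (by decide +kernel) (by decide +kernel))

theorem F60 : Arc 4 3 [4,2,0,3,6,4,2,0,3] [2,2,4,6,5,5,3,5,7,4,0,4] :=
  (Arc.tr [4,2,0,3,6,4,2,0,3] [2,2,4,6,5,5,3,5,7,4,0,4] (tri (h0 := [4,1,4,3,1,4,7,5,5,2,2,4]) (h1 := [2,4,0,3,1,5,1,7]) (h2 := [2,4,3,4,4,6,4,2,1,2,6]) (q0 := [1,5,7,0,5,3,0,5,7,1,5,0,4,3,3,5,3,1,3,3]) (q1 := [5,7,1,5,1,2,5,7]) (q2 := [1,6,3,5,1,2,5,7,2,5,3,1,5,0,3,0,2,0,3]) (Arc.tr [4,1,4,3,1,4,7,5,5,2,2,4,1,5,7,0,5,3,0,5,7,1,5,0,4,3,3,5,3,1,3,3] [2,4,0,3,1,5,1,7] F28 (memY3 [1,1,7,2]) (memY3 [0,6,3,0]) [3,3,0,4,12] (by decide +kernel) (by decide +kernel)) (Arc.tr [2,4,0,3,1,5,1,7,5,7,1,5,1,2,5,7]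 [2,4,3,4,4,6,4,2,1,2,6] F38 (memY3 [0,0,6,2,6,0]) (memY4 [0,6,8,1,2,0,6]) [8,13,15,7,13] (by decide +kernel) (by decide +kernel)) rel1r2) (memY4 [5,6,2,0,0]) (memY3 [0,2,0,7]) [14,12,6,6] (by decide +kernel) (by decide +kernel))

theorem F58 : Arc 3 3 [4,3,3,5,0,2,5,1,7] [4,6,5,6,5,1,3,5,1,2] :=
  (Arc.tr [4,3,3,5,0,2,5,1,7] [4,6,5,6,5,1,3,5,1,2] (tri (h0 := [4,2,4,2,6,4,3,5,3,5,7]) (h1 := [6,4,1,4,3,5,1,7,4,2]) (h2 := [2,4,0,3,1,5,1,4,7,5]) (q0 := [1,6,3,5,1,2,5,7,2,5,3,1,5,0,3,0,2,0,3]) (q1 := [1,5,7,0,5,3,0,5,7,1,5,0,4,3,3,5,3,1,3,3]) (q2 := [5,7,1,5,1,2,5,7]) (Arc.tr [4,2,4,2,6,4,3,5,3,5,7,1,6,3,5,1,2,5,7,2,5,3,1,5,0,3,0,2,0,3] [6,4,1,4,3,5,1,7,4,2] F50 (memY3 [6,3,6]) (memY2 [2,0,7,4,1]) [1,12,10,1,15,2,12] (by decide +kernel) (by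 decide +kernel)) (Arc.tr [6,4,1,4,3,5,1,7,4,2,1,5,7,0,5,3,0,5,7,1,5,0,4,3,3,5,3,1,3,3] [2,4,0,3,1,5,1,4,7,5] F18 (memY2 [4,7,0,4]) (memY3 [2,0,6]) [3,6,6,12,11,15] (by decide +kernel) (by decide +kernel)) rel1r1) (memY3 [2,1]) (memY3 [0,6,0,3,0,6]) [1,12,8,2] (by decide +kernel) (by decide +kernel))

theorem F41 : Arc 3 3 [3,0,2,4,6] [2,4,4,3,4,7,4,3,5,0,4] :=
  (Arc.tr [3,0,2,4,6] [2,4,4,3,4,7,4,3,5,0,4] (tri (h0 := [3,6,4,6,5,0,5,0,6,5,7,4]) (h1 := [4,1,5,1,7,4,0]) (h2 := [2,4,3,0,4,2,1,3,6,4]) (q0 := [1,6,3,5,1,2,5,7,2,5,3,1,5,0,3,0,2,0,3]) (q1 := [1,5,7,0,5,3,0,5,7,1,5,0,4,3,3,5,3,1,3,3]) (q2 := [5,7,1,5,1,2,5,7]) (Arc.tr [3,6,4,6,5,0,5,0,6,5,7,4,1,6,3,5,1,2,5,7,2,5,3,1,5,0,3,0,2,0,3] [4,1,5,1,7,4,0] F50 (memY3 [0,6,0,0,3,7,1]) (memY2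 [0,0,0,6]) [6,1,3,14,12] (by decide +kernel) (by decide +kernel)) (Arc.tr [4,1,5,1,7,4,0,1,5,7,0,5,3,0,5,7,1,5,0,4,3,3,5,3,1,3,3] [2,4,3,0,4,2,1,3,6,4] F18 (memY2 [4,0,7,3]) (memY3 [0,2,1,6]) [0,12,10,0,2,15] (by decide +kernel) (by decide +kernel)) rel1r1) (memY3 [6,1,4,3]) (memY3 [0,6,0,0,3,6,4]) [10,7,2,12,1] (by decide +kernel) (by decide +kernel))

theorem F57 : Arc 4 4 [0,4,1,4,1,6] [0,3,4,2,2,5,3,6,4] :=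
  (Arc.tr [0,4,1,4,1,6] [0,3,4,2,2,5,3,6,4] (tri (h0 := [4,0,2,1,5,6,4,1,3,4]) (h1 := [3,4,0,2,1,6,4,6,4,1,3]) (h2 := [4,1,3,4,4,2,6]) (q0 := [1,6,3,5,1,2,5,7,2,5,3,1,5,0,3,0,2,0,3]) (q1 := [1,5,7,0,5,3,0,5,7,1,5,0,4,3,3,5,3,1,3,3]) (q2 := [5,7,1,5,1,2,5,7]) (Arc.tr [4,0,2,1,5,6,4,1,3,4,1,6,3,5,1,2,5,7,2,5,3,1,5,0,3,0,2,0,3] [3,4,0,2,1,6,4,6,4,1,3] F65 (memY4 [1,2,9,1,9]) (memY3 [0,6,1,6,1,6,3,7]) [12,10,5,14,13,1,11] (by decide +kernel) (by decide +kernel)) (Arc.tr [3,4,0,2,1,6,4,6,4,1,3,1,5,7,0,5,3,0,5,7,1,5,0,4,3,3,5,3,1,3,3] [4,1,3,4,4,2,6] F24 (memY3 [2,0,6]) (memY4 [0,4,6,8]) [0,13,0,14,2,11] (by decide +kernel) (by decide +kernel)) rel1r1) (memY4 [0,6,8]) (memY4 [2,6,2,8,0]) [13,15,8,2] (by decide +kernel) (by decide +kernel))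

theorem F59 : Arc 4 2 [0,4,2,6,5,6,4,7] [3,4,1,2,4,2,5,5,6] :=
  (Arc.tr [0,4,2,6,5,6,4,7] [3,4,1,2,4,2,5,5,6] (tri (h0 := [4,3,5,5,3,6,4,0,6,4]) (h1 := [3,4,3,0,4,2,0,7]) (h2 := [4,3,4,2,4,6,5,1,6,4]) (q0 := [1,5,7,0,5,3,0,5,7,1,5,0,4,3,3,5,3,1,3,3]) (q1 := [5,7,1,5,1,2,5,7]) (q2 := [1,6,3,5,1,2,5,7,2,5,3,1,5,0,3,0,2,0,3]) (Arc.tr [4,3,5,5,3,6,4,0,6,4,1,5,7,0,5,3,0,5,7,1,5,0,4,3,3,5,3,1,3,3] [3,4,3,0,4,2,0,7] F18 (memY2 [2,5,3,7,7,7]) (memY3 [0,0,0,0,6]) [4,13,1,3,12] (by decide +kernel) (by decide +kernel)) (Arc.tr [3,4,3,0,4,2,0,7,5,7,1,5,1,2,5,7] [4,3,4,2,4,6,5,1,6,4] F61 (memY3 [6,0,0,3,6,1,7]) (memY4 [4,4,8,1,2,6]) [2,14,12,6,10,13] (by decide +kernel) (by decide +kernel)) rel1r2) (memY4 [2,1,8,0,2,6]) (memY2 [4,6,6,1,1]) [14,11,5,12,1,11]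 (by decide +kernel) (by decide +kernel))

theorem F35 : Arc 2 2 [3,4,0,5,0,2,1,6] [2,4,2,1,4,2,6,4,0,6] :=
  (Arc.tr [3,4,0,5,0,2,1,6] [2,4,2,1,4,2,6,4,0,6] (tri (h0 := [3,4,0,5,0,2,1,6]) (h1 := [2,4,6,5,3,1,5,3,3,5,6]) (h2 := [4,4,3,6,4,7,5,3]) (q0 := [5,7,1,5,1,2,5,7]) (q1 := [1,6,3,5,1,2,5,7,2,5,3,1,5,0,3,0,2,0,3]) (q2 := [1,5,7,0,5,3,0,5,7,1,5,0,4,3,3,5,3,1,3,3]) (Arc.tr [3,4,0,5,0,2,1,6,5,7,1,5,1,2,5,7] [2,4,6,5,3,1,5,3,3,5,6] F31 (memY2 [7,1,6,6,6]) (memY3 [6,0,6,3,6,4]) [12,2,14,11,7] (by decide +kernel) (by decide +kernel)) (Arc.tr [2,4,6,5,3,1,5,3,3,5,6,1,6,3,5,1,2,5,7,2,5,3,1,5,0,3,0,2,0,3] [4,4,3,6,4,7,5,3] F50 (memY3 [6,1,6,3,7,1]) (memY2 [0,5,3,6,6,5]) [10,9,12,5,10,6] (by decide +kernel) (by decide +kernel)) rel1r0) (memY2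 [7,5,0]) (memY2 [0,0,6,6,4]) [15,11,6,12] (by decide +kernel) (by decide +kernel))

theorem F56 : Arc 4 4 [4,3,5,2,0,7] [2,4,0,3,1,6,5,7,4,1] :=
  (Arc.tr [4,3,5,2,0,7] [2,4,0,3,1,6,5,7,4,1] (tri (h0 := [4,2,2,6,4,0,6,5,3]) (h1 := [3,4,3,0,4,2,4,6]) (h2 := [4,1,4,7,4,4,3,3]) (q0 := [1,5,7,0,5,3,0,5,7,1,5,0,4,3,3,5,3,1,3,3]) (q1 := [5,7,1,5,1,2,5,7]) (q2 := [1,6,3,5,1,2,5,7,2,5,3,1,5,0,3,0,2,0,3]) (Arc.tr [4,2,2,6,4,0,6,5,3,1,5,7,0,5,3,0,5,7,1,5,0,4,3,3,5,3,1,3,3] [3,4,3,0,4,2,4,6] F59 (memY4 [8,0,2,8,1]) (memY2 [2,1,5]) [10,10] (by decide +kernel) (by decide +kernel)) (Arc.tr [3,4,3,0,4,2,4,6,5,7,1,5,1,2,5,7] [4,1,4,7,4,4,3,3] F14 (memY2 [5,7,7,7,5]) (memY4 [0,2,1,8,0,2,0]) [7,9,11,11,3] (by decide +kernel) (by decide +kernel)) rel1r2)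 (memY4 [4,8,1,2,8]) (memY4 [0,2,0,6]) [15,5,13,2] (by decide +kernel) (by decide +kernel))

theorem F63 : Arc 3 3 [2,2,4,3,4,0,5,0,5,7] [2,4,2,6,5,1,2,2,4,3,4] :=
  (Arc.tr [2,2,4,3,4,0,5,0,5,7] [2,4,2,6,5,1,2,2,4,3,4] (tri (h0 := [4,1,6,4,2,1,5,5,2,6,4]) (h1 := [0,2,4,3,1,4,6]) (h2 := [4,0,3,0,4,2,0,6,4,4,6]) (q0 := [1,5,7,0,5,3,0,5,7,1,5,0,4,3,3,5,3,1,3,3]) (q1 := [5,7,1,5,1,2,5,7]) (q2 := [1,6,3,5,1,2,5,7,2,5,3,1,5,0,3,0,2,0,3]) (Arc.tr [4,1,6,4,2,1,5,5,2,6,4,1,5,7,0,5,3,0,5,7,1,5,0,4,3,3,5,3,1,3,3] [0,2,4,3,1,4,6] F24 (memY3 [0,6,0,0,0,6]) (memY4 [0,0,4]) [14] (by decide +kernel) (by decide +kernel)) (Arc.tr [0,2,4,3,1,4,6,5,7,1,5,1,2,5,7] [4,0,3,0,4,2,0,6,4,4,6] F54 (memY4 [9,1,2,0,8,0]) (memY3 [6,3,6,1]) [0,6,12,10,14,12] (by decide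 +kernel) (by decide +kernel)) rel1r2) (memY3 [0,6,0,6,1,2,1,7]) (memY3 [0,0,4,2]) [1,7,13,2] (by decide +kernel) (by decide +kernel))

end Cfsg.Agent.Lib.LyDce
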