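import Mathlib
import Cfsg.Agent.Lib.LyDce.Facts
import Cfsg.Agent.Lib.LyDce.Cover
import Cfsg.Agent.Lib.DCount
import Cfsg.Agent.TcData.Ly.Cov.L1.Up
import Cfsg.Agent.TcData.Ly.Cov.L2.Up
import Cfsg.Agent.TcData.Ly.Cov.L3.Up
import Cfsg.Agent.TcData.Ly.Cov.L4.Up

/-!
# The presented Lyons group: the double cosets cover the group
-/

set_option autoImplicit false
set_option maxRecDepth 100000
set_option linter.all false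
set_option Elab.async false
set_option maxHeartbeats 0

namespace Cfsg.Agent.Lib.LyDce

open Cfsg Cfsg.Spor Cfsg.Lie Cfsg.Agent.Lib.TcFacts Cfsg.Agent.Lib.TcBits Cfsg.Agent.Lib.TcPres
  Cfsg.Agent.Lib.TcRel Cfsg.Agent.Lib.TcChain Cfsg.Spor.Ly Cfsg.Agent.Lib.ChevG25 Cfsg.Agent.Lib.FpVec
  Cfsg.Agent.Lib.LyG25 Cfsg.Agent.Lib.TcCov Cfsg.Agent.Lib.DCount

theorem gen_aux (x : Gen) (i : ℕ) (h : exL x = kLet i) (hi : i < 16) :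
    (PresentedGroup.of x : G) ∈ HB ∧ Z⁻¹ * (PresentedGroup.of x : G) * Z ∈ HB := by
  have h1 : (PresentedGroup.of x : G) = eh (kLet i) := by
    have h2 : (PresentedGroup.of x : G) = ez (exL x) := good_all x
    rw [h2, h]
    exact lt8_ez (K_lt i hi).1
  rw [h1]
  refine ⟨eh_mem _, ?_⟩
  have e : Z⁻¹ * eh (kLet i) * Z = eh (tLet i) := by
    rw [mul_assoc, K_letter i]
    group
  rw [e]
  exact eh_mem _

/-- The elements of `K₁` and their conjugates lie in the stabiliser. -/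
theorem KK_props {κ : G} (h : κ ∈ KK) : κ ∈ HB ∧ Z⁻¹ * κ * Z ∈ HB := by
  have hg : KK ≤ HB ⊓ HB.comap (MulAut.conj Z⁻¹).toMonoidHom := by
    apply (Subgroup.closure_le _).2
    rintro _ ⟨x, hx, rfl⟩
    have hx' : x ∈ Cfsg.Agent.TcData.Ly.K1.TL := hx
    have key : (PresentedGroup.of x : G) ∈ HB ∧ Z⁻¹ * (PresentedGroup.of x : G) * Z ∈ HB := by
      simp only [Cfsg.Agent.TcData.Ly.K1.TL, List.mem_cons, List.not_mem_nil, or_false] at hx'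
      rcases hx' with rfl | rfl | rfl | rfl | rfl | rfl | rfl | rfl
      · exact gen_aux _ 10 rfl (by norm_num)
      · exact gen_aux _ 12 rfl (by norm_num)
      · exact gen_aux _ 14 rfl (by norm_num)
      · exact gen_aux _ 0 rfl (by norm_num)
      · exact gen_aux _ 2 rfl (by norm_num)
      · exact gen_aux _ 4 rfl (by norm_num)
      · exact gen_aux _ 6 rfl (by norm_num)
      · exact gen_aux _ 8 rfl (by norm_num)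
    refine ⟨key.1, ?_⟩
    show (MulAut.conj Z⁻¹) (PresentedGroup.of x : G) ∈ HB
    rw [MulAut.conj_apply, inv_inv]
    exact key.2
  have := hg h
  refine ⟨this.1, ?_⟩
  have h2 : (MulAut.conj Z⁻¹) κ ∈ HB := this.2
  rwa [MulAut.conj_apply, inv_inv] at h2

theorem hgen : Subgroup.closure ((HB : Set G) ∪ {Z}) = ⊤ := by
  rw [eq_top_iff, ← PresentedGroup.closure_range_of RB]
  apply (Subgroup.closure_le _).2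
  rintro _ ⟨x, rfl⟩
  have key : ∀ l : List ℕ, (∀ i ∈ l, i < 10) → ez l ∈ Subgroup.closure ((HB : Set G) ∪ {Z}) := by
    intro l
    induction l with
    | nil => intro _; exact Subgroup.one_mem _
    | cons i l ih =>
      intro hl
      rw [ez_cons]
      refine Subgroup.mul_mem _ ?_ (ih fun j hj => hl j (List.mem_cons_of_mem _ hj))
      have hi := hl i List.mem_cons_self
      have hZ : Z ∈ Subgroup.closure ((HB : Set G) ∪ {Z}) := Subgroup.subset_closure (Or.inr rfl)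
      have hH : ∀ y ∈ HB, y ∈ Subgroup.closure ((HB : Set G) ∪ {Z}) := fun y hy =>
        Subgroup.subset_closure (Or.inl hy)
      interval_cases i
      · exact hH _ (ltH_mem 0)
      · exact hH _ (ltH_mem 1)
      · exact hH _ (ltH_mem 2)
      · exact hH _ (ltH_mem 3)
      · exact hH _ (ltH_mem 4)
      · exact hH _ (ltH_mem 5)
      · exact hH _ (ltH_mem 6)
      · exact hH _ (ltH_mem 7)
      · exact hZ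
      · exact Subgroup.inv_mem _ hZ
  have h2 : (PresentedGroup.of x : G) = ez (exL x) := good_all x
  show (PresentedGroup.of x : G) ∈ _
  rw [h2]
  exact key _ (exL_lt x)

theorem gW1_mem : ∀ w ∈ Cfsg.Agent.TcData.Ly.Cov.L1.gW, eh w ∈ A 1 := by
  refine List.forall_mem_cons.2 ⟨?_, List.forall_mem_cons.2 ⟨?_, List.forall_mem_cons.2 ⟨?_, List.forall_mem_cons.2 ⟨?_, List.forall_mem_cons.2 ⟨?_, List.forall_mem_cons.2 ⟨?_, List.forall_mem_cons.2 ⟨?_, List.forall_mem_cons.2 ⟨?_, List.forall_mem_nil _⟩⟩⟩⟩⟩⟩⟩⟩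
  · rw [eh_eq (a := [0]) (b := tW [11,11,11]) (by decide +kernel)]
    exact mem1 _
  · rw [eh_eq (a := [1]) (b := tW [10,10,10]) (by decide +kernel)]
    exact mem1 _
  · rw [eh_eq (a := [0,0,0,0,4]) (b := tW [10,5,14,11,7,15]) (by decide +kernel)]
    exact mem1 _
  · rw [eh_eq (a := [5,1,1,1,1]) (b := tW [10,5,14,11,7,15]) (by decide +kernel)]
    exact mem1 _
  · rw [eh_eq (a := [0,0,2,0,3]) (b := tW [13]) (by decide +kernel)]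
    exact mem1 _
  · rw [eh_eq (a := [2,1,3,1,1]) (b := tW [12]) (by decide +kernel)]
    exact mem1 _
  · rw [eh_eq (a := [0,3,0,2,2]) (b := tW [13,15]) (by decide +kernel)]
    exact mem1 _
  · rw [eh_eq (a := [3,3,1,2,1]) (b := tW [14,12]) (by decide +kernel)]
    exact mem1 _

theorem gW2_mem : ∀ w ∈ Cfsg.Agent.TcData.Ly.Cov.L2.gW, eh w ∈ A 2 := Y2_mem

theorem gW3_mem : ∀ w ∈ Cfsg.Agent.TcData.Ly.Cov.L3.gW, eh w ∈ A 3 := Y3_mem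

theorem gW4_mem : ∀ w ∈ Cfsg.Agent.TcData.Ly.Cov.L4.gW, eh w ∈ A 4 := Y4_mem

theorem cover1 : ∀ h ∈ HB, ∃ r ∈ Cfsg.Agent.TcData.Ly.Cov.L1.rW, ∃ y ∈ A 1, ∃ κ ∈ KK, h = y * eh r * κ :=
  level_cover 1 Cfsg.Agent.TcData.Ly.Cov.L1.rW Cfsg.Agent.TcData.Ly.Cov.L1.gW Cfsg.Agent.TcData.Ly.Cov.L1.rP Cfsg.Agent.TcData.Ly.Cov.L1.gP Cfsg.Agent.TcData.Ly.Cov.L1.trE 6 8
    (by decide +kernel) (by decide +kernel) rfl rfl (by decide +kernel) (by decide +kernel) gW1_mem Cfsg.Agent.TcData.Ly.Cov.L1.hF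

theorem roots1 : ∀ r ∈ Cfsg.Agent.TcData.Ly.Cov.L1.rW, ∃ k' g, k' < 5 ∧ Arc 1 k' r g :=
  List.forall_mem_cons.2 ⟨⟨2, [], by norm_num, F3⟩, List.forall_mem_cons.2 ⟨⟨3, [], by norm_num, F4⟩, List.forall_mem_cons.2 ⟨⟨4, [2,5,3,1,5,5], by norm_num, F9⟩, List.forall_mem_cons.2 ⟨⟨0, [], by norm_num, F1⟩, List.forall_mem_cons.2 ⟨⟨1, [2], by norm_num, F2⟩, List.forall_mem_cons.2 ⟨⟨1, [6,4,3,0,4,0,6,4,1], by norm_num, F19⟩, List.forall_mem_nil _⟩⟩⟩⟩⟩⟩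

theorem cover2 : ∀ h ∈ HB, ∃ r ∈ Cfsg.Agent.TcData.Ly.Cov.L2.rW, ∃ y ∈ A 2, ∃ κ ∈ KK, h = y * eh r * κ :=
  level_cover 2 Cfsg.Agent.TcData.Ly.Cov.L2.rW Cfsg.Agent.TcData.Ly.Cov.L2.gW Cfsg.Agent.TcData.Ly.Cov.L2.rP Cfsg.Agent.TcData.Ly.Cov.L2.gP Cfsg.Agent.TcData.Ly.Cov.L2.trE 11 8
    (by decide +kernel) (by decide +kernel) rfl rfl (by decide +kernel) (by decide +kernel) gW2_mem Cfsg.Agent.TcData.Ly.Cov.L2.hF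

theorem roots2 : ∀ r ∈ Cfsg.Agent.TcData.Ly.Cov.L2.rW, ∃ k' g, k' < 5 ∧ Arc 2 k' r g :=
  List.forall_mem_cons.2 ⟨⟨1, [6], by norm_num, F5⟩, List.forall_mem_cons.2 ⟨⟨3, [6], by norm_num, F7⟩, List.forall_mem_cons.2 ⟨⟨2, [2,6], by norm_num, F12⟩, List.forall_mem_cons.2 ⟨⟨3, [2,4,0,2,4,1,5,7,4,2,1], by norm_num, F18⟩, List.forall_mem_cons.2 ⟨⟨4, [0,4,2,1,3,6,5,6], by norm_num, F14⟩, List.forall_mem_cons.2 ⟨⟨4, [0,4,0,4,3,6,5,1,6,4,3,4], by norm_num, F8⟩, List.forall_mem_cons.2 ⟨⟨3, [2,4,1,2,4,6,4,2,2,4,1,7], by norm_num, F31⟩, List.forall_mem_cons.2 ⟨⟨2, [2,2,4,0,5,0,3,7,5,1], by norm_num, F34⟩, List.forall_mem_cons.2 ⟨⟨4, [4,0,5,2,2,7,5,5,1,4], by norm_num, F32⟩, List.forall_mem_cons.2 ⟨⟨4, [0,4,2,6,5,6,4,7], by norm_num, F36⟩, List.forall_mem_cons.2 ⟨⟨2, [2,4,2,1,4,2,6,4,0,6], by norm_num, F35⟩, List.forall_mem_nil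 _⟩⟩⟩⟩⟩⟩⟩⟩⟩⟩⟩

theorem cover3 : ∀ h ∈ HB, ∃ r ∈ Cfsg.Agent.TcData.Ly.Cov.L3.rW, ∃ y ∈ A 3, ∃ κ ∈ KK, h = y * eh r * κ :=
  level_cover 3 Cfsg.Agent.TcData.Ly.Cov.L3.rW Cfsg.Agent.TcData.Ly.Cov.L3.gW Cfsg.Agent.TcData.Ly.Cov.L3.rP Cfsg.Agent.TcData.Ly.Cov.L3.gP Cfsg.Agent.TcData.Ly.Cov.L3.trE 30 8
    (by decide +kernel) (by decide +kernel) rfl rfl (by decide +kernel) (by decide +kernel) gW3_mem Cfsg.Agent.TcData.Ly.Cov.L3.hF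

theorem roots3 : ∀ r ∈ Cfsg.Agent.TcData.Ly.Cov.L3.rW, ∃ k' g, k' < 5 ∧ Arc 3 k' r g :=
  List.forall_mem_cons.2 ⟨⟨1, [2,6], by norm_num, F6⟩, List.forall_mem_cons.2 ⟨⟨2, [3], by norm_num, F11⟩, List.forall_mem_cons.2 ⟨⟨3, [2], by norm_num, F10⟩, List.forall_mem_cons.2 ⟨⟨2, [2,4,2,1,3,6,5,7], by norm_num, F17⟩, List.forall_mem_cons.2 ⟨⟨3, [4,1,3,7,5,0,5,0,2], by norm_num, F16⟩, List.forall_mem_cons.2 ⟨⟨3, [4,2,1,4,1,6,5,2,7], by norm_num, F43⟩, List.forall_mem_cons.2 ⟨⟨3, [2,4,3,5,0,6,4,2,4,0,2], by norm_num, F42⟩, List.forall_mem_cons.2 ⟨⟨4, [0,4,2,0,3,4,6,5,6], by norm_num, F27⟩, List.forall_mem_cons.2 ⟨⟨3, [3,6,4,6,5,5,2,4,0,2,6], by norm_num, F26⟩, List.forall_mem_cons.2 ⟨⟨4, [4,1,4,2,4,0,3,7], by norm_num, F24⟩, List.forall_mem_cons.2 ⟨⟨4, [2,6,4,3,3,6], by norm_num, F25⟩, List.forall_mem_cons.2 ⟨⟨3, [6,4,2,1,3,7,4,3,5,0],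 by norm_num, F21⟩, List.forall_mem_cons.2 ⟨⟨4, [2,0,4,1,5,7,5,1,3,5], by norm_num, F38⟩, List.forall_mem_cons.2 ⟨⟨3, [4,3,3,5,0,0,6,5,7,5,1], by norm_num, F29⟩, List.forall_mem_cons.2 ⟨⟨3, [4,3,0,6,4,3,5,2,5,3,7], by norm_num, F49⟩, List.forall_mem_cons.2 ⟨⟨2, [4,0,6,5,7,5,3], by norm_num, F50⟩, List.forall_mem_cons.2 ⟨⟨4, [4,0,5,3,6,5,3,5,1,5], by norm_num, F47⟩, List.forall_mem_cons.2 ⟨⟨4, [4,3,7,4,1,5,5,3,5], by norm_num, F23⟩, List.forall_mem_cons.2 ⟨⟨3, [4,2,4,3,6,4,3,1,3,4], by norm_num, F28⟩, List.forall_mem_cons.2 ⟨⟨3, [3,4,0,5,2,6,4,2,4,2,0], by norm_num, F45⟩, List.forall_mem_cons.2 ⟨⟨3, [4,0,2,0,6,5,3,6,5,3,4,0], by norm_num, F48⟩, List.forall_mem_cons.2 ⟨⟨3, [4,0,2,4,6,5,1,4,3,6,5], by norm_num, F39⟩, List.forall_mem_cons.2 ⟨⟨4, [4,0,2,1,7,5,1,3,5,5], by norm_num, F40⟩, List.forall_mem_cons.2 ⟨⟨3, [4,3,4,3,3,7,5,2,5,1],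 by norm_num, F51⟩, List.forall_mem_cons.2 ⟨⟨4, [4,6,4,3,4,4,6,5,0,2], by norm_num, F61⟩, List.forall_mem_cons.2 ⟨⟨3, [3,4,6,4,6,4,0,2,2,5,1], by norm_num, F46⟩, List.forall_mem_cons.2 ⟨⟨3, [3,4,2,2,5,2,1,6,5,7,5], by norm_num, F52⟩, List.forall_mem_cons.2 ⟨⟨3, [4,6,5,6,5,1,3,5,1,2], by norm_num, F58⟩, List.forall_mem_cons.2 ⟨⟨3, [2,4,4,3,4,7,4,3,5,0,4], by norm_num, F41⟩, List.forall_mem_cons.2 ⟨⟨3, [2,4,2,6,5,1,2,2,4,3,4], by norm_num, F63⟩, List.forall_mem_nil _⟩⟩⟩⟩⟩⟩⟩⟩⟩⟩⟩⟩⟩⟩⟩⟩⟩⟩⟩⟩⟩⟩⟩⟩⟩⟩⟩⟩⟩⟩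

theorem cover4 : ∀ h ∈ HB, ∃ r ∈ Cfsg.Agent.TcData.Ly.Cov.L4.rW, ∃ y ∈ A 4, ∃ κ ∈ KK, h = y * eh r * κ :=
  level_cover 4 Cfsg.Agent.TcData.Ly.Cov.L4.rW Cfsg.Agent.TcData.Ly.Cov.L4.gW Cfsg.Agent.TcData.Ly.Cov.L4.rP Cfsg.Agent.TcData.Ly.Cov.L4.gP Cfsg.Agent.TcData.Ly.Cov.L4.trE 18 10
    (by decide +kernel) (by decide +kernel) rfl rfl (by decide +kernel) (by decide +kernel) gW4_mem Cfsg.Agent.TcData.Ly.Cov.L4.hF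

theorem roots4 : ∀ r ∈ Cfsg.Agent.TcData.Ly.Cov.L4.rW, ∃ k' g, k' < 5 ∧ Arc 4 k' r g :=
  List.forall_mem_cons.2 ⟨⟨1, [6,4,4,6], by norm_num, F15⟩, List.forall_mem_cons.2 ⟨⟨4, [2,0,6,5,1], by norm_num, F22⟩, List.forall_mem_cons.2 ⟨⟨2, [3,4,1,2,4,2,0,6], by norm_num, F20⟩, List.forall_mem_cons.2 ⟨⟨3, [4,2,6,5,1,4,2,7,4,2,0], by norm_num, F37⟩, List.forall_mem_cons.2 ⟨⟨2, [6], by norm_num, F13⟩, List.forall_mem_cons.2 ⟨⟨3, [6,4,2,1,3,6,5], by norm_num, F30⟩, List.forall_mem_cons.2 ⟨⟨2, [2,6,4,0,6,4,6,5,0,0,2], by norm_num, F55⟩, List.forall_mem_cons.2 ⟨⟨3, [4,6,4,3,4,6,5,1,2,7], by norm_num, F64⟩, List.forall_mem_cons.2 ⟨⟨3, [4,1,3,6,4,0], by norm_num, F33⟩, List.forall_mem_cons.2 ⟨⟨3, [2,4,4,6], by norm_num, F44⟩, List.forall_mem_cons.2 ⟨⟨3, [6,4,3,6,5,2,5,2,0,5], by norm_num, F54⟩, List.forall_mem_cons.2 ⟨⟨4,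 [2,2,4,2,1,7,4,1,5,2,5], by norm_num, F53⟩, List.forall_mem_cons.2 ⟨⟨4, [4,3,6,5,5,0,5,5,6], by norm_num, F62⟩, List.forall_mem_cons.2 ⟨⟨3, [3,3,4,6,5,2,4,7,5,3,4], by norm_num, F65⟩, List.forall_mem_cons.2 ⟨⟨3, [2,2,4,6,5,5,3,5,7,4,0,4], by norm_num, F60⟩, List.forall_mem_cons.2 ⟨⟨4, [0,3,4,2,2,5,3,6,4], by norm_num, F57⟩, List.forall_mem_cons.2 ⟨⟨2, [3,4,1,2,4,2,5,5,6], by norm_num, F59⟩, List.forall_mem_cons.2 ⟨⟨4, [2,4,0,3,1,6,5,7,4,1], by norm_num, F56⟩, List.forall_mem_nil _⟩⟩⟩⟩⟩⟩⟩⟩⟩⟩⟩⟩⟩⟩⟩⟩⟩⟩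

/-- The step of the enumeration, at a level with a cover and roots. -/
theorem step_aux {k : ℕ} {rW : List (List ℕ)} (hc : ∀ h ∈ HB, ∃ r ∈ rW, ∃ y ∈ A k, ∃ κ ∈ KK, h = y * eh r * κ)
    (hr : ∀ r ∈ rW, ∃ k' g, k' < 5 ∧ Arc k k' r g) (h : G) (hh : h ∈ HB) :
    ∃ k' : Fin 5, ∃ η ∈ HB, ∃ h' ∈ HB, W k * h * Z = η * W k' * h' := by
  obtain ⟨r, hr1, y, hy, κ, hκ, rfl⟩ := hc h hh
  obtain ⟨k', g, hk', hA⟩ := hr r hr1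
  refine ⟨⟨k', hk'⟩, (W k * y * (W k)⁻¹) * ((W k * eh r * Z) * (W k' * eh g)⁻¹),
    HB.mul_mem (mem_A.mp hy).2 hA, eh g * (Z⁻¹ * κ * Z), HB.mul_mem (eh_mem g) (KK_props hκ).2, ?_⟩
  show W k * (y * eh r * κ) * Z = _ * W k' * _
  group

theorem hstep (k : Fin 5) (h : G) (hh : h ∈ HB) :
    ∃ k' : Fin 5, ∃ η ∈ HB, ∃ h' ∈ HB, W k * h * Z = η * W k' * h' := by
  match k with
  | ⟨0, _⟩ => exact ⟨1, h, hh, 1, HB.one_mem, by simp [W]⟩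
  | ⟨1, _⟩ => exact step_aux cover1 roots1 h hh
  | ⟨2, _⟩ => exact step_aux cover2 roots2 h hh
  | ⟨3, _⟩ => exact step_aux cover3 roots3 h hh
  | ⟨4, _⟩ => exact step_aux cover4 roots4 h hh

theorem Z_sq_mem : Z * Z ∈ HB := by
  rw [Z_sq]
  exact eh_mem _

/-- The group is the union of the double cosets. -/
theorem hcov : ∀ g : G, ∃ k : Fin 5, ∃ η ∈ HB, ∃ h ∈ HB, g = η * W k * h :=
  cover_of_step (W := fun k : Fin 5 => W k) hgen Z_sq_mem (k0 := 0) rfl hstep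

end Cfsg.Agent.Lib.LyDce
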