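import Mathlib
import Cfsg.Agent.Lib.LyDce.Step
import Cfsg.Agent.TcData.Ly.Card.L2
import Cfsg.Agent.TcData.Ly.Card.L3
import Cfsg.Agent.TcData.Ly.Card.L4

/-!
# The presented Lyons group: the orders of the stabilisers, an upper bound for the index
-/

set_option autoImplicit false
set_option maxRecDepth 100000
set_option linter.all false
set_option Elab.async false
set_option maxHeartbeats 0

namespace Cfsg.Agent.Lib.LyDce

open Cfsg Cfsg.Spor Cfsg.Lie Cfsg.Agent.Lib.TcFacts Cfsg.Agent.Lib.TcBits Cfsg.Agent.Lib.TcPres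
  Cfsg.Agent.Lib.TcRel Cfsg.Agent.Lib.TcChain Cfsg.Spor.Ly Cfsg.Agent.Lib.ChevG25 Cfsg.Agent.Lib.FpVec
  Cfsg.Agent.Lib.LyG25 Cfsg.Agent.Lib.TcCov Cfsg.Agent.Lib.DCount Cfsg.Agent.Lib.VecOrb

theorem card_HB : Nat.card HB = 5859000000 := by
  rw [Nat.card_congr psi.toEquiv, card_GG]

instance finite_HB : Finite HB := Nat.finite_of_card_ne_zero (by rw [card_HB]; norm_num)

theorem A_le (k : ℕ) : A k ≤ HB := fun _ h => (mem_A.mp h).1

instance finite_A (k : ℕ) : Finite (A k) := Finite.of_injective (Subgroup.inclusion (A_le k))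
  (Subgroup.inclusion_injective (A_le k))

theorem wordV_app (a b : List ℕ) (u : ℕ) :
    wordV 256 5 14 cN (a ++ b) u = wordV 256 5 14 cN a (wordV 256 5 14 cN b u) := by
  induction a with
  | nil => rfl
  | cons i a ih =>
    simp only [List.cons_append, wordV]
    rw [ih]

theorem decM_inj {a b : Matrix (Fin 14) (Fin 14) K} (h : decM a = decM b) : a = b := by
  ext i j
  have := congrFun (congrFun h (eI.symm i)) (eI.symm j)
  simpa [decM] using this

theorem mv_lt14 (c : List ℕ) (u : ℕ) : mv 256 5 14 c u < 256 ^ 14 := by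
  unfold mv
  exact redu_lt (B := 256) (p := 5) (by norm_num) (by norm_num) (by norm_num) 14 _

theorem word_lt (l : List ℕ) {v : ℕ} (hv : v < 256 ^ 14) : wordV 256 5 14 cN l v < 256 ^ 14 := by
  cases l with
  | nil => exact hv
  | cons a l =>
    simp only [wordV]
    exact mv_lt14 _ _

/-- The digits of a reduced code are determined by its vector. -/
theorem code_inj {x y : ℕ} (hx : Rd 256 5 x) (hy : Rd 256 5 y) (hx2 : x < 256 ^ 14) (hy2 : y < 256 ^ 14)
    (h : decV 256 5 14 x = decV 256 5 14 y) : x = y := by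
  rw [eq_val (B := 256) (by norm_num) 14 x hx2, eq_val (B := 256) (by norm_num) 14 y hy2]
  unfold val
  refine Finset.sum_congr rfl fun i hi => ?_
  have hi' : i < 14 := Finset.mem_range.mp hi
  have h1 := congrFun h ⟨i, hi'⟩
  simp only [decV] at h1
  have h2 := (ZMod.natCast_eq_natCast_iff' _ _ 5).mp h1
  rw [Nat.mod_eq_of_lt (hx i), Nat.mod_eq_of_lt (hy i)] at h2
  rw [h2]

/-- The action on a vector of the element of a word. -/
theorem wordV_congr {l1 l2 : List ℕ} (h : eh l1 = eh l2) {v : ℕ} (hv : Rd 256 5 v) (hv2 : v < 256 ^ 14) :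
    wordV 256 5 14 cN l1 v = wordV 256 5 14 cN l2 v := by
  have e1 : (⟨eh l1, eh_mem l1⟩ : HB) = ⟨eh l2, eh_mem l2⟩ := Subtype.ext h
  have e2 := psi_eh l1
  rw [e1, psi_eh l2] at e2
  have e3 := decM_inj e2
  obtain ⟨a1, a2⟩ := wordV_spec par cN_valid l1 hv
  obtain ⟨b1, b2⟩ := wordV_spec par cN_valid l2 hv
  apply code_inj a1 b1 (word_lt l1 hv2) (word_lt l2 hv2)
  rw [a2, b2, e3]

theorem card_of_table {k n : ℕ} {key par gen dep : ℕ → ℕ} {v0 : ℕ} {Y : List (List ℕ)}
    (h : ∀ i, i < n → rowOK key par gen dep (fun g x => wordV 256 5 14 cN (Y.getD g []) x) v0 n i = true)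
    (hY : ∀ w ∈ Y, eh w ∈ A k) (hv : Rd 256 5 v0) (hv2 : v0 < 256 ^ 14) : n ≤ Nat.card (A k) := by
  have hY' : ∀ g, eh (Y.getD g []) ∈ A k := by
    intro g
    by_cases hg : g < Y.length
    · rw [List.getD_eq_getElem _ _ hg]
      exact hY _ (List.getElem_mem hg)
    · rw [List.getD_eq_default _ _ (by omega)]
      exact (A k).one_mem
  have hreach := reach_all h (fun x => ∃ l, eh l ∈ A k ∧ wordV 256 5 14 cN l v0 = x) ⟨[], (A k).one_mem, rfl⟩ (by
    rintro g _ ⟨l, hl, rfl⟩
    refine ⟨Y.getD g [] ++ l, ?_, wordV_app _ _ _⟩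
    rw [eh_append]
    exact (A k).mul_mem (hY' g) hl)
  choose! l hl1 hl2 using hreach
  let f : Fin n → A k := fun i => ⟨eh (l i), hl1 i i.2⟩
  have hf : Function.Injective f := by
    intro i j e
    have e1 : eh (l i) = eh (l j) := congrArg Subtype.val e
    have e2 := wordV_congr e1 hv hv2
    rw [hl2 i i.2, hl2 j j.2] at e2
    exact Fin.ext (key_inj h i.2 j.2 e2)
  have := Nat.card_le_card_of_injective f hf
  simpa using this

theorem allR_le {F : ℕ → Bool} {d : ℕ} (h : allR F d 0 = true) {n : ℕ} (hn : n ≤ 2 ^ d) :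
    ∀ i, i < n → F i = true := fun i hi => allR_spec F d 0 h i (Nat.zero_le _) (by omega)



/-- A reduced code: the check. -/
theorem rd_of_redu {v : ℕ} (h : redu 256 5 14 v = v) : Rd 256 5 v := by
  rw [← h]
  exact rd_redu (B := 256) (p := 5) (by norm_num) (by norm_num) (by norm_num) 14 v

theorem lt_of_redu {v : ℕ} (h : redu 256 5 14 v = v) : v < 256 ^ 14 := by
  rw [← h]
  exact redu_lt (B := 256) (p := 5) (by norm_num) (by norm_num) (by norm_num) 14 v

theorem card_A2 : 6048 ≤ Nat.card (A 2) :=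
  card_of_table (Y := Y2) (allR_le Cfsg.Agent.TcData.Ly.Card.L2.hF (by norm_num)) Y2_mem
    (rd_of_redu (by decide +kernel)) (lt_of_redu (by decide +kernel))

theorem card_A3 : 1008 ≤ Nat.card (A 3) :=
  card_of_table (Y := Y3) (allR_le Cfsg.Agent.TcData.Ly.Card.L3.hF (by norm_num)) Y3_mem
    (rd_of_redu (by decide +kernel)) (lt_of_redu (by decide +kernel))

theorem card_A4 : 2880 ≤ Nat.card (A 4) :=
  card_of_table (Y := Y4) (allR_le Cfsg.Agent.TcData.Ly.Card.L4.hF (by norm_num)) Y4_mem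
    (rd_of_redu (by decide +kernel)) (lt_of_redu (by decide +kernel))

theorem KK_le : KK ≤ HB := fun _ h => (KK_props h).1

/-- The subgroup containing `K₁` in the table is the stabiliser. -/
theorem subOf_eq : subOf RB Cfsg.Agent.TcData.Ly.K1.SL = HB := by
  apply le_antisymm _ HB_le
  apply (Subgroup.closure_le _).2
  rintro _ ⟨x, hx, rfl⟩
  have key : ∀ x ∈ Cfsg.Agent.TcData.Ly.K1.SL, ∀ i ∈ exL x, i < 8 := by decide
  have h2 : (PresentedGroup.of x : G) = ez (exL x) := good_all x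
  show (PresentedGroup.of x : G) ∈ HB
  rw [h2, lt8_ez (key x hx)]
  exact eh_mem _

theorem card_KK : 300000 ≤ Nat.card KK := by
  obtain ⟨h1, h2⟩ := Cfsg.Agent.TcData.Ly.K1.relIndex_le'
  have e : Cfsg.Agent.Lib.TcRel.subOf Cfsg.Agent.TcData.Ly.RR Cfsg.Agent.TcData.Ly.K1.SL = HB := subOf_eq
  rw [e] at h1 h2
  have h3 : Nat.card (KK.subgroupOf HB) * (KK.subgroupOf HB).index = Nat.card HB := Subgroup.card_mul_index _
  have h4 : Nat.card (KK.subgroupOf HB) = Nat.card KK := Nat.card_congr (Subgroup.subgroupOfEquivOfLe KK_le).toEquiv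
  rw [h4, card_HB] at h3
  have h5 : (KK.subgroupOf HB).index ≤ 19530 := h2
  by_contra hc
  have h6 : Nat.card KK ≤ 299999 := by omega
  have h7 : Nat.card KK * (KK.subgroupOf HB).index ≤ 299999 * 19530 := Nat.mul_le_mul h6 h5
  omega

theorem card_A1 : 300000 ≤ Nat.card (A 1) := by
  refine card_KK.trans ?_
  let f : KK → A 1 := fun κ => ⟨Z⁻¹ * κ * Z, by
    refine mem_A.mpr ⟨(KK_props κ.2).2, ?_⟩
    have e : W 1 * (Z⁻¹ * (κ : G) * Z) * (W 1)⁻¹ = κ := by
      show Z * (Z⁻¹ * (κ : G) * Z) * Z⁻¹ = κ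
      group
    rw [e]
    exact (KK_props κ.2).1⟩
  have hf : Function.Injective f := by
    intro a b e
    have e1 : Z⁻¹ * (a : G) * Z = Z⁻¹ * (b : G) * Z := congrArg Subtype.val e
    exact Subtype.ext (by simpa using e1)
  exact Nat.card_le_card_of_injective f hf

theorem rel0 : (A 0).relIndex HB ≤ 1 := by
  refine relIndex_le_of_card (A_le 0) card_HB (m := 5859000000) (by norm_num) (by norm_num) ?_
  rw [← card_HB]
  refine Nat.card_le_card_of_injective (fun h : HB => (⟨h, mem_A.mpr ⟨h.2, ?_⟩⟩ : A 0)) ?_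
  · have : W 0 * (h : G) * (W 0)⁻¹ = h := by
      show 1 * (h : G) * 1⁻¹ = h
      group
    rw [this]
    exact h.2
  · intro a b e
    exact Subtype.ext (congrArg (fun x : A 0 => (x : G)) e)

theorem rel1 : (A 1).relIndex HB ≤ 19530 :=
  relIndex_le_of_card (A_le 1) card_HB (m := 300000) (by norm_num) (by norm_num) card_A1

theorem rel2 : (A 2).relIndex HB ≤ 968750 :=
  relIndex_le_of_card (A_le 2) card_HB (m := 6048) (by norm_num) (by norm_num) card_A2

theorem rel3 : (A 3).relIndex HB ≤ 5812500 :=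
  relIndex_le_of_card (A_le 3) card_HB (m := 1008) (by norm_num) (by norm_num) card_A3

theorem rel4 : (A 4).relIndex HB ≤ 2034375 :=
  relIndex_le_of_card (A_le 4) card_HB (m := 2880) (by norm_num) (by norm_num) card_A4

/-- The conjugates of the stabilisers lie in the subgroup. -/
theorem hcA : ∀ k : Fin 5, ∀ y ∈ (fun k : Fin 5 => A k) k, (fun k : Fin 5 => W k) k * y * ((fun k : Fin 5 => W k) k)⁻¹ ∈ HB :=
  fun k y hy => (mem_A.mp hy).2

theorem sum_le : ∑ k : Fin 5, (A k).relIndex HB ≤ 8835156 := by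
  rw [Fin.sum_univ_five]
  have h0 := rel0
  have h1 := rel1
  have h2 := rel2
  have h3 := rel3
  have h4 := rel4
  show (A 0).relIndex HB + (A 1).relIndex HB + (A 2).relIndex HB + (A 3).relIndex HB + (A 4).relIndex HB ≤ _
  omega

/-- The index of the subgroup is at most the sum. -/
theorem index_le : Finite (G ⧸ HB) ∧ HB.index ≤ 8835156 := by
  obtain ⟨h1, h2⟩ := index_le_sum (W := fun k : Fin 5 => W k) (A := fun k : Fin 5 => A k) (H := HB) hcA hcov
  exact ⟨h1, h2.trans sum_le⟩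

instance finite_quot : Finite (G ⧸ HB) := index_le.1

theorem index_ne : HB.index ≠ 0 := Subgroup.index_ne_zero_of_finite

instance finite_G : Finite G := by
  apply Nat.finite_of_card_ne_zero
  rw [← Subgroup.card_mul_index HB, card_HB]
  exact mul_ne_zero (by norm_num) index_ne

end Cfsg.Agent.Lib.LyDce
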