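import Mathlib
import Cfsg.Agent.Lib.LyDce.Card
import Cfsg.Agent.TcData.Ly.Syl.TabT
import Cfsg.Agent.TcData.Ly.Syl.TabU
import Cfsg.Agent.TcData.Ly.Syl.TabPa
import Cfsg.Agent.TcData.Ly.Syl.TabPb
import Cfsg.Agent.TcData.Ly.Syl.TabPc

/-!
# The presented Lyons group: the index of `G₂(5)`, the order, simplicity
-/

set_option autoImplicit false
set_option maxRecDepth 100000
set_option linter.all false
set_option Elab.async false
set_option maxHeartbeats 0

namespace Cfsg.Agent.Lib.LyDce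

open Cfsg Cfsg.Spor Cfsg.Lie Cfsg.Agent.Lib.TcFacts Cfsg.Agent.Lib.TcBits Cfsg.Agent.Lib.TcPres
  Cfsg.Agent.Lib.TcRel Cfsg.Agent.Lib.TcChain Cfsg.Spor.Ly Cfsg.Agent.Lib.ChevG25 Cfsg.Agent.Lib.FpVec
  Cfsg.Agent.Lib.LyG25 Cfsg.Agent.Lib.TcCov Cfsg.Agent.Lib.DCount Cfsg.Agent.Lib.VecOrb

theorem dvdT : 256 ∣ Nat.card G := Cfsg.Agent.TcData.Ly.Syl.T.dvd_card

theorem dvdU : 2187 ∣ Nat.card G := Cfsg.Agent.TcData.Ly.Syl.U.dvd_card

theorem dvdPa : 11 ∣ Nat.card G := Cfsg.Agent.TcData.Ly.Syl.Pa.dvd_card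

theorem dvdPb : 37 ∣ Nat.card G := Cfsg.Agent.TcData.Ly.Syl.Pb.dvd_card

theorem dvdPc : 67 ∣ Nat.card G := Cfsg.Agent.TcData.Ly.Syl.Pc.dvd_card

/-- The index of the stabiliser. -/
theorem index_eq : HB.index = 8835156 := by
  have h1 : (256 * 2187 * 11 * 37 * 67) ∣ Nat.card G := by
    refine Nat.Coprime.mul_dvd_of_dvd_of_dvd (by norm_num) ?_ dvdPc
    refine Nat.Coprime.mul_dvd_of_dvd_of_dvd (by norm_num) ?_ dvdPb
    refine Nat.Coprime.mul_dvd_of_dvd_of_dvd (by norm_num) ?_ dvdPa
    exact Nat.Coprime.mul_dvd_of_dvd_of_dvd (by norm_num) dvdT dvdU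
  have h2 := Subgroup.card_mul_index HB
  rw [card_HB] at h2
  rw [← h2] at h1
  -- cancel `1728`
  have h3 : 8835156 ∣ 3390625 * HB.index := by
    have e1 : (256 * 2187 * 11 * 37 * 67 : ℕ) = 1728 * 8835156 := by norm_num
    have e2 : 5859000000 * HB.index = 1728 * (3390625 * HB.index) := by ring
    rw [e1, e2] at h1
    exact Nat.dvd_of_mul_dvd_mul_left (by norm_num) h1
  have h4 : 8835156 ∣ HB.index := (Nat.Coprime.dvd_of_dvd_mul_left (by norm_num) h3)
  have h5 := index_le.2
  have h6 := Nat.le_of_dvd (Nat.pos_of_ne_zero index_ne) h4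
  omega

/-- The order of the presented group. -/
theorem card_G : Nat.card G = 51765179004000000 := by
  rw [← Subgroup.card_mul_index HB, card_HB, index_eq]

theorem hc' : ∀ k : Fin 5, ∀ y ∈ (fun k : Fin 5 => A k) k, (fun k : Fin 5 => W k) k * y * ((fun k : Fin 5 => W k) k)⁻¹ ∈ HB := hcA

/-- The sizes of the pieces. -/
def bb : Fin 5 → ℕ := ![1, 19530, 968750, 5812500, 2034375]

theorem rel_eq : ∀ k : Fin 5, (A k).relIndex HB = bb k := by
  have h1 := (index_le_sum (W := fun k : Fin 5 => W k) (A := fun k : Fin 5 => A k) (H := HB) hc' hcov).2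
  rw [index_eq, Fin.sum_univ_five] at h1
  have h0 := rel0
  have h2 := rel1
  have h3 := rel2
  have h4 := rel3
  have h5 := rel4
  have h1' : 8835156 ≤ (A 0).relIndex HB + (A 1).relIndex HB + (A 2).relIndex HB + (A 3).relIndex HB + (A 4).relIndex HB := h1
  intro k
  fin_cases k
  · show (A 0).relIndex HB = 1
    omega
  · show (A 1).relIndex HB = 19530
    omega
  · show (A 2).relIndex HB = 968750
    omega
  · show (A 3).relIndex HB = 5812500
    omega
  · show (A 4).relIndex HB = 2034375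
    omega

theorem hbij : Function.Bijective (PhiS (H := HB) (W := fun k : Fin 5 => W k) (A := fun k : Fin 5 => A k) hc') := by
  have hs := PhiS_surj (H := HB) (W := fun k : Fin 5 => W k) (A := fun k : Fin 5 => A k) hc' hcov
  haveI : ∀ k : Fin 5, Finite (HB ⧸ ((fun k : Fin 5 => A k) k).subgroupOf HB) := fun k => inferInstance
  refine hs.bijective_of_nat_card_le ?_
  rw [Nat.card_sigma]
  have h1 : ∀ k : Fin 5, Nat.card (HB ⧸ ((fun k : Fin 5 => A k) k).subgroupOf HB) = bb k := fun k => rel_eq k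
  rw [Finset.sum_congr rfl fun k _ => h1 k]
  have h2 : Nat.card (G ⧸ HB) = 8835156 := index_eq
  rw [h2]
  decide

theorem num_check : ∀ I : Finset (Fin 5), 0 ∈ I → (∑ k ∈ I, bb k) ∣ 51765179004000000 →
    I = {0} ∨ I = Finset.univ := by
  decide +kernel

/-- A normal subgroup containing the stabiliser is everything. -/
theorem top_of_le (N : Subgroup G) [N.Normal] (h : HB ≤ N) : N = ⊤ := by
  have ha := h (eh_mem a4W)
  have hu := h (eh_mem uW)
  have h3 : Z * (Z * Z) ∈ N := by
    have e := T0_eq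
    -- modulo the normal subgroup
    have h1 : ((eh a4W * (Z * (eh a4W * (Z * (eh a4W * (Z * eh uW))))) : G) : G ⧸ N) = 1 := by
      rw [e]
      rfl
    have h2 : ((eh a4W : G) : G ⧸ N) = 1 := (QuotientGroup.eq_one_iff _).mpr ha
    have h4 : ((eh uW : G) : G ⧸ N) = 1 := (QuotientGroup.eq_one_iff _).mpr hu
    simp only [QuotientGroup.mk_mul, h2, h4, one_mul, mul_one] at h1
    apply (QuotientGroup.eq_one_iff _).mp
    simpa only [QuotientGroup.mk_mul] using h1
  have h2 : Z * Z ∈ N := h Z_sq_mem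
  have hZ : Z ∈ N := by
    have e : Z = (Z * Z)⁻¹ * (Z * (Z * Z)) := by group
    rw [e]
    exact N.mul_mem (N.inv_mem h2) h3
  rw [eq_top_iff, ← hgen]
  apply (Subgroup.closure_le _).2
  rintro x (hx | hx)
  · exact h hx
  · rw [Set.mem_singleton_iff.mp hx]
    exact hZ

instance simple_HB : IsSimpleGroup HB := psi.isSimpleGroup

theorem a_ne : (PresentedGroup.of Gen.a : G) ≠ 1 := Cfsg.Agent.Lib.LyV111.a_ne_one

/-- The presented group is simple. -/
theorem simple_G : IsSimpleGroup G := by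
  haveI : Nontrivial G := ⟨⟨_, _, a_ne⟩⟩
  refine ⟨fun N hN => ?_⟩
  haveI := hN
  rcases IsSimpleGroup.eq_bot_or_eq_top_of_normal (N.subgroupOf HB) inferInstance with h | h
  · -- the normal subgroup meets the stabiliser trivially
    have hbot : N ⊓ HB = ⊥ := by
      rw [eq_bot_iff]
      rintro x ⟨hx1, hx2⟩
      have : (⟨x, hx2⟩ : HB) ∈ N.subgroupOf HB := Subgroup.mem_subgroupOf.mpr hx1
      rw [h] at this
      have h2 : (⟨x, hx2⟩ : HB) = 1 := Subgroup.mem_bot.mp this
      exact Subgroup.mem_bot.mpr (congrArg Subtype.val h2)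
    obtain ⟨I, hI, hcard⟩ := card_normal_eq (W := fun k : Fin 5 => W k) (A := fun k : Fin 5 => A k) (H := HB) hc' hbij N hbot
    have h0 : (0 : Fin 5) ∈ I := by
      rw [hI]
      exact ⟨1, trivial, by
        show ((1 : G) : G ⧸ HB) = (((W 0)⁻¹ : G) : G ⧸ HB)
        have : (W 0) = 1 := rfl
        rw [this, inv_one]⟩
    have hsum : (∑ k ∈ I, bb k) = Nat.card N := by
      rw [hcard]
      exact Finset.sum_congr rfl fun k _ => (rel_eq k).symm
    have hd : (∑ k ∈ I, bb k) ∣ 51765179004000000 := by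
      rw [hsum, ← card_G]
      exact Subgroup.card_subgroup_dvd_card N
    rcases num_check I h0 hd with e | e
    · left
      have h1 : Nat.card N = 1 := by
        rw [← hsum, e]
        decide
      exact Subgroup.eq_bot_of_card_eq N h1
    · exfalso
      have h1 : Nat.card N = 8835156 := by
        rw [← hsum, e]
        decide
      refine pigeonhole (W := fun k : Fin 5 => W k) (A := fun k : Fin 5 => A k) (H := HB) hc' hcov (k0 := 0) rfl rfl N hbot
        ![2, 3, 11, 37, 67] ?_ ?_ ?_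
      · intro i
        fin_cases i <;> norm_num
      · decide
      · intro i
        rw [h1]
        fin_cases i <;> norm_num
  · right
    apply top_of_le
    intro x hx
    have : (⟨x, hx⟩ : HB) ∈ N.subgroupOf HB := by
      rw [h]
      trivial
    exact Subgroup.mem_subgroupOf.mp this

end Cfsg.Agent.Lib.LyDce
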