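import Mathlib
import Cfsg.Agent.Lib.LyDce.Final
import Cfsg.Agent.Lib.FixCount

/-!
# The presented Lyons group: centralisers from fixed cosets
-/

set_option autoImplicit false
set_option maxRecDepth 100000
set_option linter.all false
set_option Elab.async false
set_option maxHeartbeats 0

namespace Cfsg.Agent.Lib.LyDce

open Cfsg Cfsg.Spor Cfsg.Lie Cfsg.Agent.Lib.TcFacts Cfsg.Agent.Lib.TcBits Cfsg.Agent.Lib.TcPres
  Cfsg.Agent.Lib.TcRel Cfsg.Agent.Lib.TcChain Cfsg.Spor.Ly Cfsg.Agent.Lib.ChevG25 Cfsg.Agent.Lib.FpVec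
  Cfsg.Agent.Lib.LyG25 Cfsg.Agent.Lib.TcCov Cfsg.Agent.Lib.DCount Cfsg.Agent.Lib.VecOrb Cfsg.Agent.Lib.FixCount

/-- The order of a piece. -/
theorem card_A_eq (k : Fin 5) {m : ℕ} (hm : m * bb k = 5859000000) (hb : 0 < bb k) : Nat.card (A k) = m := by
  have h1 : Nat.card ((A k).subgroupOf HB) * ((A k).subgroupOf HB).index = Nat.card HB := Subgroup.card_mul_index _
  have h2 : Nat.card ((A k).subgroupOf HB) = Nat.card (A k) :=
    Nat.card_congr (Subgroup.subgroupOfEquivOfLe (A_le k)).toEquiv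
  have h3 : ((A k).subgroupOf HB).index = bb k := rel_eq k
  rw [h2, h3, card_HB, ← hm] at h1
  exact Nat.eq_of_mul_eq_mul_right hb h1

theorem card_A1' : Nat.card (A 1) = 300000 := card_A_eq 1 (by decide) (by decide)

theorem card_A2' : Nat.card (A 2) = 6048 := card_A_eq 2 (by decide) (by decide)

theorem card_A3' : Nat.card (A 3) = 1008 := card_A_eq 3 (by decide) (by decide)

theorem card_A4' : Nat.card (A 4) = 2880 := card_A_eq 4 (by decide) (by decide)

theorem a_mem_KK : ltH 0 ∈ KK := by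
  have h2 : (PresentedGroup.of Gen.a1 : G) = ez (exL Gen.a1) := good_all Gen.a1
  have h3 : (PresentedGroup.of Gen.a1 : G) = ltH 0 := by
    rw [h2]
    simp [exL, ez, ltZ, ltH]
  rw [← h3]
  exact Subgroup.subset_closure ⟨Gen.a1, by decide, rfl⟩

theorem KK_le_A1 : KK ≤ A 1 := by
  intro κ hκ
  refine mem_A.mpr ⟨(KK_props hκ).1, ?_⟩
  have hu : Z * Z ∈ KK := by
    rw [Z_sq]
    have : eh uW = ltH 0 * ltH 0 := by simp [eh, uW]
    rw [this]
    exact KK.mul_mem a_mem_KK a_mem_KK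
  have h1 : (Z * Z) * κ * (Z * Z)⁻¹ ∈ KK := KK.mul_mem (KK.mul_mem hu hκ) (KK.inv_mem hu)
  have h2 := (KK_props h1).2
  have e : Z⁻¹ * ((Z * Z) * κ * (Z * Z)⁻¹) * Z = Z * κ * Z⁻¹ := by group
  rw [e] at h2
  exact h2

/-- The stabiliser at the first level is the subgroup of the table. -/
theorem KK_eq : KK = A 1 :=
  Subgroup.eq_of_le_of_card_ge KK_le_A1 (by rw [card_A1']; exact card_KK)

/-- The pieces in the subgroup. -/
noncomputable abbrev BB (k : Fin 5) : Subgroup HB := (A k).subgroupOf HB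

theorem card_BB (k : Fin 5) : Nat.card (BB k) = Nat.card (A k) :=
  Nat.card_congr (Subgroup.subgroupOfEquivOfLe (A_le k)).toEquiv

/-- A centraliser is bounded by the fixed cosets and the centraliser in the point stabiliser. -/
theorem cent_le (x : HB) : Nat.card (Subgroup.centralizer ({(x : G)} : Set G)) ≤
    Nat.card {q : G ⧸ HB // (x : G) • q = q} * Nat.card (Subgroup.centralizer ({x} : Set HB)) := by
  classical
  have hfix : ∀ c : Subgroup.centralizer ({(x : G)} : Set G), (x : G) • ((c : G) : G ⧸ HB) = ((c : G) : G ⧸ HB) := by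
    intro c
    rw [MulAction.Quotient.smul_coe]
    have h1 : (x : G) * (c : G) = (c : G) * (x : G) := (Subgroup.mem_centralizer_singleton_iff.mp c.2).symm
    show (((x : G) * (c : G) : G) : G ⧸ HB) = _
    rw [h1]
    exact QuotientGroup.mk_mul_of_mem _ x.2
  let f : Subgroup.centralizer ({(x : G)} : Set G) → {q : G ⧸ HB // (x : G) • q = q} :=
    fun c => ⟨((c : G) : G ⧸ HB), hfix c⟩
  refine card_le_of_fibers f ?_
  intro y
  by_cases hy : ∃ c, f c = y
  · obtain ⟨c0, hc0⟩ := hy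
    refine Nat.card_le_card_of_injective
      (fun c => ⟨⟨(c0 : G)⁻¹ * ((c.1 : G)), ?_⟩, ?_⟩ : {c // f c = y} → Subgroup.centralizer ({x} : Set HB)) ?_
    · have h1 : ((c0 : G) : G ⧸ HB) = ((c.1 : G) : G ⧸ HB) :=
        congrArg Subtype.val (hc0.trans c.2.symm)
      exact QuotientGroup.eq.mp h1
    · rw [Subgroup.mem_centralizer_singleton_iff]
      apply Subtype.ext
      have h1 : (x : G) * (c.1 : G) = (c.1 : G) * (x : G) := (Subgroup.mem_centralizer_singleton_iff.mp c.1.2).symm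
      have h2 : (x : G) * (c0 : G) = (c0 : G) * (x : G) := (Subgroup.mem_centralizer_singleton_iff.mp c0.2).symm
      show (c0 : G)⁻¹ * (c.1 : G) * (x : G) = (x : G) * ((c0 : G)⁻¹ * (c.1 : G))
      have h3 : (x : G) * (c0 : G)⁻¹ = (c0 : G)⁻¹ * (x : G) := by
        rw [eq_inv_mul_iff_mul_eq, ← mul_assoc, ← h2, mul_assoc, mul_inv_cancel, mul_one]
      rw [← mul_assoc (x : G), h3, mul_assoc, mul_assoc, h1]
    · intro a b e
      have e2 : (c0 : G)⁻¹ * (a.1 : G) = (c0 : G)⁻¹ * (b.1 : G) :=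
        congrArg (fun w : Subgroup.centralizer ({x} : Set HB) => ((w : HB) : G)) e
      apply Subtype.ext
      apply Subtype.ext
      exact mul_left_cancel e2
  · have : IsEmpty {c // f c = y} := ⟨fun c => hy ⟨c.1, c.2⟩⟩
    rw [Nat.card_of_isEmpty]
    exact Nat.zero_le _

/-- The bijection with the pieces is compatible with the action. -/
theorem Phi_smul (k : Fin 5) (x : HB) (q : HB ⧸ BB k) :
    (x : G) • Phi (W := fun k : Fin 5 => W k) (A := fun k : Fin 5 => A k) hc' k q =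
      Phi (W := fun k : Fin 5 => W k) (A := fun k : Fin 5 => A k) hc' k (x • q) := by
  obtain ⟨h, rfl⟩ := QuotientGroup.mk_surjective q
  rw [MulAction.Quotient.smul_coe]
  show (x : G) • (((h : G) * (W k)⁻¹ : G) : G ⧸ HB) = (((x * h : HB) : G) * (W k)⁻¹ : G)
  rw [MulAction.Quotient.smul_coe]
  show (((x : G) * ((h : G) * (W k)⁻¹) : G) : G ⧸ HB) = _
  push_cast
  rw [mul_assoc]

/-- The fixed cosets, piece by piece. -/
theorem fix_sum (x : HB) : Nat.card {q : G ⧸ HB // (x : G) • q = q} = ∑ k : Fin 5, Nat.card (FixQ (BB k) x) := by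
  classical
  let e : (Σ k : Fin 5, FixQ (BB k) x) → {q : G ⧸ HB // (x : G) • q = q} := fun p =>
    ⟨Phi (W := fun k : Fin 5 => W k) (A := fun k : Fin 5 => A k) hc' p.1 p.2.1, by
      rw [Phi_smul, p.2.2]⟩
  have he : Function.Bijective e := by
    constructor
    · rintro ⟨k, q, hq⟩ ⟨k', q', hq'⟩ h
      have h2 := hbij.1 (a₁ := ⟨k, q⟩) (a₂ := ⟨k', q'⟩) (congrArg Subtype.val h)
      obtain ⟨rfl, h3⟩ := Sigma.mk.inj_iff.mp h2
      have h4 : q = q' := eq_of_heq h3
      subst h4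
      rfl
    · rintro ⟨q, hq⟩
      obtain ⟨⟨k, r⟩, hr⟩ := hbij.2 q
      have hr' : Phi (W := fun k : Fin 5 => W k) (A := fun k : Fin 5 => A k) hc' k r = q := hr
      have h3 : Phi (W := fun k : Fin 5 => W k) (A := fun k : Fin 5 => A k) hc' k (x • r) =
          Phi (W := fun k : Fin 5 => W k) (A := fun k : Fin 5 => A k) hc' k r := by
        rw [← Phi_smul, hr', hq]
      have h4 := hbij.1 (a₁ := ⟨k, x • r⟩) (a₂ := ⟨k, r⟩) h3
      have h5 : x • r = r := eq_of_heq (Sigma.mk.inj_iff.mp h4).2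
      exact ⟨⟨k, r, h5⟩, Subtype.ext hr'⟩
  rw [← Nat.card_congr (Equiv.ofBijective e he), Nat.card_sigma]

theorem fix0_le (x : HB) : Nat.card (FixQ (BB 0) x) ≤ 1 := by
  have h1 : Nat.card (HB ⧸ BB 0) = 1 := rel_eq 0
  rw [← h1]
  exact Nat.card_le_card_of_injective _ Subtype.val_injective

/-- The bound for an involution with the counts of the pieces. -/
theorem cent_bound (x : HB) (hf1 : Nat.card (FixQ (BB 1) x) ≤ 66) (hn1 : 1375 ≤ Nat.card (ConjIn (BB 1) x))
    (hn2 : Nat.card (ConjIn (BB 2) x) ≤ 64) (hn3 : Nat.card (ConjIn (BB 3) x) ≤ 106)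
    (hn4 : Nat.card (ConjIn (BB 4) x) ≤ 212) :
    Nat.card (Subgroup.centralizer ({(x : G)} : Set G)) < 79833600 := by
  have h0 := cent_le x
  rw [fix_sum, Fin.sum_univ_five] at h0
  set c := Nat.card (Subgroup.centralizer ({x} : Set HB)) with hc
  have d1 := double_count (BB 1) x
  have d2 := double_count (BB 2) x
  have d3 := double_count (BB 3) x
  have d4 := double_count (BB 4) x
  have e1 : Nat.card (BB 1) = 300000 := (card_BB 1).trans card_A1'
  have e2 : Nat.card (BB 2) = 6048 := (card_BB 2).trans card_A2'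
  have e3 : Nat.card (BB 3) = 1008 := (card_BB 3).trans card_A3'
  have e4 : Nat.card (BB 4) = 2880 := (card_BB 4).trans card_A4'
  rw [e1] at d1
  rw [e2] at d2
  rw [e3] at d3
  rw [e4] at d4
  have h00 := fix0_le x
  -- the centraliser in the stabiliser
  have hc1 : c ≤ 14400 := by
    have h1 : c * 1375 ≤ 66 * 300000 := by
      calc c * 1375 ≤ c * Nat.card (ConjIn (BB 1) x) := Nat.mul_le_mul_left _ hn1
        _ = Nat.card (FixQ (BB 1) x) * 300000 := d1.symm
        _ ≤ 66 * 300000 := Nat.mul_le_mul_right _ hf1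
    omega
  have f2 : Nat.card (FixQ (BB 2) x) ≤ 152 := by
    have h1 : Nat.card (FixQ (BB 2) x) * 6048 ≤ 14400 * 64 := by
      rw [d2]
      exact Nat.mul_le_mul hc1 hn2
    omega
  have f3 : Nat.card (FixQ (BB 3) x) ≤ 1514 := by
    have h1 : Nat.card (FixQ (BB 3) x) * 1008 ≤ 14400 * 106 := by
      rw [d3]
      exact Nat.mul_le_mul hc1 hn3
    omega
  have f4 : Nat.card (FixQ (BB 4) x) ≤ 1060 := by
    have h1 : Nat.card (FixQ (BB 4) x) * 2880 ≤ 14400 * 212 := by
      rw [d4]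
      exact Nat.mul_le_mul hc1 hn4
    omega
  have hsum : Nat.card (FixQ (BB 0) x) + Nat.card (FixQ (BB 1) x) + Nat.card (FixQ (BB 2) x) +
      Nat.card (FixQ (BB 3) x) + Nat.card (FixQ (BB 4) x) ≤ 2793 := by omega
  calc _ ≤ _ := h0
    _ ≤ 2793 * 14400 := Nat.mul_le_mul hsum hc1
    _ < 79833600 := by norm_num

end Cfsg.Agent.Lib.LyDce
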