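import Mathlib
import Cfsg.Agent.Lib.VecOrb
import Cfsg.Agent.Lib.LyDce.TcCov
import Cfsg.Agent.Lib.LyDce.Rel
import Cfsg.Agent.TcData.Ly.K1.Tab

/-!
# The presented Lyons group: the checks behind the fixed cosets of an element
-/

set_option autoImplicit false
set_option maxRecDepth 100000
set_option linter.all false
set_option Elab.async false
set_option maxHeartbeats 0

namespace Cfsg.Agent.Lib.LyDce

open Cfsg.Agent.Lib.TcFacts Cfsg.Agent.Lib.TcCov Cfsg.Agent.Lib.FpVec Cfsg.Agent.Lib.VecOrb

/-- The walk of a packed word from a label in the table of `K₁`. -/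
noncomputable abbrev wK (t p : ℕ) : ℕ :=
  walkJ Cfsg.Agent.TcData.Ly.K1.ent 26 32767 29 5 31 8 1048576 40 t p

/-- The representative of a label. -/
noncomputable abbrev rK1 (w : ℕ) : ℕ :=
  rootJ Cfsg.Agent.TcData.Ly.K1.ent 26 32767 29 1048576 8 w

/-- A row is alive. -/
noncomputable abbrev alK (t : ℕ) : Bool := aliveB Cfsg.Agent.TcData.Ly.K1.ent 26 32768 t

/-- The walk from an alive label ends in an alive label. -/
noncomputable def okR (p t : ℕ) : Bool :=
  Bool.rec (motive := fun _ => Bool) true
    ((fun w => bAnd (Nat.blt 0 w) (alK (rK1 w))) (wK t p)) (alK t)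

/-- An alive label is fixed by the packed word. -/
noncomputable def fixR (p t : ℕ) : Bool :=
  Bool.rec (motive := fun _ => Bool) false (Nat.beq (rK1 (wK t p)) t) (alK t)

/-- All letters are those of the stabiliser. -/
noncomputable def lt8L (l : List ℕ) : Bool :=
  List.rec (motive := fun _ => Bool) true (fun a _ ih => bAnd (Nat.blt a 8) ih) l

/-- The word of a conjugate. -/
def conjL (tw l : List ℕ) : List ℕ := l ++ (tw ++ invL l)

/-- The fields of a row of the table of conjugates. -/
noncomputable def cK (r : ℕ) : ℕ := Nat.land r 0xffffffffffffffffffffffffffff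

noncomputable def cW (r : ℕ) : ℕ := Nat.land (Nat.shiftRight r 112) 0xffffffffffffffff

noncomputable def cU (r : ℕ) : ℕ := Nat.shiftRight r 176

/-- The walk reaches a label. -/
noncomputable abbrev tgK (s w u : ℕ) : Bool :=
  tgt Cfsg.Agent.TcData.Ly.K1.ent 26 32767 29 5 31 8 40 1048576 s w u

/-- A row of the table of conjugates: the word takes the first label to a label fixed by the element,
the code is the image of the vector under the conjugate, and the codes increase. -/
noncomputable def conjRow (get : ℕ → ℕ) (tw : List ℕ) (p vs n i : ℕ) : Bool :=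
  Bool.or (Nat.ble n i)
    ((fun r => (fun l =>
      bAnd (Nat.ble (cU r) 29951) (bAnd (tgK 1 (cW r) (cU r)) (bAnd (tgK (cU r) p (cU r)) (bAnd (lt8L l)
        (bAnd (Nat.beq (cK r) (wordV 256 5 14 cN (conjL tw l) vs))
          (Bool.or (Nat.beq (Nat.succ i) n) (Nat.blt (cK r) (cK (get (Nat.succ i)))))))))) (decW 5 31 40 (cW r)))
      (get i))

/-- Apply the word of a row of a spanning tree to a vector. -/
noncomputable def walkRow (par gen : ℕ → ℕ) (act : ℕ → ℕ → ℕ) (f : ℕ) : ℕ → ℕ → ℕ :=
  Nat.rec (motive := fun _ => ℕ → ℕ → ℕ) (fun _ x => x)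
    (fun _ ih i x => Nat.rec (motive := fun _ => ℕ) x (fun g _ => act g (ih (par i) x)) (gen i)) f

/-- The element of a row of a spanning tree may be an involution. -/
noncomputable def invRow (key par gen dep : ℕ → ℕ) (act : ℕ → ℕ → ℕ) (v0 n i : ℕ) : Bool :=
  bAnd (Nat.blt i n) (Nat.beq (walkRow par gen act (Nat.succ (dep i)) i (key i)) v0)

end Cfsg.Agent.Lib.LyDce
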