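import Mathlib
import Cfsg.Agent.Lib.LyDce.Cent
import Cfsg.Agent.Lib.LyDce.FixDefs
import Cfsg.Agent.TcData.Ly.Fix.T1
import Cfsg.Agent.TcData.Ly.Fix.C1
import Cfsg.Agent.TcData.Ly.Fix.N2
import Cfsg.Agent.TcData.Ly.Fix.N3
import Cfsg.Agent.TcData.Ly.Fix.N4

/-!
# The presented Lyons group: the centraliser of an involution is small
-/

set_option autoImplicit false
set_option maxRecDepth 100000
set_option linter.all false
set_option Elab.async false
set_option maxHeartbeats 0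

namespace Cfsg.Agent.Lib.LyDce

open Cfsg Cfsg.Spor Cfsg.Lie Cfsg.Agent.Lib.TcFacts Cfsg.Agent.Lib.TcBits Cfsg.Agent.Lib.TcPres
  Cfsg.Agent.Lib.TcRel Cfsg.Agent.Lib.TcChain Cfsg.Spor.Ly Cfsg.Agent.Lib.ChevG25 Cfsg.Agent.Lib.FpVec
  Cfsg.Agent.Lib.LyG25 Cfsg.Agent.Lib.TcCov Cfsg.Agent.Lib.DCount Cfsg.Agent.Lib.VecOrb Cfsg.Agent.Lib.FixCount

abbrev YY : Type := HB ⧸ KK.subgroupOf HB

theorem card_YY : Nat.card YY = 19530 := by
  have h : (A 1).relIndex HB = 19530 := rel_eq 1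
  rw [← KK_eq] at h
  exact h

section table

variable {c : ℕ → G ⧸ KK}

theorem okR_true {p t : ℕ} (hal : alK t = true) (h : okR p t = true) :
    0 < wK t p ∧ alK (rK1 (wK t p)) = true := by
  unfold okR at h
  rw [hal] at h
  have h2 : bAnd (Nat.blt 0 (wK t p)) (alK (rK1 (wK t p))) = true := h
  rw [bAnd_eq, blt_true] at h2
  exact h2

theorem fixR_of {p t : ℕ} (hal : alK t = true) (h : rK1 (wK t p) = t) : fixR p t = true := by
  unfold fixR
  rw [hal]
  show Nat.beq (rK1 (wK t p)) t = true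
  rw [h]
  exact Nat.beq_refl t

/-- The map from cosets to labels is a bijection onto the alive labels. -/
theorem labels (hcov : ∀ g ∈ subOf RB Cfsg.Agent.TcData.Ly.K1.SL, ∃ t, t ≤ 29951 ∧
      aliveB Cfsg.Agent.TcData.Ly.K1.ent 26 32768 t = true ∧ c t = ra g ((1 : G) : G ⧸ KK)) :
    ∃ τ : YY → ℕ, (∀ y, τ y ≤ 29951 ∧ alK (τ y) = true ∧ c (τ y) = (((y.out : HB) : G) : G ⧸ KK)) ∧
      Function.Injective τ ∧ ∀ t t', t ≤ 29951 → alK t = true → t' ≤ 29951 → alK t' = true → c t = c t' → t = t' := by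
  classical
  have hex : ∀ y : YY, ∃ t, t ≤ 29951 ∧ alK t = true ∧ c t = (((y.out : HB) : G) : G ⧸ KK) := by
    intro y
    obtain ⟨t, h1, h2, h3⟩ := hcov ((y.out : HB) : G)⁻¹ (HB_le (HB.inv_mem y.out.2))
    refine ⟨t, h1, h2, ?_⟩
    rw [h3]
    show (((y.out : HB) : G)⁻¹)⁻¹ • ((1 : G) : G ⧸ KK) = _
    rw [MulAction.Quotient.smul_coe]
    simp
  choose τ hτ1 hτ2 hτ3 using hex
  have key : ∀ y y', c (τ y) = c (τ y') → y = y' := by
    intro y y' e
    rw [hτ3, hτ3] at e
    have h1 : ((y.out : HB) : G)⁻¹ * ((y'.out : HB) : G) ∈ KK := QuotientGroup.eq.mp e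
    have h2 : (y.out : HB)⁻¹ * (y'.out : HB) ∈ KK.subgroupOf HB := by
      rw [Subgroup.mem_subgroupOf]
      simpa using h1
    have h3 : (((y.out : HB)) : YY) = ((y'.out : HB) : YY) := QuotientGroup.eq.mpr h2
    rwa [QuotientGroup.out_eq', QuotientGroup.out_eq'] at h3
  have hinj : Function.Injective τ := fun y y' e => key y y' (by rw [e])
  let S : Finset ℕ := (Finset.Ico 0 29952).filter fun u => Cfsg.Agent.TcData.Ly.K1.al u = true
  have hS : S.card = 19530 := Cfsg.Agent.TcData.Ly.K1.c116.2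
  have hmem : ∀ y, τ y ∈ S := by
    intro y
    refine Finset.mem_filter.mpr ⟨Finset.mem_Ico.mpr ⟨Nat.zero_le _, ?_⟩, hτ2 y⟩
    have := hτ1 y
    omega
  let f : YY → S := fun y => ⟨τ y, hmem y⟩
  have hf : Function.Injective f := fun y y' e => hinj (congrArg Subtype.val e)
  have hbij : Function.Bijective f := hf.bijective_of_nat_card_le (by
    rw [card_YY, Nat.card_eq_fintype_card, Fintype.card_coe, hS])
  refine ⟨τ, fun y => ⟨hτ1 y, hτ2 y, hτ3 y⟩, hinj, ?_⟩
  intro t t' h1 h2 h3 h4 e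
  have m1 : t ∈ S := Finset.mem_filter.mpr ⟨Finset.mem_Ico.mpr ⟨Nat.zero_le _, by omega⟩, h2⟩
  have m2 : t' ∈ S := Finset.mem_filter.mpr ⟨Finset.mem_Ico.mpr ⟨Nat.zero_le _, by omega⟩, h4⟩
  obtain ⟨y, hy⟩ := hbij.2 ⟨t, m1⟩
  obtain ⟨y', hy'⟩ := hbij.2 ⟨t', m2⟩
  have e1 : τ y = t := congrArg Subtype.val hy
  have e2 : τ y' = t' := congrArg Subtype.val hy'
  subst e1
  subst e2
  rw [key y y' e]

end table

/-- The fixed cosets on the cosets of `K₁`. -/
theorem fix_le (l : List ℕ) (hl8 : ∀ a ∈ l, a < 8) (hlen : l.length ≤ 40) {n : ℕ}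
    (hB : Block (okR (pk l)) (fixR (pk l)) 0 29952 n) (x : HB) (hx : (x : G) = eh l) :
    Nat.card (FixQ (KK.subgroupOf HB) x) ≤ n := by
  classical
  obtain ⟨c, hc1, hg, hcov⟩ := env
  obtain ⟨τ, hτ, hinj, hal⟩ := labels hcov
  have hm : ∀ b, 26 < b → ra (lK b) (c 1) = c 1 := by
    intro b hb
    rw [lK_big b hb, ra_one]
  have hfix : ∀ q : FixQ (KK.subgroupOf HB) x, fixR (pk l) (τ q.1) = true := by
    rintro ⟨q, hq⟩
    obtain ⟨h1, h2, h3⟩ := hτ q
    have h4 : okR (pk l) (τ q) = true := hB.1 _ (Nat.zero_le _) (by omega)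
    obtain ⟨h5, h6⟩ := okR_true h2 h4
    obtain ⟨h7, h8⟩ := walkJ_sound (ℓ := lK) (c := c) lK_eps (by norm_num) hm (hg 1048576) 5 31 8 40
      (τ q) (pk l) h1 (Nat.pos_iff_ne_zero.mp h5)
    rw [evL_pk l hl8 hlen] at h8
    obtain ⟨h9, h10⟩ := rootJ_sound (ℓ := lK) (c := c) lK_eps (hg 1048576) 8 _ h7
    apply fixR_of h2
    apply hal _ _ h9 h6 h1 h2
    -- the element fixes the coset
    rw [h10, h8, h3, ← hx]
    have h11 : x • q = q := hq
    have h12 : x • ((q.out : HB) : YY) = ((q.out : HB) : YY) := by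
      rw [QuotientGroup.out_eq']
      exact h11
    rw [MulAction.Quotient.smul_coe] at h12
    have h13 : (x * q.out : HB)⁻¹ * q.out ∈ KK.subgroupOf HB := QuotientGroup.eq.mp h12
    have h14 : ((((x * q.out : HB)⁻¹ * q.out : HB)) : G) ∈ KK := Subgroup.mem_subgroupOf.mp h13
    show (x : G)⁻¹ • (((q.out : HB) : G) : G ⧸ KK) = _
    rw [MulAction.Quotient.smul_coe]
    show (((x : G)⁻¹ * ((q.out : HB) : G) : G) : G ⧸ KK) = _
    apply QuotientGroup.eq.mpr
    have h15 : ((x : G)⁻¹ * ((q.out : HB) : G))⁻¹ * ((q.out : HB) : G) =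
        ((((x * q.out : HB)⁻¹ * q.out : HB)) : G)⁻¹ := by
      push_cast
      group
    rw [h15]
    exact KK.inv_mem h14
  let S : Finset ℕ := (Finset.Ico 0 29952).filter fun u => fixR (pk l) u = true
  have hS : S.card = n := hB.2
  have hmem : ∀ q : FixQ (KK.subgroupOf HB) x, τ q.1 ∈ S := by
    intro q
    refine Finset.mem_filter.mpr ⟨Finset.mem_Ico.mpr ⟨Nat.zero_le _, ?_⟩, hfix q⟩
    have := (hτ q.1).1
    omega
  have := Nat.card_le_card_of_injective (fun q : FixQ (KK.subgroupOf HB) x => (⟨τ q.1, hmem q⟩ : S)) (by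
    intro q q' e
    exact Subtype.ext (hinj (congrArg Subtype.val e)))
  rwa [Nat.card_eq_fintype_card (α := S), Fintype.card_coe, hS] at this

theorem lt8L_spec {l : List ℕ} (h : lt8L l = true) : ∀ a ∈ l, a < 8 := by
  induction l with
  | nil => simp
  | cons b l ih =>
    have h2 : bAnd (Nat.blt b 8) (lt8L l) = true := h
    rw [bAnd_eq, blt_true] at h2
    intro a ha
    rcases List.mem_cons.mp ha with rfl | ha
    · exact h2.1
    · exact ih h2.2 a ha

theorem eh_conjL (tw l : List ℕ) (hl : ∀ a ∈ l, a < 8) : eh (conjL tw l) = eh l * eh tw * (eh l)⁻¹ := by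
  unfold conjL
  rw [eh_append, eh_append, eh_invL, mul_assoc]

/-- The parts of a row of the table of conjugates. -/
theorem conjRow_parts {get : ℕ → ℕ} {tw : List ℕ} {p vs n i : ℕ} (h : conjRow get tw p vs n i = true) (hi : i < n) :
    cU (get i) ≤ 29951 ∧ tgK 1 (cW (get i)) (cU (get i)) = true ∧ tgK (cU (get i)) p (cU (get i)) = true ∧
      lt8L (decW 5 31 40 (cW (get i))) = true ∧
      cK (get i) = wordV 256 5 14 cN (conjL tw (decW 5 31 40 (cW (get i)))) vs ∧
      (i + 1 < n → cK (get i) < cK (get (i + 1))) := by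
  have h1 : Nat.ble n i = false := by
    rw [← Bool.not_eq_true, Nat.ble_eq]
    omega
  unfold conjRow at h
  rw [h1] at h
  simp only [Bool.false_or] at h
  rw [bAnd_eq, bAnd_eq, bAnd_eq, bAnd_eq, bAnd_eq] at h
  obtain ⟨a1, a2, a3, a4, a5, a6⟩ := h
  refine ⟨Nat.le_of_ble_eq_true a1, a2, a3, a4, Nat.eq_of_beq_eq_true a5, ?_⟩
  intro h7
  have h8 : Nat.beq (Nat.succ i) n = false := Bool.eq_false_iff.mpr fun h => by
    have := Nat.eq_of_beq_eq_true h
    omega
  rw [h8] at a6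
  simp only [Bool.false_or] at a6
  simpa [Nat.blt_eq] using a6

/-- The lower bound for the conjugates in `K₁`. -/
theorem conj_ge (get : ℕ → ℕ) (tw : List ℕ) (vs n : ℕ) (hl8 : ∀ a ∈ tw, a < 8) (hlen : tw.length ≤ 40)
    (hv : Rd 256 5 vs) (hv2 : vs < 256 ^ 14) (hF : ∀ i, i < n → conjRow get tw (pk tw) vs n i = true)
    (x : HB) (hx : (x : G) = eh tw) : n ≤ Nat.card (ConjIn (KK.subgroupOf HB) x) := by
  classical
  obtain ⟨c, hc1, hg, hcov⟩ := env
  have hm : ∀ b, 26 < b → ra (lK b) (c 1) = c 1 := by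
    intro b hb
    rw [lK_big b hb, ra_one]
  let L : ℕ → List ℕ := fun i => decW 5 31 40 (cW (get i))
  have hmemK : ∀ i, i < n → eh (conjL tw (L i)) ∈ KK := by
    intro i hi
    obtain ⟨h1, h2, h3, h4, h5, h6⟩ := conjRow_parts (hF i hi) hi
    have h7 := tgt_sound (ℓ := lK) (c := c) lK_eps (by norm_num) hm (hg 1048576) (s := 1) (by norm_num) h2
    have h8 := tgt_sound (ℓ := lK) (c := c) lK_eps (by norm_num) hm (hg 1048576) (s := cU (get i)) h1 h3
    rw [evL_lK _ (lt8L_spec h4)] at h7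
    rw [evL_pk tw hl8 hlen] at h8
    rw [hc1] at h7
    rw [h7] at h8
    have hl := lt8L_spec h4
    rw [eh_conjL tw (L i) hl]
    have e1 : ra (eh (L i)) ((1 : G) : G ⧸ KK) = (((eh (L i))⁻¹ : G) : G ⧸ KK) := by
      show (eh (L i))⁻¹ • ((1 : G) : G ⧸ KK) = _
      rw [MulAction.Quotient.smul_coe]
      simp
    change ra (eh (L i)) ((1 : G) : G ⧸ KK) = ra (eh tw) (ra (eh (L i)) ((1 : G) : G ⧸ KK)) at h8
    rw [e1] at h8
    have e2 : ra (eh tw) (((eh (L i))⁻¹ : G) : G ⧸ KK) = (((eh tw)⁻¹ * (eh (L i))⁻¹ : G) : G ⧸ KK) := by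
      show (eh tw)⁻¹ • (((eh (L i))⁻¹ : G) : G ⧸ KK) = _
      rw [MulAction.Quotient.smul_coe]
      rfl
    rw [e2] at h8
    have h9 := QuotientGroup.eq.mp h8
    have e3 : ((eh (L i))⁻¹)⁻¹ * ((eh tw)⁻¹ * (eh (L i))⁻¹) = (eh (L i) * eh tw * (eh (L i))⁻¹)⁻¹ := by group
    rw [e3] at h9
    exact (Subgroup.inv_mem_iff _).mp h9
  let f : Fin n → ConjIn (KK.subgroupOf HB) x := fun i =>
    ⟨⟨⟨eh (conjL tw (L i)), eh_mem _⟩, Subgroup.mem_subgroupOf.mpr (hmemK i i.2)⟩, by
      refine isConj_iff.mpr ⟨⟨eh (L i), eh_mem _⟩, ?_⟩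
      apply Subtype.ext
      show eh (L i) * (x : G) * (eh (L i))⁻¹ = eh (conjL tw (L i))
      rw [hx, eh_conjL tw (L i) (lt8L_spec (conjRow_parts (hF i i.2) i.2).2.2.2.1)]⟩
  have hlt : ∀ i j, i < j → j < n → cK (get i) < cK (get j) := by
    intro i j hij
    induction j, hij using Nat.le_induction with
    | base =>
      intro hj
      exact (conjRow_parts (hF i (by omega)) (by omega)).2.2.2.2.2 hj
    | succ m hm ih =>
      intro hj
      exact lt_trans (ih (by omega)) ((conjRow_parts (hF m (by omega)) (by omega)).2.2.2.2.2 hj)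
  have hf : Function.Injective f := by
    intro i j e
    have e1 : eh (conjL tw (L i)) = eh (conjL tw (L j)) :=
      congrArg (fun y : ConjIn (KK.subgroupOf HB) x => ((y.1 : HB) : G)) e
    have e2 := wordV_congr e1 hv hv2
    have e3 : cK (get i) = cK (get j) := by
      rw [(conjRow_parts (hF i i.2) i.2).2.2.2.2.1, (conjRow_parts (hF j j.2) j.2).2.2.2.2.1]
      exact e2
    apply Fin.ext
    rcases lt_trichotomy (i : ℕ) j with h | h | h
    · exact absurd e3 (ne_of_lt (hlt _ _ h j.2))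
    · exact h
    · exact absurd e3.symm (ne_of_lt (hlt _ _ h i.2))
  have := Nat.card_le_card_of_injective f hf
  simpa using this

/-- The word of a row of a spanning tree. -/
theorem row_word {k n : ℕ} {key par gen dep : ℕ → ℕ} {v0 : ℕ} {Y : List (List ℕ)}
    (h : ∀ i, i < n → rowOK key par gen dep (fun g x => wordV 256 5 14 cN (Y.getD g []) x) v0 n i = true)
    (hY : ∀ g, eh (Y.getD g []) ∈ A k) :
    ∀ f i, dep i < f → i < n → ∃ l, eh l ∈ A k ∧ wordV 256 5 14 cN l v0 = key i ∧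
      ∀ x, wordV 256 5 14 cN l x = walkRow par gen (fun g x => wordV 256 5 14 cN (Y.getD g []) x) f i x := by
  intro f
  induction f with
  | zero => intro i hi; omega
  | succ f ih =>
    intro i hd hi
    obtain ⟨h1, h2, -⟩ := row_parts (h i hi) hi
    by_cases hg : gen i = 0
    · refine ⟨[], (A k).one_mem, (h1 hg).symm, fun x => ?_⟩
      show x = Nat.rec (motive := fun _ => ℕ) x _ (gen i)
      rw [hg]
      rfl
    · obtain ⟨h3, h4, h5⟩ := h2 hg
      obtain ⟨l, h6, h7, h8⟩ := ih (par i) (by omega) h3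
      obtain ⟨g, hg'⟩ := Nat.exists_eq_succ_of_ne_zero hg
      refine ⟨Y.getD (gen i - 1) [] ++ l, ?_, ?_, fun x => ?_⟩
      · rw [eh_append]
        exact (A k).mul_mem (hY _) h6
      · rw [wordV_app, h7, h5]
      · rw [wordV_app, h8]
        show _ = Nat.rec (motive := fun _ => ℕ) x _ (gen i)
        rw [hg']
        rfl

/-- The involutions of a piece, from its spanning tree. -/
theorem inv_count {k : Fin 5} {n : ℕ} {key par gen dep : ℕ → ℕ} {v0 : ℕ} {Y : List (List ℕ)}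
    (h : ∀ i, i < n → rowOK key par gen dep (fun g x => wordV 256 5 14 cN (Y.getD g []) x) v0 n i = true)
    (hY : ∀ w ∈ Y, eh w ∈ A k) (hv : Rd 256 5 v0) (hv2 : v0 < 256 ^ 14) (hcard : Nat.card (A k) = n)
    {hi cnt : ℕ} (hT : Block (fun _ => true) (invRow key par gen dep (fun g x => wordV 256 5 14 cN (Y.getD g []) x) v0 n) 0 hi cnt)
    (hd : n ≤ hi) (x : HB) (hx : x * x = 1) : Nat.card (ConjIn (BB k) x) ≤ cnt := by
  classical
  have hY' : ∀ g, eh (Y.getD g []) ∈ A k := by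
    intro g
    by_cases hg : g < Y.length
    · rw [List.getD_eq_getElem _ _ hg]
      exact hY _ (List.getElem_mem hg)
    · rw [List.getD_eq_default _ _ (by omega)]
      exact (A k).one_mem
  have hw := row_word h hY'
  have hw' : ∀ i, ∃ l, i < n → eh l ∈ A k ∧ wordV 256 5 14 cN l v0 = key i ∧
      ∀ x, wordV 256 5 14 cN l x = walkRow par gen (fun g x => wordV 256 5 14 cN (Y.getD g []) x) (dep i + 1) i x := by
    intro i
    by_cases hi : i < n
    · obtain ⟨l, hl⟩ := hw (dep i + 1) i (by omega) hi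
      exact ⟨l, fun _ => hl⟩
    · exact ⟨[], fun h => absurd h hi⟩
  choose l hl using hw'
  let f : Fin n → A k := fun i => ⟨eh (l i), (hl i i.2).1⟩
  have hf : Function.Injective f := by
    intro i j e
    have e1 : eh (l i) = eh (l j) := congrArg Subtype.val e
    have e2 := wordV_congr e1 hv hv2
    rw [(hl i i.2).2.1, (hl j j.2).2.1] at e2
    exact Fin.ext (key_inj h i.2 j.2 e2)
  have hbij : Function.Bijective f := hf.bijective_of_nat_card_le (by simp [hcard])
  -- the map to the rows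
  have hpick : ∀ y : ConjIn (BB k) x, ∃ i : Fin n, eh (l i) = ((y.1 : HB) : G) := by
    intro y
    have hm : ((y.1 : HB) : G) ∈ A k := Subgroup.mem_subgroupOf.mp y.1.2
    obtain ⟨i, hi⟩ := hbij.2 ⟨_, hm⟩
    exact ⟨i, congrArg Subtype.val hi⟩
  choose pick hpick using hpick
  let S : Finset ℕ := (Finset.Ico 0 hi).filter fun i =>
    invRow key par gen dep (fun g x => wordV 256 5 14 cN (Y.getD g []) x) v0 n i = true
  have hS : S.card = cnt := hT.2
  have hmem : ∀ y : ConjIn (BB k) x, ((pick y : Fin n) : ℕ) ∈ S := by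
    intro y
    have hi := (pick y).2
    refine Finset.mem_filter.mpr ⟨Finset.mem_Ico.mpr ⟨Nat.zero_le _, by omega⟩, ?_⟩
    -- the square of the element
    obtain ⟨g, hg⟩ := isConj_iff.mp y.2
    have h2 : (y.1 : HB) * (y.1 : HB) = 1 := by
      rw [← hg]
      have : g * x * g⁻¹ * (g * x * g⁻¹) = g * (x * x) * g⁻¹ := by group
      rw [this, hx]
      group
    have h3 : eh (l (pick y)) * eh (l (pick y)) = 1 := by
      rw [hpick y]
      exact congrArg Subtype.val h2
    have h4 : eh (l (pick y) ++ l (pick y)) = eh [] := by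
      rw [eh_append, h3]
      rfl
    have h5 := wordV_congr h4 hv hv2
    rw [wordV_app] at h5
    have h6 : wordV 256 5 14 cN (l (pick y)) (key (pick y)) = v0 := by
      rw [← (hl _ hi).2.1]
      exact h5
    rw [(hl _ hi).2.2] at h6
    show bAnd (Nat.blt (pick y) n) (Nat.beq _ v0) = true
    rw [bAnd_eq, blt_true]
    refine ⟨hi, ?_⟩
    rw [show (dep (pick y)).succ = dep (pick y) + 1 from rfl]
    show Nat.beq (walkRow par gen _ (dep (pick y) + 1) (pick y) (key (pick y))) v0 = true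
    rw [h6]
    exact Nat.beq_refl v0
  have := Nat.card_le_card_of_injective (fun y : ConjIn (BB k) x => (⟨(pick y : ℕ), hmem y⟩ : S)) (by
    intro y y' e
    have e1 : pick y = pick y' := Fin.ext (congrArg Subtype.val e)
    have e2 : ((y.1 : HB) : G) = ((y'.1 : HB) : G) := by
      rw [← hpick y, ← hpick y', e1]
    apply Subtype.ext
    apply Subtype.ext
    exact Subtype.ext e2)
  rwa [Nat.card_eq_fintype_card (α := S), Fintype.card_coe, hS] at this

/-- The involution. -/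
noncomputable def xT : HB := ⟨eh [0, 7], eh_mem _⟩

theorem xT_sq : xT * xT = 1 := by
  apply Subtype.ext
  show eh [0, 7] * eh [0, 7] = 1
  rw [← eh_append]
  exact eh_eq_one _ (by decide +kernel)

theorem xT_ne : xT ≠ 1 := by
  intro h
  have e1 : eh [0, 7] = eh [] := congrArg Subtype.val h
  have h2 := wordV_congr e1 (v := 1) (rd_of_redu (by decide +kernel)) (lt_of_redu (by decide +kernel))
  revert h2
  decide +kernel

theorem BB1_eq : BB 1 = KK.subgroupOf HB := by
  show (A 1).subgroupOf HB = _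
  rw [KK_eq]

/-- The order of the centraliser of the involution. -/
theorem cent_lt : Nat.card (Subgroup.centralizer ({(xT : G)} : Set G)) < 79833600 := by
  refine cent_bound xT ?_ ?_ ?_ ?_ ?_
  · rw [BB1_eq]
    exact fix_le [0, 7] (by decide) (by decide) Cfsg.Agent.TcData.Ly.Fix.T1.all xT rfl
  · rw [BB1_eq]
    exact conj_ge _ [0, 7] _ 1375 (by decide) (by decide) (rd_of_redu (by decide +kernel)) (lt_of_redu (by decide +kernel))
      (allR_le Cfsg.Agent.TcData.Ly.Fix.C1.hF (by norm_num)) xT rfl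
  · exact inv_count (k := 2) (Y := Y2) (allR_le Cfsg.Agent.TcData.Ly.Card.L2.hF (by norm_num)) Y2_mem
      (rd_of_redu (by decide +kernel)) (lt_of_redu (by decide +kernel)) card_A2' Cfsg.Agent.TcData.Ly.Fix.N2.all (by norm_num) xT xT_sq
  · exact inv_count (k := 3) (Y := Y3) (allR_le Cfsg.Agent.TcData.Ly.Card.L3.hF (by norm_num)) Y3_mem
      (rd_of_redu (by decide +kernel)) (lt_of_redu (by decide +kernel)) card_A3' Cfsg.Agent.TcData.Ly.Fix.N3.all (by norm_num) xT xT_sq
  · exact inv_count (k := 4) (Y := Y4) (allR_le Cfsg.Agent.TcData.Ly.Card.L4.hF (by norm_num)) Y4_mem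
      (rd_of_redu (by decide +kernel)) (lt_of_redu (by decide +kernel)) card_A4' Cfsg.Agent.TcData.Ly.Fix.N4.all (by norm_num) xT xT_sq

end Cfsg.Agent.Lib.LyDce
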