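import Mathlib
import Cfsg.Agent.Lib.VecOrb
import Cfsg.Agent.Lib.LyV111.Main

/-!
# The presented Lyons group: matrices of the representation of degree 111, orbits of vectors
-/

set_option autoImplicit false
set_option maxRecDepth 100000
set_option linter.all false
set_option Elab.async false
set_option maxHeartbeats 0

namespace Cfsg.Agent.Lib.LyDce

open Cfsg.Spor.Ly Cfsg.Agent.Lib.FpVec Cfsg.Agent.Lib.LyV111 Cfsg.Agent.Lib.VecOrb Matrix

/-- The presented group, as the representation has it. -/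
abbrev RG := PresentedGroup Cfsg.Agent.TcData.Ly.RR

/-- The columns of the image of an element. -/
def Img (c : List ℕ) : Prop :=
  Good 2048 5 111 c ∧ ∃ g : RG, ((rho g : Matrix.GeneralLinearGroup (Fin 111) (ZMod 5)) : Matrix (Fin 111) (Fin 111) (ZMod 5)) =
    mat 2048 5 111 c

theorem rho_of (x : Gen) (h : ex x = [(x, true)]) : rho (PresentedGroup.of x) = gl x := by
  have h2 : rho (PresentedGroup.of x) = f x := PresentedGroup.toGroup.of hrho
  rw [h2]
  unfold f sig
  rw [FreeGroup.lift_mk, h]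
  simp

theorem Img.letter (x : Gen) (h : ex x = [(x, true)]) : Img (M x) := by
  refine ⟨good_of_valid par (valid_M x), PresentedGroup.of x, ?_⟩
  rw [rho_of x h]
  rfl

theorem Img.letterI (x : Gen) (h : ex x = [(x, true)]) : Img (I x) := by
  refine ⟨good_of_valid par (valid_I x), (PresentedGroup.of x)⁻¹, ?_⟩
  rw [map_inv, rho_of x h]
  rfl

theorem Img.mul {A C : List ℕ} (hA : Img A) (hC : Img C) : Img (mulL 2048 5 111 A C) := by
  obtain ⟨h1, g, hg⟩ := hA
  obtain ⟨h2, g2, hg2⟩ := hC
  refine ⟨good_mulL par h2, g * g2, ?_⟩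
  rw [mat_mulL par h1 h2, map_mul, Units.val_mul, hg, hg2]

theorem Img.of_eq {D E : List ℕ} (h : Img D) (e : D = E) : Img E := e ▸ h

/-- An inverse, from the check on the basis. -/
theorem Img.inv {A D : List ℕ} (hA : Img A) (hD : validC 2048 5 111 D = true)
    (h : ∀ i, i < 111 → mv 2048 5 111 A (mv 2048 5 111 D (2048 ^ i)) = 2048 ^ i) : Img D := by
  obtain ⟨h1, g, hg⟩ := hA
  have hD' := good_of_valid par hD
  refine ⟨hD', g⁻¹, ?_⟩
  have h2 : mat 2048 5 111 A * mat 2048 5 111 D = 1 := by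
    ext i j
    have hp : Rd 2048 5 (2048 ^ (j : ℕ)) := rd_pow par (by norm_num) (j : ℕ)
    have h3 := decV_mv_good par h1 (rd_mv par D (2048 ^ (j : ℕ)))
    rw [decV_mv_good par hD' hp, h j j.2, decV_pow par, Matrix.mulVec_mulVec, Matrix.mulVec_single_one] at h3
    have h4 := congrFun h3 i
    rw [Matrix.col_apply] at h4
    rw [← h4, Matrix.one_apply, Pi.single_apply]
  rw [← hg] at h2
  have h3 : ((rho g)⁻¹ : Matrix.GeneralLinearGroup (Fin 111) (ZMod 5)).val * ((rho g).val * mat 2048 5 111 D) =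
      ((rho g)⁻¹ : Matrix.GeneralLinearGroup (Fin 111) (ZMod 5)).val := by rw [h2, mul_one]
  rw [← mul_assoc, ← Units.val_mul, inv_mul_cancel, Units.val_one, one_mul] at h3
  rw [map_inv]
  exact h3.symm

theorem Img.id : Img (idL 2048 111) := by
  refine ⟨good_idL par (by norm_num), 1, ?_⟩
  rw [map_one, Units.val_one, mat_idL par]

/-- The check of a column of a product. -/
abbrev Px (A C D : List ℕ) (c : ℕ) : Prop := mv 2048 5 111 A (C.getD c 0) = D.getD c 0

/-- The check of a column of an inverse. -/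
abbrev Qx (A D : List ℕ) (c : ℕ) : Prop :=
  redu 2048 5 111 (D.getD c 0) = D.getD c 0 ∧ mv 2048 5 111 A (D.getD c 0) = 2048 ^ c

theorem chunks {P : ℕ → Prop} (h0 : ∀ i, i < 16 → P (i + 0)) (h16 : ∀ i, i < 16 → P (i + 16))
    (h32 : ∀ i, i < 16 → P (i + 32)) (h48 : ∀ i, i < 16 → P (i + 48)) (h64 : ∀ i, i < 16 → P (i + 64))
    (h80 : ∀ i, i < 16 → P (i + 80)) (h96 : ∀ i, i < 15 → P (i + 96)) : ∀ c, c < 111 → P c := by
  intro c hc
  by_cases h1 : c < 16
  · exact h0 c h1
  by_cases h2 : c < 32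
  · have := h16 (c - 16) (by omega)
    rwa [Nat.sub_add_cancel (by omega)] at this
  by_cases h3 : c < 48
  · have := h32 (c - 32) (by omega)
    rwa [Nat.sub_add_cancel (by omega)] at this
  by_cases h4 : c < 64
  · have := h48 (c - 48) (by omega)
    rwa [Nat.sub_add_cancel (by omega)] at this
  by_cases h5 : c < 80
  · have := h64 (c - 64) (by omega)
    rwa [Nat.sub_add_cancel (by omega)] at this
  by_cases h6 : c < 96
  · have := h80 (c - 80) (by omega)
    rwa [Nat.sub_add_cancel (by omega)] at this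
  · have := h96 (c - 96) (by omega)
    rwa [Nat.sub_add_cancel (by omega)] at this

theorem eq_of_getD {X Y : List ℕ} (hl : X.length = Y.length) (h : ∀ c, c < X.length → X.getD c 0 = Y.getD c 0) :
    X = Y := by
  apply List.ext_getElem hl
  intro c h1 h2
  have := h c h1
  rwa [List.getD_eq_getElem _ _ h1, List.getD_eq_getElem _ _ h2] at this

/-- A product of columns, from the checks of the columns. -/
theorem Img.mul7 {A C D : List ℕ} (hA : Img A) (hC : Img C) (hl : D.length = 111)
    (h0 : ∀ i, i < 16 → Px A C D (i + 0)) (h16 : ∀ i, i < 16 → Px A C D (i + 16))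
    (h32 : ∀ i, i < 16 → Px A C D (i + 32)) (h48 : ∀ i, i < 16 → Px A C D (i + 48))
    (h64 : ∀ i, i < 16 → Px A C D (i + 64)) (h80 : ∀ i, i < 16 → Px A C D (i + 80))
    (h96 : ∀ i, i < 15 → Px A C D (i + 96)) : Img D := by
  have h := chunks h0 h16 h32 h48 h64 h80 h96
  refine Img.of_eq (Img.mul hA hC) (eq_of_getD (by rw [hl]; simpa [mulL] using hC.1.1) ?_)
  intro c hc
  have hc2 : c < C.length := by simpa [mulL] using hc
  have hc3 : c < 111 := by rwa [hC.1.1] at hc2
  rw [← h c hc3]
  simp [mulL, List.getD_eq_getElem?_getD, List.getElem?_map, List.getElem?_eq_getElem hc2]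

/-- An inverse, from the checks of the columns. -/
theorem Img.inv7 {A D : List ℕ} (hA : Img A) (hl : D.length = 111)
    (h0 : ∀ i, i < 16 → Qx A D (i + 0)) (h16 : ∀ i, i < 16 → Qx A D (i + 16))
    (h32 : ∀ i, i < 16 → Qx A D (i + 32)) (h48 : ∀ i, i < 16 → Qx A D (i + 48))
    (h64 : ∀ i, i < 16 → Qx A D (i + 64)) (h80 : ∀ i, i < 16 → Qx A D (i + 80))
    (h96 : ∀ i, i < 15 → Qx A D (i + 96)) : Img D := by
  have h := chunks h0 h16 h32 h48 h64 h80 h96
  have hD' : Good 2048 5 111 D := by
    refine ⟨hl, fun c hc => ?_⟩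
    obtain ⟨k, hk, rfl⟩ := List.getElem_of_mem hc
    have h1 := (h k (by omega)).1
    rw [List.getD_eq_getElem _ _ hk] at h1
    rw [← h1]
    exact ⟨redu_lt (B := 2048) (p := 5) (by norm_num) (by norm_num) (by norm_num) 111 _,
      rd_redu (B := 2048) (p := 5) (by norm_num) (by norm_num) (by norm_num) 111 _⟩
  obtain ⟨h1, g, hg⟩ := hA
  refine ⟨hD', g⁻¹, ?_⟩
  have e : mulL 2048 5 111 A D = idL 2048 111 := by
    refine eq_of_getD (by simpa [mulL, idL] using hl) ?_
    intro c hc
    have hc2 : c < D.length := by simpa [mulL] using hc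
    have hc3 : c < 111 := by rwa [hl] at hc2
    have h3 := (h c hc3).2
    have h4 : (idL 2048 111).getD c 0 = 2048 ^ c := by
      simp [idL, List.getD_eq_getElem?_getD, List.getElem?_map, hc3]
    rw [h4, ← h3]
    simp [mulL, List.getD_eq_getElem?_getD, List.getElem?_map, List.getElem?_eq_getElem hc2]
  have h2 : mat 2048 5 111 A * mat 2048 5 111 D = 1 := by
    rw [← mat_mulL par h1 hD', e, mat_idL par]
  rw [← hg] at h2
  have h3 : ((rho g)⁻¹ : Matrix.GeneralLinearGroup (Fin 111) (ZMod 5)).val * ((rho g).val * mat 2048 5 111 D) =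
      ((rho g)⁻¹ : Matrix.GeneralLinearGroup (Fin 111) (ZMod 5)).val := by rw [h2, mul_one]
  rw [← mul_assoc, ← Units.val_mul, inv_mul_cancel, Units.val_one, one_mul] at h3
  rw [map_inv]
  exact h3.symm

/-- The vectors of the space. -/
abbrev VV := Fin 111 → ZMod 5

/-- The action of the group on the space. -/
@[reducible] noncomputable def vAct : MulAction RG VV where
  smul g v := (rho g).val *ᵥ v
  one_smul v := by
    show (rho 1).val *ᵥ v = v
    rw [map_one, Units.val_one, Matrix.one_mulVec]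
  mul_smul g h v := by
    show (rho (g * h)).val *ᵥ v = (rho g).val *ᵥ ((rho h).val *ᵥ v)
    rw [map_mul, Units.val_mul, Matrix.mulVec_mulVec]

section table

variable {S : List (List ℕ)} {key par' gen dep imgs : ℕ → ℕ} {n m v0 i0 : ℕ}

/-- The images of the generators in a table: the loop. -/
noncomputable def imgLoop (key : ℕ → ℕ) (act : ℕ → ℕ → ℕ) (n : ℕ) (imgs : ℕ → ℕ) (i m : ℕ) : Bool :=
  Nat.rec (motive := fun _ => Bool) true
    (fun s ih => Bool.and ih
      (Bool.and (Nat.blt (Nat.land (Nat.shiftRight (imgs i) (Nat.mul 16 s)) 65535) n)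
        (Nat.beq (act s (key i)) (key (Nat.land (Nat.shiftRight (imgs i) (Nat.mul 16 s)) 65535))))) m

/-- The images of the generators in a table. -/
noncomputable def imgOK (key : ℕ → ℕ) (act : ℕ → ℕ → ℕ) (n m : ℕ) (imgs : ℕ → ℕ) (i : ℕ) : Bool :=
  Bool.or (Nat.ble n i) (imgLoop key act n imgs i m)

theorem imgLoop_spec {key : ℕ → ℕ} {act : ℕ → ℕ → ℕ} {n m : ℕ} {imgs : ℕ → ℕ} {i : ℕ}
    (h : imgLoop key act n imgs i m = true) : ∀ s, s < m → ∃ j, j < n ∧ act s (key i) = key j := by
  induction m with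
  | zero => intro s hs; omega
  | succ m ih =>
    have h2 : Bool.and (imgLoop key act n imgs i m)
      (Bool.and (Nat.blt (Nat.land (Nat.shiftRight (imgs i) (Nat.mul 16 m)) 65535) n)
        (Nat.beq (act m (key i)) (key (Nat.land (Nat.shiftRight (imgs i) (Nat.mul 16 m)) 65535)))) = true := h
    simp only [Bool.and_eq_true] at h2
    obtain ⟨h3, h4, h5⟩ := h2
    intro s hs
    by_cases e : s = m
    · subst e
      exact ⟨_, by simpa [Nat.blt_eq] using h4, Nat.eq_of_beq_eq_true h5⟩
    · exact ih h3 s (by omega)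

theorem imgOK_spec {key : ℕ → ℕ} {act : ℕ → ℕ → ℕ} {n m : ℕ} {imgs : ℕ → ℕ} {i : ℕ} (h : imgOK key act n m imgs i = true)
    (hi : i < n) : ∀ s, s < m → ∃ j, j < n ∧ act s (key i) = key j := by
  have h1 : Nat.ble n i = false := by
    rw [← Bool.not_eq_true, Nat.ble_eq]
    omega
  unfold imgOK at h
  rw [h1] at h
  exact imgLoop_spec h

/-- The action of the matrices of a list of columns. -/
noncomputable def actS (S : List (List ℕ)) (s x : ℕ) : ℕ := mv 2048 5 111 (S.getD s (idL 2048 111)) x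

/-- A reduced code from a literal. -/
theorem code_inj' {x y : ℕ} (hx : Rd 2048 5 x) (hy : Rd 2048 5 y) (hx2 : x < 2048 ^ 111) (hy2 : y < 2048 ^ 111)
    (h : decV 2048 5 111 x = decV 2048 5 111 y) : x = y := by
  rw [eq_val (B := 2048) (by norm_num) 111 x hx2, eq_val (B := 2048) (by norm_num) 111 y hy2]
  unfold val
  refine Finset.sum_congr rfl fun i hi => ?_
  have hi' : i < 111 := Finset.mem_range.mp hi
  have h1 := congrFun h ⟨i, hi'⟩
  simp only [decV] at h1
  have h2 := (ZMod.natCast_eq_natCast_iff' _ _ 5).mp h1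
  rw [Nat.mod_eq_of_lt (hx i), Nat.mod_eq_of_lt (hy i)] at h2
  rw [h2]

theorem mv_lt111 (c : List ℕ) (u : ℕ) : mv 2048 5 111 c u < 2048 ^ 111 := by
  unfold mv
  exact redu_lt (B := 2048) (p := 5) (by norm_num) (by norm_num) (by norm_num) 111 _

theorem img_getD (hS : ∀ c ∈ S, Img c) (s : ℕ) : Img (S.getD s (idL 2048 111)) := by
  by_cases hg : s < S.length
  · rw [List.getD_eq_getElem _ _ hg]
    exact hS _ (List.getElem_mem hg)
  · rw [List.getD_eq_default _ _ (by omega)]
    exact Img.id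

/-- The main theorem on tables: the order of the group is divisible by the number of rows. -/
theorem table_dvd [Finite RG] (hS : ∀ c ∈ S, Img c) (hm : S.length = m)
    (hv : redu 2048 5 111 v0 = v0) (hi0 : i0 < n) (hk0 : key i0 = v0)
    (h : ∀ i, i < n → rowOK key par' gen dep (actS S) v0 n i = true)
    (h2 : ∀ i, i < n → imgOK key (actS S) n m imgs i = true) : n ∣ Nat.card RG := by
  classical
  letI := vAct
  have hP : Cfsg.Agent.Lib.FpVec.Par 2048 5 111 := Cfsg.Agent.Lib.LyV111.par
  have hdec : ∀ (s x : ℕ), Rd 2048 5 x → ∀ g : RG, (rho g).val = mat 2048 5 111 (S.getD s (idL 2048 111)) →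
      decV 2048 5 111 (actS S s x) = g • decV 2048 5 111 x := by
    intro s x hx g hg
    have h1 := decV_mv_good hP (img_getD hS s).1 hx
    show decV 2048 5 111 (mv 2048 5 111 _ x) = (rho g).val *ᵥ _
    rw [h1, hg]
  -- the generators
  let X : Set RG := {g | ∃ s, (rho g).val = mat 2048 5 111 (S.getD s (idL 2048 111))}
  let PP : Subgroup RG := Subgroup.closure X
  have hv1 : Rd 2048 5 v0 := by
    rw [← hv]
    exact rd_redu (B := 2048) (p := 5) (by norm_num) (by norm_num) (by norm_num) 111 v0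
  have hv2 : v0 < 2048 ^ 111 := by
    rw [← hv]
    exact redu_lt (B := 2048) (p := 5) (by norm_num) (by norm_num) (by norm_num) 111 v0
  -- every code is reached
  have hreach := reach_all h (fun x => Rd 2048 5 x ∧ x < 2048 ^ 111 ∧ ∃ g ∈ PP, decV 2048 5 111 x = g • decV 2048 5 111 v0)
    ⟨hv1, hv2, 1, PP.one_mem, (one_smul _ _).symm⟩ (by
    rintro s x ⟨h1, h3, g, hg, e⟩
    obtain ⟨-, t, ht⟩ := img_getD hS s
    refine ⟨rd_mv hP _ _, mv_lt111 _ _, t * g, PP.mul_mem (Subgroup.subset_closure ⟨s, ht⟩) hg, ?_⟩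
    rw [hdec s x h1 t ht, e, mul_smul])
  -- the set of codes
  let O : Set VV := (fun i => decV 2048 5 111 (key i)) '' {i | i < n}
  have hO : ∀ g ∈ PP, ∀ x ∈ O, g • x ∈ O := by
    have hT : ∀ g ∈ X, ∀ x ∈ O, g • x ∈ O := by
      rintro g ⟨s, hs⟩ _ ⟨i, hi, rfl⟩
      have hi' : i < n := hi
      by_cases hsm : s < m
      · obtain ⟨j, hj, e⟩ := imgOK_spec (h2 i hi') hi' s hsm
        refine ⟨j, hj, ?_⟩
        show decV 2048 5 111 (key j) = g • decV 2048 5 111 (key i)
        rw [← e, hdec s _ (hreach i hi').1 g hs]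
      · have e : S.getD s (idL 2048 111) = idL 2048 111 := List.getD_eq_default _ _ (by omega)
        rw [e, mat_idL hP] at hs
        refine ⟨i, hi, ?_⟩
        show decV 2048 5 111 (key i) = (rho g).val *ᵥ _
        rw [hs, Matrix.one_mulVec]
    intro g hg
    induction hg using Subgroup.closure_induction with
    | mem g hg => exact hT g hg
    | one => intro x hx; rwa [one_smul]
    | mul a b _ _ ha hb => intro x hx; rw [mul_smul]; exact ha _ (hb _ hx)
    | inv a _ ha =>
      intro x hx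
      have h3 : ∀ k : ℕ, ∀ x ∈ O, a ^ k • x ∈ O := by
        intro k
        induction k with
        | zero => intro x hx; rwa [pow_zero, one_smul]
        | succ k ih => intro x hx; rw [pow_succ, mul_smul]; exact ih _ (ha _ hx)
      have h4 : a⁻¹ = a ^ (orderOf a - 1) := by
        have h5 := orderOf_pos a
        rw [eq_comm, ← mul_eq_one_iff_eq_inv, ← pow_succ]
        rw [Nat.sub_add_cancel h5, pow_orderOf_eq_one]
      rw [h4]
      exact h3 _ x hx
  -- the orbit
  have hroot : decV 2048 5 111 v0 ∈ O := ⟨i0, hi0, by simp [hk0]⟩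
  let y : VV := decV 2048 5 111 v0
  let e1 : Fin n → MulAction.orbit PP y := fun i => ⟨decV 2048 5 111 (key i), by
    obtain ⟨-, -, g, hg, e⟩ := hreach i i.2
    exact ⟨⟨g, hg⟩, e.symm⟩⟩
  have he1 : Function.Bijective e1 := by
    constructor
    · intro i j e
      have e2 : decV 2048 5 111 (key i) = decV 2048 5 111 (key j) := congrArg Subtype.val e
      have hi := hreach i i.2
      have hj := hreach j j.2
      exact Fin.ext (key_inj h i.2 j.2 (code_inj' hi.1 hj.1 hi.2.1 hj.2.1 e2))
    · rintro ⟨_, ⟨g, rfl⟩⟩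
      obtain ⟨i, hi, e⟩ := hO g.1 g.2 _ hroot
      exact ⟨⟨i, hi⟩, Subtype.ext e⟩
  have hcard : Nat.card (MulAction.orbit PP y) = n := by
    rw [← Nat.card_congr (Equiv.ofBijective e1 he1)]
    simp
  have h3 : Nat.card (MulAction.orbit PP y) = (MulAction.stabilizer PP y).index :=
    Nat.card_congr (MulAction.orbitEquivQuotientStabilizer PP y)
  rw [← hcard, h3]
  exact (Subgroup.index_dvd_card _).trans (Subgroup.card_subgroup_dvd_card PP)

end table

theorem upto_step {F : ℕ → Bool} {a d b : ℕ} (h1 : ∀ i, i < a → F i = true) (h2 : allR F d a = true)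
    (e : a + 2 ^ d = b) : ∀ i, i < b → F i = true := by
  intro i hi
  by_cases h : i < a
  · exact h1 i h
  · exact allR_spec F d a h2 i (by omega) (by omega)

theorem upto_zero {F : ℕ → Bool} : ∀ i, i < 0 → F i = true := fun i hi => absurd hi (Nat.not_lt_zero i)

end Cfsg.Agent.Lib.LyDce
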