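import Mathlib
import Cfsg.Agent.Lib.LyDce.VImg

/-!
# The presented Lyons group: elements with known matrices
-/

set_option autoImplicit false
set_option maxRecDepth 100000
set_option linter.all false
set_option Elab.async false
set_option maxHeartbeats 0

namespace Cfsg.Agent.Lib.LyDce

open Cfsg.Spor.Ly Cfsg.Agent.Lib.FpVec Cfsg.Agent.Lib.LyV111 Cfsg.Agent.Lib.VecOrb Matrix

/-- An element with its matrix, by columns. -/
def Rep (g : RG) (X : List ℕ) : Prop :=
  Good 2048 5 111 X ∧ ((rho g : Matrix.GeneralLinearGroup (Fin 111) (ZMod 5)) : Matrix (Fin 111) (Fin 111) (ZMod 5)) =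
    mat 2048 5 111 X

theorem Rep.of_img {X : List ℕ} (h : Img X) : ∃ g, Rep g X := by
  obtain ⟨h1, g, hg⟩ := h
  exact ⟨g, h1, hg⟩

theorem Rep.letter (x : Gen) (h : ex x = [(x, true)]) : Rep (PresentedGroup.of x) (M x) := by
  refine ⟨good_of_valid par (valid_M x), ?_⟩
  rw [rho_of x h]
  rfl

theorem Rep.letterI (x : Gen) (h : ex x = [(x, true)]) : Rep (PresentedGroup.of x)⁻¹ (I x) := by
  refine ⟨good_of_valid par (valid_I x), ?_⟩
  rw [map_inv, rho_of x h]
  rfl

theorem Rep.one : Rep 1 (idL 2048 111) := by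
  refine ⟨good_idL par (by norm_num), ?_⟩
  rw [map_one, Units.val_one, mat_idL par]

/-- A product of columns, from the checks of the columns. -/
theorem Rep.mul7 {A C D : List ℕ} {g g' : RG} (hA : Rep g A) (hC : Rep g' C) (hl : D.length = 111)
    (h0 : ∀ i, i < 16 → Px A C D (i + 0)) (h16 : ∀ i, i < 16 → Px A C D (i + 16))
    (h32 : ∀ i, i < 16 → Px A C D (i + 32)) (h48 : ∀ i, i < 16 → Px A C D (i + 48))
    (h64 : ∀ i, i < 16 → Px A C D (i + 64)) (h80 : ∀ i, i < 16 → Px A C D (i + 80))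
    (h96 : ∀ i, i < 15 → Px A C D (i + 96)) : Rep (g * g') D := by
  have h := chunks h0 h16 h32 h48 h64 h80 h96
  have e : mulL 2048 5 111 A C = D := by
    refine eq_of_getD (by rw [hl]; simpa [mulL] using hC.1.1) ?_
    intro c hc
    have hc2 : c < C.length := by simpa [mulL] using hc
    have hc3 : c < 111 := by rwa [hC.1.1] at hc2
    rw [← h c hc3]
    simp [mulL, List.getD_eq_getElem?_getD, List.getElem?_map, List.getElem?_eq_getElem hc2]
  subst e
  refine ⟨good_mulL par hC.1, ?_⟩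
  rw [mat_mulL par hA.1 hC.1, map_mul, Units.val_mul, hA.2, hC.2]

/-- An inverse, from the checks of the columns. -/
theorem Rep.inv7 {A D : List ℕ} {g : RG} (hA : Rep g A) (hl : D.length = 111)
    (h0 : ∀ i, i < 16 → Qx A D (i + 0)) (h16 : ∀ i, i < 16 → Qx A D (i + 16))
    (h32 : ∀ i, i < 16 → Qx A D (i + 32)) (h48 : ∀ i, i < 16 → Qx A D (i + 48))
    (h64 : ∀ i, i < 16 → Qx A D (i + 64)) (h80 : ∀ i, i < 16 → Qx A D (i + 80))
    (h96 : ∀ i, i < 15 → Qx A D (i + 96)) : Rep g⁻¹ D := by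
  have h := chunks h0 h16 h32 h48 h64 h80 h96
  have hD' : Good 2048 5 111 D := by
    refine ⟨hl, fun c hc => ?_⟩
    obtain ⟨k, hk, rfl⟩ := List.getElem_of_mem hc
    have h1 := (h k (by omega)).1
    rw [List.getD_eq_getElem _ _ hk] at h1
    rw [← h1]
    exact ⟨redu_lt (B := 2048) (p := 5) (by norm_num) (by norm_num) (by norm_num) 111 _,
      rd_redu (B := 2048) (p := 5) (by norm_num) (by norm_num) (by norm_num) 111 _⟩
  obtain ⟨h1, hg⟩ := hA
  refine ⟨hD', ?_⟩
  have e : mulL 2048 5 111 A D = idL 2048 111 := by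
    refine eq_of_getD (by simpa [mulL, idL] using hl) ?_
    intro c hc
    have hc2 : c < D.length := by simpa [mulL] using hc
    have hc3 : c < 111 := by rwa [hl] at hc2
    have h3 := (h c hc3).2
    have h4 : (idL 2048 111).getD c 0 = 2048 ^ c := by
      simp [idL, List.getD_eq_getElem?_getD, List.getElem?_map, hc3]
    rw [h4, ← h3]
    simp [mulL, List.getD_eq_getElem?_getD, List.getElem?_map, List.getElem?_eq_getElem hc2]
  have h2 : mat 2048 5 111 A * mat 2048 5 111 D = 1 := by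
    rw [← mat_mulL par h1 hD', e, mat_idL par]
  rw [← hg] at h2
  have h3 : ((rho g)⁻¹ : Matrix.GeneralLinearGroup (Fin 111) (ZMod 5)).val * ((rho g).val * mat 2048 5 111 D) =
      ((rho g)⁻¹ : Matrix.GeneralLinearGroup (Fin 111) (ZMod 5)).val := by rw [h2, mul_one]
  rw [← mul_assoc, ← Units.val_mul, inv_mul_cancel, Units.val_one, one_mul] at h3
  rw [map_inv]
  exact h3.symm

theorem rho_a_ne : rho (PresentedGroup.of Gen.a) ≠ 1 := by
  intro h1
  have h2 : rho (PresentedGroup.of Gen.a) = gl Gen.a := rho_of Gen.a rfl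
  rw [h2] at h1
  have h4 : mat 2048 5 111 (M Gen.a) = 1 := congrArg Units.val h1
  have h5 := congrFun (congrFun h4 ⟨0, by norm_num⟩) ⟨1, by norm_num⟩
  rw [Matrix.one_apply_ne (by decide)] at h5
  revert h5
  decide +kernel

end Cfsg.Agent.Lib.LyDce
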